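import Groth.Agent.GrpschAbsch.RigidityGen
import Mathlib.CategoryTheory.Monoidal.Cartesian.Over
import Mathlib.CategoryTheory.Monoidal.Cartesian.Grp

set_option autoImplicit false

/-!
Rigidity consequences for abelian schemes over an arbitrary base.
-/

universe u

open CategoryTheory CategoryTheory.Limits AlgebraicGeometry
open MonoidalCategory CartesianMonoidalCategory MonObj GrpObj
open Groth.GrpschAbsch

namespace Groth.GrpschAbsch.AbSchRigid

variable {S : Scheme.{u}}

/-- A morphism with trivial restriction to the axes is trivial. -/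
theorem eq_one_of_axes (X X' Y : Over S) [GeometricallyConnected X.hom]
    [IsProper X'.hom] [Flat X'.hom] [LocallyOfFinitePresentation X'.hom]
    [GeometricallyReduced X'.hom] [GeometricallyConnected X'.hom]
    [GrpObj Y] [IsSeparated Y.hom]
    (e : 𝟙_ (Over S) ⟶ X) (e' : 𝟙_ (Over S) ⟶ X') (d : X ⊗ X' ⟶ Y)
    (h₁ : lift (toUnit X' ≫ e) (𝟙 X') ≫ d = 1) (h₂ : lift (𝟙 X) (toUnit X ≫ e') ≫ d = 1) :
    d = 1 := by
  let ξ : (X ⊗ X').left ⟶ X.left := (fst X X').left
  have hξ : ξ = pullback.fst X.hom X'.hom := rfl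
  have : IsProper ξ := inferInstanceAs (IsProper (pullback.fst X.hom X'.hom))
  have : Flat ξ := inferInstanceAs (Flat (pullback.fst X.hom X'.hom))
  have : LocallyOfFinitePresentation ξ := inferInstanceAs (LocallyOfFinitePresentation (pullback.fst X.hom X'.hom))
  have : GeometricallyReduced ξ := inferInstanceAs (GeometricallyReduced (pullback.fst X.hom X'.hom))
  have : GeometricallyConnected ξ := MorphismProperty.pullback_fst (P := @GeometricallyConnected) X.hom X'.hom ‹_›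
  have h0 := H0General.app_bijective ξ
  have hd : d.left ≫ Y.hom = ξ ≫ X.hom := by rw [Over.w d, Over.w (fst X X')]
  -- the unit section of the first factor
  let i : X' ⟶ X ⊗ X' := lift (toUnit X' ≫ e) (𝟙 X')
  have he : e.left ≫ X.hom = 𝟙 S := Over.w e
  have sq : IsPullback i.left X'.hom ξ e.left := by
    refine IsPullback.of_right ?_ ?_ (IsPullback.of_hasPullback X.hom X'.hom).flip
    · have hi : i.left ≫ pullback.snd X.hom X'.hom = 𝟙 X'.left :=
        congr(($(lift_snd (toUnit X' ≫ e) (𝟙 X'))).left)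
      rw [hi, he]
      exact IsPullback.of_horiz_isIso ⟨by simp⟩
    · exact congr(($(lift_fst (toUnit X' ≫ e) (𝟙 X'))).left)
  have hcol : ∀ s, e.left s ∈ Rigid.collapseSet ξ d.left := by
    intro s
    have hpt : ∀ z, ξ z = e.left s → d.left z = (η[Y] : 𝟙_ (Over S) ⟶ Y).left s := by
      intro z hz
      obtain ⟨w, hw₁, hw₂⟩ := Scheme.Pullback.exists_preimage_pullback z s (f := ξ) (g := e.left) hz
      have h : d.left (i.left (sq.isoPullback.inv w)) = (1 : X' ⟶ Y).left (sq.isoPullback.inv w) :=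
        (Scheme.Hom.comp_apply i.left d.left _).symm.trans congr(($h₁).left (sq.isoPullback.inv w))
      rw [← Scheme.Hom.comp_apply sq.isoPullback.inv i.left, sq.isoPullback_inv_fst, hw₁] at h
      refine h.trans ?_
      rw [Hom.one_def]
      show η[Y].left (X'.hom (sq.isoPullback.inv w)) = _
      rw [← Scheme.Hom.comp_apply sq.isoPullback.inv, sq.isoPullback_inv_snd, hw₂]
    rintro _ ⟨z₁, hz₁, rfl⟩ _ ⟨z₂, hz₂, rfl⟩
    rw [hpt z₁ hz₁, hpt z₂ hz₂]
  -- the collapsed locus is everything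
  have hop := RigidGen.isOpen_collapseSet ξ h0 d.left
  have hcl := RigidGen.isClosed_collapseSet ξ h0 d.left Y.hom X.hom hd
  have hall : ∀ p, p ∈ Rigid.collapseSet ξ d.left := by
    intro p
    have hconn : _root_.IsPreconnected (X.hom ⁻¹' {X.hom p}) :=
      (X.hom.isConnected_preimage_singleton (X.hom p)).isPreconnected
    have hmem : e.left (X.hom p) ∈ X.hom ⁻¹' {X.hom p} := by
      show X.hom (e.left (X.hom p)) = X.hom p
      rw [← Scheme.Hom.comp_apply, he]
      rfl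
    exact hconn.subset_isClopen ⟨hcl, hop⟩ ⟨_, hmem, hcol _⟩ rfl
  obtain ⟨σ, hσ⟩ := RigidGen.exists_desc_top ξ h0 d.left hall
  have hσ1 : σ = (1 : X ⟶ Y).left := by
    have h3 : (lift (𝟙 X) (toUnit X ≫ e')).left ≫ ξ = 𝟙 X.left :=
      congr(($(lift_fst (𝟙 X) (toUnit X ≫ e'))).left)
    have h := congr(($h₂).left)
    rw [Over.comp_left, ← hσ, reassoc_of% h3] at h
    exact h
  refine Over.OverMorphism.ext ?_
  rw [← hσ, hσ1]
  show ((fst X X') ≫ (1 : X ⟶ Y)).left = _
  rw [MonObj.comp_one]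

/-- Morphisms of the fibre over a point are detected on `fiberι`. -/
theorem exists_clopen_eq (X Y : Over S) [IsProper X.hom] [Flat X.hom] [LocallyOfFinitePresentation X.hom]
    [GeometricallyReduced X.hom] [GeometricallyConnected X.hom] [GrpObj Y] [IsSeparated Y.hom]
    (e : 𝟙_ (Over S) ⟶ X) (f g : X ⟶ Y) (he : e ≫ f = e ≫ g) (s : S)
    (hs : X.hom.fiberι s ≫ f.left = X.hom.fiberι s ≫ g.left) :
    ∃ W : S.Opens, IsClosed (W : Set S) ∧ s ∈ W ∧
      (X.hom ⁻¹ᵁ W).ι ≫ f.left = (X.hom ⁻¹ᵁ W).ι ≫ g.left := by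
  let d : X ⟶ Y := f * g⁻¹
  have h0 := H0General.app_bijective X.hom
  have hd : d.left ≫ Y.hom = X.hom ≫ 𝟙 S := by rw [Over.w d, Category.comp_id]
  have hmem : s ∈ Rigid.collapseSet X.hom d.left := by
    let F : Over S := Over.mk (X.hom.fiberι s ≫ X.hom)
    let k : F ⟶ X := Over.homMk (X.hom.fiberι s) rfl
    have hk : k ≫ d = 1 := by
      show k ≫ (f * g⁻¹) = 1
      rw [MonObj.comp_mul, GrpObj.comp_inv, show k ≫ f = k ≫ g from Over.OverMorphism.ext hs, mul_inv_cancel]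
    have hpt : ∀ x, X.hom x = s → d.left x = (η[Y] : 𝟙_ (Over S) ⟶ Y).left s := by
      intro x hx
      obtain ⟨w, rfl⟩ : x ∈ Set.range (X.hom.fiberι s) := by rw [Scheme.Hom.range_fiberι]; exact hx
      have h := congr(($hk).left w)
      simp only [Over.comp_left, Scheme.Hom.comp_apply] at h
      refine h.trans ?_
      rw [Hom.one_def]
      show η[Y].left ((X.hom.fiberι s ≫ X.hom) w) = _
      rw [Scheme.Hom.comp_apply, hx]
    rintro _ ⟨x₁, hx₁, rfl⟩ _ ⟨x₂, hx₂, rfl⟩
    rw [hpt x₁ hx₁, hpt x₂ hx₂]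
  let W : S.Opens := ⟨Rigid.collapseSet X.hom d.left, RigidGen.isOpen_collapseSet X.hom h0 d.left⟩
  obtain ⟨σ, hσ⟩ := RigidGen.exists_desc X.hom h0 d.left W subset_rfl
  refine ⟨W, RigidGen.isClosed_collapseSet X.hom h0 d.left Y.hom (𝟙 S) hd, hmem, ?_⟩
  let XW : Over S := Over.mk ((X.hom ⁻¹ᵁ W).ι ≫ X.hom)
  let SW : Over S := Over.mk W.ι
  let k : XW ⟶ X := Over.homMk (X.hom ⁻¹ᵁ W).ι rfl
  have heX : e.left ≫ X.hom = 𝟙 S := Over.w e
  let j : W.toScheme ⟶ (X.hom ⁻¹ᵁ W).toScheme :=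
    IsOpenImmersion.lift (X.hom ⁻¹ᵁ W).ι (W.ι ≫ e.left) (by
      rw [Scheme.Opens.range_ι]
      rintro _ ⟨w, rfl⟩
      show X.hom ((W.ι ≫ e.left) w) ∈ W
      rw [← Scheme.Hom.comp_apply, Category.assoc, heX, Category.comp_id]
      exact w.2)
  have hj : j ≫ (X.hom ∣_ W) = 𝟙 _ := by
    rw [← cancel_mono W.ι, Category.assoc, morphismRestrict_ι, IsOpenImmersion.lift_fac_assoc, Category.assoc, heX,
      Category.comp_id, Category.id_comp]
  have hj2 : j ≫ (X.hom ⁻¹ᵁ W).ι = W.ι ≫ e.left := IsOpenImmersion.lift_fac _ _ _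
  have hσ1 : σ = W.ι ≫ (η[Y] : 𝟙_ (Over S) ⟶ Y).left := by
    have h := congrArg (j ≫ ·) hσ
    simp only [reassoc_of% hj, reassoc_of% hj2] at h
    rw [h, ← Over.comp_left]
    refine congrArg (fun φ : 𝟙_ (Over S) ⟶ Y ↦ W.ι ≫ φ.left) ?_
    show e ≫ (f * g⁻¹) = η
    rw [MonObj.comp_mul, GrpObj.comp_inv, he, mul_inv_cancel, Hom.one_def, toUnit_unique (toUnit _) (𝟙 _),
      Category.id_comp]
  have hk : k ≫ d = 1 := by
    refine Over.OverMorphism.ext ?_
    rw [Hom.one_def]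
    show (X.hom ⁻¹ᵁ W).ι ≫ d.left = ((X.hom ⁻¹ᵁ W).ι ≫ X.hom) ≫ η[Y].left
    rw [← hσ, hσ1, morphismRestrict_ι_assoc, Category.assoc]
  have : k ≫ f = k ≫ g := by
    refine mul_inv_eq_one.mp ?_
    rw [← GrpObj.comp_inv, ← MonObj.comp_mul]
    exact hk
  exact congr(($this).left)

/-- A morphism trivial on a section and killed by a finite homomorphism is trivial. -/
theorem eq_one_of_comp_finite (Z X Y : Over S) [IsProper Z.hom] [Flat Z.hom]
    [LocallyOfFinitePresentation Z.hom] [GeometricallyReduced Z.hom] [GeometricallyConnected Z.hom]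
    [GrpObj X] [IsSeparated X.hom] [GrpObj Y]
    (e : 𝟙_ (Over S) ⟶ Z) (d : Z ⟶ X) (φ : X ⟶ Y) [IsMonHom φ] [IsFinite φ.left]
    (he : e ≫ d = 1) (hd : d ≫ φ = 1) : d = 1 := by
  have h0 := H0General.app_bijective Z.hom
  have hcol : ∀ s, s ∈ Rigid.collapseSet Z.hom d.left := by
    intro s
    have hconn : _root_.IsPreconnected (d.left '' (Z.hom ⁻¹' {s})) :=
      (Z.hom.isConnected_preimage_singleton s).isPreconnected.image _ d.left.continuous.continuousOn
    have hsub : d.left '' (Z.hom ⁻¹' {s}) ⊆ φ.left ⁻¹' {η[Y].left s} := by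
      rintro _ ⟨z, hz, rfl⟩
      show φ.left (d.left z) = _
      rw [← Scheme.Hom.comp_apply, ← Over.comp_left, hd, Hom.one_def]
      show η[Y].left (Z.hom z) = _
      rw [show Z.hom z = s from hz]
    have : DiscreteTopology ↥(d.left '' (Z.hom ⁻¹' {s})) :=
      ((φ.left.isDiscrete_preimage_singleton _).mono hsub).to_subtype
    have : PreconnectedSpace ↥(d.left '' (Z.hom ⁻¹' {s})) := Subtype.preconnectedSpace hconn
    have := PreconnectedSpace.trivial_of_discrete (X := ↥(d.left '' (Z.hom ⁻¹' {s})))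
    exact Set.subsingleton_coe _ |>.mp this
  obtain ⟨σ, hσ⟩ := RigidGen.exists_desc_top Z.hom h0 d.left hcol
  have hσ1 : σ = η[X].left := by
    have h := congr(($he).left)
    rw [Over.comp_left, ← hσ, reassoc_of% (Over.w e : e.left ≫ Z.hom = 𝟙 S)] at h
    rw [Hom.one_def, toUnit_unique (toUnit _) (𝟙 _), Category.id_comp] at h
    exact (Category.id_comp σ).symm.trans h
  refine Over.OverMorphism.ext ?_
  rw [← hσ, hσ1, Hom.one_def]
  rfl

end Groth.GrpschAbsch.AbSchRigid
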