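import Groth.Agent.GrpschAbsch.ImageSubgroup
import Mathlib.AlgebraicGeometry.AlgClosed.Basic
import Mathlib.AlgebraicGeometry.Noetherian
import Mathlib.Topology.JacobsonSpace

/-!
Over an algebraically closed field the connected components of a group scheme locally of finite type
are its irreducible components.
-/

universe u

open CategoryTheory CategoryTheory.Limits MonoidalCategory CartesianMonoidalCategory MonObj GrpObj
  AlgebraicGeometry TopologicalSpace

namespace Groth.GrpschAbsch

/-- A clopen irreducible component is the connected component of each of its points. -/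
lemma connectedComponent_eq_of_isOpen {X : Type*} [TopologicalSpace X] {C : Set X}
    (hC : C ∈ irreducibleComponents X) (ho : IsOpen C) {x : X} (hx : x ∈ C) :
    connectedComponent x = C :=
  (IsClopen.connectedComponent_subset ⟨isClosed_of_mem_irreducibleComponents _ hC, ho⟩ hx).antisymm
    (hC.1.isConnected.subset_connectedComponent hx)

variable {k : Type u} [Field k] [IsAlgClosed k]
  (G : Over (Spec (CommRingCat.of k))) [GrpObj G] [LocallyOfFiniteType G.hom]

/-- Translations move any closed point to any other one. -/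
lemma exists_homeomorph_closedPoint {x y : G.left} (hx : IsClosed {x}) (hy : IsClosed {y}) :
    ∃ φ : G.left ≃ₜ G.left, φ x = y := by
  let x' : 𝟙_ _ ⟶ G := Over.homMk _ ((pointEquivClosedPoint G.hom).symm ⟨x, hx⟩).2
  let y' : 𝟙_ _ ⟶ G := Over.homMk _ ((pointEquivClosedPoint G.hom).symm ⟨y, hy⟩).2
  let α := (GrpObj.mulRight (A := G) x').symm ≪≫ GrpObj.mulRight (A := G) y'
  have hα : x' ≫ α.hom = y' := by
    dsimp only [Iso.trans_hom, Iso.symm_hom, α]
    rw [← Category.assoc, ← Iso.eq_comp_inv]
    simp [comp_lift_assoc]
  refine ⟨leftHomeo α, ?_⟩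
  have h := congr(($hα).left (IsLocalRing.closedPoint k))
  simp only [Over.comp_left, Scheme.Hom.comp_apply, x', y', Over.homMk_left] at h
  exact (congrArg α.hom.left.base (pointOfClosedPoint_apply G.hom x hx _)).symm.trans
    (h.trans (pointOfClosedPoint_apply G.hom y hy _))

omit [IsAlgClosed k] [GrpObj G] in
/-- Finitely many components meet an affine open. -/
lemma finite_components_meeting (V : G.left.Opens) (hV : IsAffineOpen V) :
    {C ∈ irreducibleComponents G.left | (C ∩ V).Nonempty}.Finite := by
  have := LocallyOfFiniteType.isLocallyNoetherian G.hom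
  have : IsNoetherianRing Γ(G.left, V) := IsLocallyNoetherian.component_noetherian ⟨V, hV⟩
  have hN : NoetherianSpace ↥(V : Set G.left) := noetherianSpace_of_isAffineOpen V hV
  have he : Topology.IsOpenEmbedding (Subtype.val : ↥(V : Set G.left) → G.left) :=
    V.isOpen.isOpenEmbedding_subtypeVal
  refine Set.Finite.of_finite_image (f := fun C ↦ (Subtype.val ⁻¹' C : Set ↥(V : Set G.left)))
    ((@NoetherianSpace.finite_irreducibleComponents _ _ hN).subset ?_) ?_
  · rintro - ⟨C, hC, rfl⟩
    exact preimage_mem_irreducibleComponents hC.1 he (by simpa using hC.2)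
  · intro C hC D hD hCD
    have key : ∀ E ∈ {C ∈ irreducibleComponents G.left | (C ∩ V).Nonempty},
        closure (Subtype.val '' (Subtype.val ⁻¹' E : Set ↥(V : Set G.left))) = E := fun E hE ↦ by
      obtain ⟨z, hzE, hzV⟩ := hE.2
      exact closure_image_preimage_of_isPreirreducible _ he.isOpenMap E ⟨⟨z, hzV⟩, hzE⟩ hE.1.1.2
        (isClosed_of_mem_irreducibleComponents _ hE.1)
    rw [← key C hC, ← key D hD]
    exact congrArg (fun T ↦ closure (Subtype.val '' T)) hCD

/-- Every closed point lies on a single component. -/
lemma components_eq_of_closedPoint {x : G.left} (hx : IsClosed {x}) {D E : Set G.left}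
    (hD : D ∈ irreducibleComponents G.left) (hE : E ∈ irreducibleComponents G.left)
    (hxD : x ∈ D) (hxE : x ∈ E) : D = E := by
  have := LocallyOfFiniteType.jacobsonSpace G.hom
  obtain ⟨V, hV, hxV, -⟩ := exists_isAffineOpen_mem_and_subset (x := x) (U := ⊤) trivial
  have hfin := finite_components_meeting G V hV
  let C := irreducibleComponent x
  have hC : C ∈ irreducibleComponents G.left := irreducibleComponent_mem_irreducibleComponents x
  let O := {C' ∈ irreducibleComponents G.left | (C' ∩ V).Nonempty} \ {C}
  have hcl : IsClosed (⋃ C' ∈ O, C') :=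
    hfin.sdiff.isClosed_biUnion fun C' h ↦ isClosed_of_mem_irreducibleComponents _ h.1.1
  have hne : (C ∩ (V : Set G.left) ∩ (⋃ C' ∈ O, C')ᶜ).Nonempty := by
    by_contra hemp
    have hsub : C ∩ (V : Set G.left) ⊆ ⋃ C' ∈ O, C' := fun z hz ↦
      not_not.mp fun h ↦ hemp ⟨z, hz, h⟩
    have hCV : C ⊆ ⋃₀ O := by
      refine (subset_closure_inter_of_isPreirreducible_of_isOpen hC.1.2 V.isOpen
        ⟨x, mem_irreducibleComponent, hxV⟩).trans (closure_minimal ?_ ?_)
      · rw [Set.sUnion_eq_biUnion]; exact hsub
      · rw [Set.sUnion_eq_biUnion]; exact hcl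
    obtain ⟨C', hC', hCC'⟩ := isIrreducible_iff_sUnion_isClosed.mp hC.1 hfin.sdiff.toFinset
      (fun C' h ↦ isClosed_of_mem_irreducibleComponents _ ((Set.Finite.mem_toFinset _).mp h).1.1)
      (by simpa using hCV)
    rw [Set.Finite.mem_toFinset] at hC'
    exact hC'.2 (le_antisymm (hC.2 hC'.1.1.1 hCC') hCC')
  obtain ⟨x₀, hx₀, hx₀c⟩ := nonempty_inter_closedPoints hne
    (((isClosed_of_mem_irreducibleComponents _ hC).isLocallyClosed.inter
      V.isOpen.isLocallyClosed).inter hcl.isOpen_compl.isLocallyClosed)
  have huniq : ∀ C' ∈ irreducibleComponents G.left, x₀ ∈ C' → C' = C := fun C' h h₀ ↦ by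
    by_contra hne'
    exact hx₀.2 (Set.mem_biUnion ⟨⟨h, x₀, h₀, hx₀.1.2⟩, hne'⟩ h₀)
  obtain ⟨φ, hφ⟩ := exists_homeomorph_closedPoint G hx hx₀c
  have him : ∀ F ∈ irreducibleComponents G.left, φ '' F ∈ irreducibleComponents G.left := fun F hF ↦
    image_mem_irreducibleComponents_of_isPreirreducible_fiber φ φ.continuous φ.isOpenMap
      (fun _ ↦ (Set.subsingleton_singleton.preimage φ.injective).isPreirreducible) φ.surjective hF
  have e1 := huniq _ (him D hD) ⟨x, hxD, hφ⟩
  have e2 := huniq _ (him E hE) ⟨x, hxE, hφ⟩
  exact φ.injective.image_injective (e1.trans e2.symm)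

/-- The irreducible components are open. -/
lemma isOpen_of_mem_irreducibleComponents' {C : Set G.left} (hC : C ∈ irreducibleComponents G.left) :
    IsOpen C := by
  have := LocallyOfFiniteType.jacobsonSpace G.hom
  have huniq : ∀ {y} {D E : Set G.left}, D ∈ irreducibleComponents G.left →
      E ∈ irreducibleComponents G.left → y ∈ D → y ∈ E → D = E := by
    intro y D E hD hE hyD hyE
    obtain ⟨z, hz, hzc⟩ := nonempty_inter_closedPoints (⟨y, hyD, hyE⟩ : (D ∩ E).Nonempty)
      ((isClosed_of_mem_irreducibleComponents _ hD).inter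
        (isClosed_of_mem_irreducibleComponents _ hE)).isLocallyClosed
    exact components_eq_of_closedPoint G hzc hD hE hz.1 hz.2
  refine isOpen_iff_forall_mem_open.mpr fun y hy ↦ ?_
  obtain ⟨V, hV, hyV, -⟩ := exists_isAffineOpen_mem_and_subset (x := y) (U := ⊤) trivial
  have hfin := finite_components_meeting G V hV
  let O := {C' ∈ irreducibleComponents G.left | (C' ∩ V).Nonempty} \ {C}
  refine ⟨(V : Set G.left) ∩ (⋃ C' ∈ O, C')ᶜ, fun z hz ↦ ?_,
    V.isOpen.inter (hfin.sdiff.isClosed_biUnion fun C' h ↦
      isClosed_of_mem_irreducibleComponents _ h.1.1).isOpen_compl, hyV, fun h ↦ ?_⟩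
  · by_contra hzC
    exact hz.2 (Set.mem_biUnion (x := irreducibleComponent z)
      ⟨⟨irreducibleComponent_mem_irreducibleComponents z, z, mem_irreducibleComponent, hz.1⟩,
        fun e ↦ hzC (e ▸ mem_irreducibleComponent)⟩ mem_irreducibleComponent)
  · simp only [Set.mem_iUnion] at h
    obtain ⟨C', hC', hy'⟩ := h
    exact hC'.2 (huniq hC'.1.1 hC hy' hy)

/-- Connected components are irreducible components. -/
theorem connectedComponent_eq_irreducibleComponent (x : G.left) :
    connectedComponent x = irreducibleComponent x :=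
  connectedComponent_eq_of_isOpen (irreducibleComponent_mem_irreducibleComponents x)
    (isOpen_of_mem_irreducibleComponents' G (irreducibleComponent_mem_irreducibleComponents x))
    mem_irreducibleComponent

theorem isIrreducible_connectedComponent (x : G.left) : IsIrreducible (connectedComponent x) := by
  rw [connectedComponent_eq_irreducibleComponent]; exact isIrreducible_irreducibleComponent

theorem isOpen_connectedComponent' (x : G.left) : IsOpen (connectedComponent x) := by
  rw [connectedComponent_eq_irreducibleComponent]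
  exact isOpen_of_mem_irreducibleComponents' G (irreducibleComponent_mem_irreducibleComponents x)

theorem irreducibleSpace_of_connected_lft [ConnectedSpace G.left] : IrreducibleSpace G.left := by
  have h := isIrreducible_connectedComponent G (η[G].left (IsLocalRing.closedPoint k))
  rw [PreconnectedSpace.connectedComponent_eq_univ] at h
  rw [irreducibleSpace_def]
  exact h

end Groth.GrpschAbsch
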