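import Groth.Agent.GrpschAbsch.IntegralDim
import Groth.Agent.GrpschAbsch.IdComp
import Groth.Agent.VarietyBC.Dim
import Groth.Agent.Variety2.DimFiber

/-!
Group schemes locally of finite type over a field are equidimensional.
-/

universe u

open CategoryTheory CategoryTheory.Limits MonoidalCategory CartesianMonoidalCategory MonObj GrpObj
  AlgebraicGeometry TopologicalSpace

namespace Groth.GrpschAbsch

variable {k : Type u} [Field k]

/-- Every point specializes from a maximal one. -/
lemma exists_isMax_ge {X : Scheme.{u}} (x : X) : ∃ ξ : X, x ≤ ξ ∧ IsMax ξ := by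
  obtain ⟨ξ, hξ⟩ := QuasiSober.sober (isIrreducible_irreducibleComponent (x := x))
    isClosed_irreducibleComponent
  refine ⟨ξ, Scheme.le_iff_specializes.mpr (hξ.specializes mem_irreducibleComponent), fun z hz ↦ ?_⟩
  have hsub : irreducibleComponent x ⊆ closure {z} := by
    rw [← hξ]
    exact closure_minimal (Set.singleton_subset_iff.mpr
      ((Scheme.le_iff_specializes.mp hz).mem_closed isClosed_closure (subset_closure rfl))) isClosed_closure
  have := (irreducibleComponent_mem_irreducibleComponents x).2 isIrreducible_singleton.closure hsub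
  exact Scheme.le_iff_specializes.mpr (hξ.specializes (this (subset_closure rfl)))

/-- The closure of a maximal point is an irreducible component. -/
lemma closure_mem_irreducibleComponents {X : Scheme.{u}} {ξ : X} (h : IsMax ξ) :
    closure {ξ} ∈ irreducibleComponents X := by
  refine ⟨isIrreducible_singleton.closure, fun T hT hξT ↦ ?_⟩
  obtain ⟨z, hz⟩ := QuasiSober.sober hT.closure isClosed_closure
  have h1 : ξ ≤ z := Scheme.le_iff_specializes.mpr
    (hz.specializes (subset_closure (hξT (subset_closure rfl))))
  refine subset_closure.trans (hz.symm.le.trans (closure_minimal (Set.singleton_subset_iff.mpr ?_)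
    isClosed_closure))
  exact specializes_iff_mem_closure.mp (Scheme.le_iff_specializes.mp (h h1))

/-- Over an algebraically closed field the components have the same dimension. -/
lemma height_eq_of_isMax [IsAlgClosed k] (G : Over (Spec (CommRingCat.of k))) [GrpObj G]
    [LocallyOfFiniteType G.hom] {a b : G.left} (ha : IsMax a) (hb : IsMax b) :
    Order.height a = Order.height b := by
  have := LocallyOfFiniteType.jacobsonSpace G.hom
  obtain ⟨x, hxa, hxc⟩ := nonempty_inter_closedPoints (⟨a, subset_closure rfl⟩ : (closure {a}).Nonempty)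
    isClosed_closure.isLocallyClosed
  obtain ⟨y, hyb, hyc⟩ := nonempty_inter_closedPoints (⟨b, subset_closure rfl⟩ : (closure {b}).Nonempty)
    isClosed_closure.isLocallyClosed
  obtain ⟨φ, hφ⟩ := exists_homeomorph_closedPoint G hxc hyc
  have him : φ '' closure {a} ∈ irreducibleComponents G.left :=
    image_mem_irreducibleComponents_of_isPreirreducible_fiber φ φ.continuous φ.isOpenMap
      (fun _ ↦ (Set.subsingleton_singleton.preimage φ.injective).isPreirreducible) φ.surjective
      (closure_mem_irreducibleComponents ha)
  have he := components_eq_of_closedPoint G hyc him (closure_mem_irreducibleComponents hb)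
    ⟨x, hxa, hφ⟩ hyb
  rw [φ.image_closure, Set.image_singleton] at he
  have hab : φ a = b := (T0Space.t0 ((inseparable_iff_closure_eq).mpr he))
  let e : G.left ≃o G.left :=
    { φ.toEquiv with
      map_rel_iff' := fun {p q} ↦ by
        show φ p ≤ φ q ↔ p ≤ q
        rw [Scheme.le_iff_specializes, Scheme.le_iff_specializes]
        exact φ.isInducing.specializes_iff }
  rw [← hab]
  exact (Order.height_orderIso e a).symm

/-- All maximal points have the height `dim G`. -/
theorem height_eq_dim_of_isMax (G : Over (Spec (CommRingCat.of k))) [GrpObj G]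
    [LocallyOfFiniteType G.hom] {a : G.left} (ha : IsMax a) :
    ((Order.height a : ℕ∞) : WithBot ℕ∞) = topologicalKrullDim G.left := by
  let g := Spec.map (CommRingCat.ofHom (algebraMap k (AlgebraicClosure k)))
  have hg : IsIntegralHom g := IsIntegralHom.SpecMap_iff.mpr
    (algebraMap_isIntegral_iff.mpr inferInstance)
  have : Surjective g := inferInstance
  let p := pullback.fst G.hom g
  have : IsIntegralHom p := inferInstance
  have : Surjective p := inferInstance
  let : GrpObj (Over.mk G.hom) := ‹GrpObj G›
  let : GrpObj (Over.mk (pullback.snd G.hom g)) := Over.grpObjMkPullbackSnd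
  have : LocallyOfFiniteType (Over.mk (pullback.snd G.hom g)).hom :=
    inferInstanceAs (LocallyOfFiniteType (pullback.snd _ _))
  have lift : ∀ {ξ : G.left}, IsMax ξ → ∃ ξ' : ↥(pullback G.hom g),
      IsMax ξ' ∧ Order.height ξ' = Order.height ξ := by
    intro ξ hξ
    obtain ⟨z, hz⟩ := p.surjective ξ
    obtain ⟨ξ', hzξ', hξ'⟩ := exists_isMax_ge z
    refine ⟨ξ', hξ', ?_⟩
    have h1 : ξ ≤ p ξ' := by
      rw [← hz]
      exact Scheme.le_iff_specializes.mpr ((Scheme.le_iff_specializes.mp hzξ').map p.continuous)
    have h2 : p ξ' = ξ := by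
      have := hξ h1
      exact ((Scheme.le_iff_specializes.mp this).antisymm (Scheme.le_iff_specializes.mp h1)).eq.symm
    rw [← height_eq_of_isIntegralHom p ξ', h2]
  rw [Variety2.Dim.dim_eq_iSup_height]
  refine le_antisymm (le_iSup (fun z : G.left ↦ ((Order.height z : ℕ∞) : WithBot ℕ∞)) a)
    (iSup_le fun z ↦ WithBot.coe_le_coe.mpr ?_)
  obtain ⟨ξ, hzξ, hξ⟩ := exists_isMax_ge z
  refine (Order.height_mono hzξ).trans (le_of_eq ?_)
  obtain ⟨ξ', hξ', e1⟩ := lift hξ
  obtain ⟨a', ha', e2⟩ := lift ha
  rw [← e1, ← e2]
  exact height_eq_of_isMax (Over.mk (pullback.snd G.hom g)) hξ' ha'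

/-- The local ring at a closed point has dimension `dim G`. -/
theorem ringKrullDim_stalk_closedPoint (G : Over (Spec (CommRingCat.of k))) [GrpObj G]
    [LocallyOfFiniteType G.hom] {g : G.left} (hg : IsClosed ({g} : Set G.left)) :
    ringKrullDim (G.left.presheaf.stalk g) = topologicalKrullDim G.left := by
  rw [ringKrullDim_stalk_eq_coheight]
  refine le_antisymm ?_ ?_
  · let := specializationOrder (X := G.left)
    rw [topologicalKrullDim, Order.krullDim_eq_of_orderIso irreducibleSetEquivPoints]
    exact Order.coheight_le_krullDim g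
  · obtain ⟨ξ, hgξ, hξ⟩ := exists_isMax_ge g
    rw [← height_eq_dim_of_isMax G hξ]
    refine WithBot.coe_le_coe.mpr ?_
    let : G.left.Over (Spec (CommRingCat.of k)) := ⟨G.hom⟩
    have : LocallyOfFiniteType (G.left ↘ Spec (CommRingCat.of k)) := ‹_›
    have h := VarietyBC.height_le_add_coheight k (X := G.left) hgξ
    rw [(Variety2.Dim.height_eq_zero_iff g).mpr hg, zero_add] at h
    exact h

end Groth.GrpschAbsch
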