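import Groth.Agent.Variety2.DimScheme
import Mathlib.AlgebraicGeometry.Morphisms.Integral
import Mathlib.RingTheory.Ideal.GoingUp

/-!
Integral surjective morphisms preserve the height of points.
-/

universe u

open CategoryTheory AlgebraicGeometry TopologicalSpace

namespace Groth.GrpschAbsch

variable {X Y : Scheme.{u}} (f : X ⟶ Y)

/-- Fibres of an integral morphism have no specializations. -/
lemma eq_of_specializes_of_isIntegralHom [IsIntegralHom f] {a b : X} (h : a ⤳ b)
    (e : f a = f b) : a = b := by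
  obtain ⟨U, hU, hbU, -⟩ := exists_isAffineOpen_mem_and_subset (x := f b) (U := ⊤) trivial
  have hbV : b ∈ f ⁻¹ᵁ U := hbU
  have haV : a ∈ f ⁻¹ᵁ U := by show f a ∈ U; rw [e]; exact hbU
  let g := f ∣_ U
  have : IsAffine (U : Scheme.{u}) := hU
  have : IsAffine (f ⁻¹ᵁ U : Scheme.{u}) := isAffine_of_isAffineHom g
  have hint : g.appTop.hom.IsIntegral :=
    ((HasAffineProperty.iff_of_isAffine (P := @IsIntegralHom)).mp (inferInstanceAs (IsIntegralHom g))).2
  let a' : (f ⁻¹ᵁ U : Scheme.{u}) := ⟨a, haV⟩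
  let b' : (f ⁻¹ᵁ U : Scheme.{u}) := ⟨b, hbV⟩
  have h' : a' ⤳ b' := subtype_specializes_iff _ _ |>.mpr h
  have hg : ∀ z, U.ι (g z) = f ((f ⁻¹ᵁ U).ι z) := fun z ↦ by
    rw [← Scheme.Hom.comp_apply, ← Scheme.Hom.comp_apply, morphismRestrict_ι]
  have e' : g a' = g b' := U.ι.isOpenEmbedding.injective ((hg a').trans (e.trans (hg b').symm))
  have hn := fun z : (f ⁻¹ᵁ U : Scheme.{u}) ↦
    congr($(Scheme.isoSpec_hom_naturality g) z)
  simp only [Scheme.Hom.comp_apply] at hn
  set p := (Scheme.isoSpec (f ⁻¹ᵁ U : Scheme.{u})).hom a'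
  set q := (Scheme.isoSpec (f ⁻¹ᵁ U : Scheme.{u})).hom b'
  have hle : p.asIdeal ≤ q.asIdeal :=
    (PrimeSpectrum.le_iff_specializes p q).mpr
      (h'.map (Scheme.isoSpec (f ⁻¹ᵁ U : Scheme.{u})).hom.continuous)
  have hcomap : p.asIdeal.comap g.appTop.hom = q.asIdeal.comap g.appTop.hom :=
    congrArg PrimeSpectrum.asIdeal ((hn a').trans ((congrArg _ e').trans (hn b').symm))
  have hpq : p = q := by
    refine PrimeSpectrum.ext (le_antisymm hle fun z hz ↦ ?_)
    by_contra hzp
    algebraize [g.appTop.hom]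
    have := Ideal.comap_lt_comap_of_integral_mem_sdiff hle ⟨hz, hzp⟩ (hint z)
    exact this.ne hcomap
  have := (Scheme.isoSpec (f ⁻¹ᵁ U : Scheme.{u})).hom.isOpenEmbedding.injective hpq
  exact congrArg Subtype.val this

/-- An integral morphism is strictly monotone for the specialization order. -/
lemma strictMono_of_isIntegralHom [IsIntegralHom f] : StrictMono (fun x : X ↦ f x) := by
  intro a b hab
  obtain ⟨h1, hne⟩ := Variety2.Dim.lt_iff.mp hab
  exact Variety2.Dim.lt_iff.mpr ⟨h1.map f.continuous, fun e ↦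
    hne (eq_of_specializes_of_isIntegralHom f h1 e.symm).symm⟩

/-- An integral morphism preserves heights of points. -/
lemma height_eq_of_isIntegralHom [IsIntegralHom f] (x : X) :
    Order.height (f x) = Order.height x := by
  refine le_antisymm (Order.height_le fun l hl ↦ ?_)
    (Order.height_le_height_apply_of_strictMono _ (strictMono_of_isIntegralHom f) x)
  suffices h : ∀ (n : ℕ) (l : LTSeries Y) (x : X), l.length = n → l.last = f x →
      (n : ℕ∞) ≤ Order.height x from h _ l x rfl hl
  intro n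
  induction n with
  | zero => simp
  | succ n ih =>
    intro l x hn hlx
    have hne : l.length ≠ 0 := by omega
    have hlt : l.eraseLast.last < f x := hlx ▸ (l.eraseLast_last_rel_last hne)
    obtain ⟨x', hx'⟩ : ∃ x', x ⤳ x' ∧ f x' = l.eraseLast.last := by
      have := (f.isClosedMap.specializingMap) (a := x) (Scheme.le_iff_specializes.mp hlt.le)
      exact this
    have hlt' : x' < x := Variety2.Dim.lt_iff.mpr ⟨hx'.1, fun e ↦
      hlt.ne (by rw [← hx'.2, e])⟩
    have := ih l.eraseLast x' (by simp [hn]) hx'.2.symm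
    calc ((n + 1 : ℕ) : ℕ∞) = n + 1 := by simp
      _ ≤ Order.height x' + 1 := by gcongr
      _ ≤ Order.height x := Order.height_add_one_le hlt'

end Groth.GrpschAbsch
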