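import Mathlib.AlgebraicGeometry.Fiber
import Mathlib.AlgebraicGeometry.Morphisms.Etale
import Mathlib.RingTheory.Kaehler.TensorProduct
import Mathlib.RingTheory.LocalRing.Module
import Mathlib.RingTheory.LocalRing.ResidueField.Fiber

/-!
A flat morphism locally of finite presentation with étale fibres is étale.
-/

universe u

open CategoryTheory Limits AlgebraicGeometry TensorProduct

namespace Groth.GrpschAbsch

attribute [local instance] Algebra.TensorProduct.rightAlgebra

/-- A finite type algebra with formally unramified fibres is formally unramified. -/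
lemma formallyUnramified_of_fiber (R S : Type u) [CommRing R] [CommRing S] [Algebra R S]
    [Algebra.FiniteType R S]
    (h : ∀ (p : Ideal R) [p.IsPrime], Algebra.FormallyUnramified p.ResidueField (p.Fiber S)) :
    Algebra.FormallyUnramified R S := by
  refine ⟨?_⟩
  rw [← Module.support_eq_empty_iff (R := S)]
  refine Set.eq_empty_iff_forall_notMem.mpr fun q hq ↦ ?_
  rw [Module.mem_support_iff_nontrivial_residueField_tensorProduct] at hq
  let p := q.asIdeal.comap (algebraMap R S)
  have : q.asIdeal.LiesOver p := ⟨rfl⟩
  have := h p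
  have : Subsingleton (p.ResidueField ⊗[R] Ω[S⁄R]) :=
    (KaehlerDifferential.tensorKaehlerEquivBase R p.ResidueField S (p.Fiber S)).toEquiv.subsingleton
  let := (Ideal.ResidueField.mapₐ p q.asIdeal (Algebra.ofId R S) rfl).toRingHom.toAlgebra
  have : IsScalarTower R p.ResidueField q.asIdeal.ResidueField :=
    IsScalarTower.of_algebraMap_eq fun r ↦
      ((Ideal.ResidueField.mapₐ p q.asIdeal (Algebra.ofId R S) rfl).commutes r).symm
  let g : p.ResidueField ⊗[R] Ω[S⁄R] →ₗ[p.ResidueField] q.asIdeal.ResidueField ⊗[S] Ω[S⁄R] :=
    ((TensorProduct.mk S q.asIdeal.ResidueField Ω[S⁄R] 1).restrictScalars R).liftBaseChange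
      p.ResidueField
  have h0 : ∀ z : q.asIdeal.ResidueField ⊗[S] Ω[S⁄R], z = 0 := fun z ↦ by
    induction z using TensorProduct.induction_on with
    | zero => rfl
    | add _ _ ha hb => rw [ha, hb, add_zero]
    | tmul c w =>
      have : g (1 ⊗ₜ w) = (1 : q.asIdeal.ResidueField) ⊗ₜ[S] w := by simp [g]
      rw [Subsingleton.elim ((1 : p.ResidueField) ⊗ₜ[R] w) 0, map_zero] at this
      rw [← mul_one c, ← smul_eq_mul, ← TensorProduct.smul_tmul', ← this, smul_zero]
  exact not_subsingleton _ ⟨fun a b ↦ (h0 a).trans (h0 b).symm⟩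

set_option backward.isDefEq.respectTransparency false in
/-- A flat morphism locally of finite presentation with étale fibres is étale. -/
theorem etale_of_etale_fiber {X Y : Scheme.{u}} (f : X ⟶ Y) [LocallyOfFinitePresentation f] [Flat f]
    (h : ∀ y, Etale (f.fiberToSpecResidueField y)) : Etale f := by
  wlog h : ∃ R, Y = Spec R
  · rw [IsZariskiLocalAtTarget.iff_of_openCover (P := @Etale) Y.affineCover]
    intro i
    dsimp [Scheme.Cover.pullbackHom]
    refine this _ (fun y ↦ ?_) ⟨_, rfl⟩
    apply MorphismProperty.of_isPullback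
    · exact isPullback_fiberToSpecResidueField_of_isPullback (IsPullback.of_hasPullback _ _) _
    · infer_instance
  obtain ⟨R, rfl⟩ := h
  wlog h : ∃ S, X = Spec S generalizing f X
  · rw [IsZariskiLocalAtSource.iff_of_openCover (P := @Etale) X.affineCover]
    intro i
    have _ (y) : Etale (pullback.snd f ((Spec R).fromSpecResidueField y)) :=
      inferInstanceAs <| Etale (f.fiberToSpecResidueField y)
    refine this _ (fun y ↦ ?_) ⟨_, rfl⟩
    rw [Scheme.Hom.fiberToSpecResidueField, ← pullbackRightPullbackFstIso_inv_snd_snd]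
    infer_instance
  obtain ⟨S, rfl⟩ := h
  obtain ⟨φ, rfl⟩ := Spec.map_surjective f
  have : FormallyUnramified (Spec.map φ) := by
    rw [HasRingHomProperty.Spec_iff (P := @FormallyUnramified)]
    have hft : LocallyOfFiniteType (Spec.map φ) := inferInstance
    rw [HasRingHomProperty.Spec_iff (P := @LocallyOfFiniteType)] at hft
    algebraize [φ.hom]
    have := formallyUnramified_of_fiber R S fun p hp ↦ by
      have h1 : Etale (Spec.map (CommRingCat.ofHom (algebraMap p.ResidueField (p.Fiber S)))) :=
        (MorphismProperty.arrow_mk_iso_iff (P := @Etale)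
          (Spec.fiberToSpecResidueFieldIso R S ⟨p, hp⟩)).mp (h ⟨p, hp⟩)
      have h2 : FormallyUnramified (Spec.map (CommRingCat.ofHom
          (algebraMap p.ResidueField (p.Fiber S)))) := inferInstance
      rw [HasRingHomProperty.Spec_iff (P := @FormallyUnramified)] at h2
      exact RingHom.formallyUnramified_algebraMap.mp h2
    exact this
  exact Etale.of_formallyUnramified_of_flat _

end Groth.GrpschAbsch
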