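import Groth.Agent.GrpschAbsch.GrpEtale
import Groth.Agent.Abvar.Rigidity
import Groth.Agent.FibreDim.GroupScheme

/-!
Étale homomorphisms and tangent vectors; multiplication maps of abelian varieties.
-/

universe u

open CategoryTheory CategoryTheory.Limits MonoidalCategory CartesianMonoidalCategory MonObj GrpObj
  AlgebraicGeometry TopologicalSpace

namespace Groth.GrpschAbsch

variable {k : Type u} [Field k]

/-- An unramified morphism is injective on tangent vectors. -/
theorem eq_of_formallyUnramified {X Y : Over (Spec (CommRingCat.of k))} (f : X ⟶ Y)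
    [FormallyUnramified f.left] [LocallyOfFiniteType f.left]
    {z w : specOver k (TrivSqZeroExt k k) ⟶ X} (hb : base ≫ z = base ≫ w) (hf : z ≫ f = w ≫ f) : z = w := by
  let q : Spec (CommRingCat.of (TrivSqZeroExt k k)) ⟶ pullback f.left f.left :=
    pullback.lift z.left w.left (congr(($hf).left))
  have hr : Set.range q ⊆ Set.range (pullback.diagonal f.left) := by
    rintro _ ⟨t, rfl⟩
    rw [show t = (base (k := k)).left (IsLocalRing.closedPoint k) from @Subsingleton.elim _
      (subsingleton_spec_tsze k k) _ _]
    have e : (base (k := k)).left ≫ q = (base ≫ z).left ≫ pullback.diagonal f.left := by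
      apply pullback.hom_ext
      · rw [Category.assoc, Category.assoc, pullback.diagonal_fst, Category.comp_id, Over.comp_left]
        exact congrArg ((base (k := k)).left ≫ ·) (pullback.lift_fst _ _ _)
      · rw [Category.assoc, Category.assoc, pullback.diagonal_snd, Category.comp_id, hb, Over.comp_left]
        exact congrArg ((base (k := k)).left ≫ ·) (pullback.lift_snd _ _ _)
    refine ⟨(base ≫ z).left (IsLocalRing.closedPoint k), ?_⟩
    rw [← Scheme.Hom.comp_apply, ← e]
    rfl
  have h := IsOpenImmersion.lift_fac (pullback.diagonal f.left) q hr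
  have h1 := congrArg (· ≫ pullback.fst f.left f.left) h
  have h2 := congrArg (· ≫ pullback.snd f.left f.left) h
  simp only [Category.assoc, pullback.diagonal_fst, pullback.diagonal_snd, q, pullback.lift_fst,
    pullback.lift_snd] at h1 h2
  exact Over.OverMorphism.ext (h1.symm.trans h2)

/-- A flat homomorphism with étale kernel is étale. -/
theorem etale_of_flat_of_kernel {G H N : Over (Spec (CommRingCat.of k))} [GrpObj G] [GrpObj H]
    [LocallyOfFiniteType G.hom] (f : G ⟶ H) [IsMonHom f] [Flat f.left] [LocallyOfFinitePresentation f.left]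
    (i : N ⟶ G) [Mono i] [FormallyUnramified N.hom] [LocallyOfFiniteType N.hom]
    (hN : ∀ {T : Over (Spec (CommRingCat.of k))} (g : T ⟶ G), g ≫ f = 1 → ∃ n : T ⟶ N, n ≫ i = g) :
    Etale f.left := by
  have : FormallyUnramified f.left := formallyUnramified_of_tangent f fun z hz hzf ↦ by
    obtain ⟨n, rfl⟩ := hN z hzf
    obtain ⟨e, he⟩ := hN (1 : 𝟙_ (Over (Spec (CommRingCat.of k))) ⟶ G)
      (MonObj.one_comp f)
    have hc : (toUnit (specOver k (TrivSqZeroExt k k)) ≫ e) ≫ i = 1 := by
      rw [Category.assoc, he, MonObj.comp_one]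
    have hb : base ≫ n = base ≫ toUnit _ ≫ e := by
      rw [← cancel_mono i, Category.assoc, hz, Category.assoc, hc, MonObj.comp_one]
    have : FormallyUnramified (toUnit N).left := inferInstanceAs (FormallyUnramified N.hom)
    have : LocallyOfFiniteType (toUnit N).left := inferInstanceAs (LocallyOfFiniteType N.hom)
    rw [eq_of_formallyUnramified (toUnit N) hb (toUnit_unique _ _), hc]
  exact Etale.of_formallyUnramified_of_flat f.left

/-- A proper geometrically integral group scheme is commutative. -/
theorem isCommMonObj_of_isProper (A : Over (Spec (CommRingCat.of k))) [GrpObj A] [IsProper A.hom]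
    [GeometricallyIntegral A.hom] : IsCommMonObj A := by
  have hι : η[A] ≫ ι[A] = η[A] := by
    rw [MonObj.one_eq_one, GrpObj.inv_eq_inv, GrpObj.comp_inv, Category.comp_id, inv_one]
  have := Groth.Abvar.isMonHom_of_one ι[A] hι
  constructor
  have h := IsMonHom.mul_hom ι[A]
  rw [MonObj.mul_eq_mul, MonObj.comp_mul, tensorHom_fst, tensorHom_snd, GrpObj.inv_eq_inv,
    GrpObj.comp_inv, GrpObj.comp_inv, GrpObj.comp_inv, Category.comp_id, Category.comp_id,
    Category.comp_id] at h
  have h' : fst A A * snd A A = snd A A * fst A A := by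
    have := congrArg (·⁻¹) h
    simpa [_root_.mul_inv_rev] using this
  rw [MonObj.mul_eq_mul, MonObj.comp_mul, braiding_hom_fst, braiding_hom_snd]
  exact h'.symm

/-- On an abelian variety of positive dimension `[d]` is étale exactly when `d` is invertible. -/
theorem etale_zpow_iff (A : Over (Spec (CommRingCat.of k))) [GrpObj A] [IsProper A.hom]
    [GeometricallyIntegral A.hom] (hA : 0 < topologicalKrullDim A.left) (d : ℤ) :
    Etale (𝟙 A ^ d).left ↔ (d : k) ≠ 0 := by
  have := isCommMonObj_of_isProper A
  refine ⟨fun hd hd0 ↦ ?_, fun h ↦ etale_zpow d h⟩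
  have : LocallyOfFiniteType (𝟙 A ^ d).left := inferInstance
  have hopen : IsOpenImmersion η[A].left := isOpenImmersion_of_tangent_trivial η[A] fun z hz ↦ by
    have hz1 : base ≫ z = 1 := by rw [hz]; rfl
    have hzd : z ^ d = 1 := by
      have e : scale (d : k) = specOverMap (Algebra.ofId k (TrivSqZeroExt k k)) ≫ base := by
        simp only [scale, base, specOverMap_comp]
        refine specOverMap_congr fun x ↦ ?_
        ext <;> simp [hd0, TrivSqZeroExt.algebraMap_eq_inl]
      rw [← scale_intCast_comp hz1, e, Category.assoc, hz1, MonObj.comp_one]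
    refine (eq_of_formallyUnramified (𝟙 A ^ d) (z := z) (w := 1) ?_ ?_).trans rfl
    · rw [hz1, MonObj.comp_one]
    · rw [GrpObj.comp_zpow, Category.comp_id, hzd, GrpObj.comp_zpow, Category.comp_id, _root_.one_zpow]
  have := Groth.Abvar.isIntegral_left A
  have := Groth.AlgGrp1.isSeparated_grpObj A
  have hcl : IsClosedImmersion η[A].left := by
    have h1 : IsClosedImmersion (η[A].left ≫ A.hom) := by
      rw [show η[A].left ≫ A.hom = 𝟙 (Spec (CommRingCat.of k)) from Over.w η[A]]
      exact MorphismProperty.id_mem @IsClosedImmersion _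
    exact IsClosedImmersion.of_comp η[A].left A.hom
  have hsurj : Set.range η[A].left = Set.univ := by
    refine IsClopen.eq_univ ⟨η[A].left.isClosedEmbedding.isClosed_range, η[A].left.isOpenEmbedding.isOpen_range⟩
      ⟨_, IsLocalRing.closedPoint k, rfl⟩
  have : Subsingleton A.left := by
    refine ⟨fun a b ↦ ?_⟩
    obtain ⟨s, rfl⟩ := hsurj.ge (Set.mem_univ a)
    obtain ⟨t, rfl⟩ := hsurj.ge (Set.mem_univ b)
    rw [@Subsingleton.elim _ (inferInstanceAs (Subsingleton ↥(Spec (CommRingCat.of k)))) s t]
  have h0 := topologicalKrullDim_zero_of_discreteTopology A.left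
  exact hA.not_ge h0

end Groth.GrpschAbsch
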