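import Groth.Agent.GrpschAbsch.PerfectReduced
import Mathlib.AlgebraicGeometry.Group.Smooth
import Mathlib.AlgebraicGeometry.Morphisms.SmoothFiber
import Mathlib.CategoryTheory.Monoidal.Cartesian.Over

/-!
Reduced group schemes locally of finite type over a perfect field are smooth.
-/

universe u

open CategoryTheory CategoryTheory.Limits MonoidalCategory CartesianMonoidalCategory MonObj
  AlgebraicGeometry TensorProduct

namespace Groth.GrpschAbsch

variable {K : Type u} [Field K]

/-- Base change of a reduced scheme over a perfect field to an algebraic closure is reduced. -/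
lemma isReduced_pullback_algebraicClosure [PerfectField K] {X : Scheme.{u}}
    (f : X ⟶ Spec (.of K)) [IsReduced X] :
    IsReduced (pullback f (Spec.map (CommRingCat.ofHom (algebraMap K (AlgebraicClosure K))))) := by
  let g := Spec.map (CommRingCat.ofHom (algebraMap K (AlgebraicClosure K)))
  apply +allowSynthFailures @IsReduced.of_openCover
    (𝒰 := Scheme.Pullback.openCoverOfLeft X.affineOpenCover.openCover f g)
  intro i
  obtain ⟨φ, hφ⟩ := Spec.map_surjective (X.affineOpenCover.f i ≫ f)
  let R := X.affineOpenCover.X i
  have : IsOpenImmersion (X.affineOpenCover.f i) := X.affineOpenCover.map_prop i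
  have : IsReduced (Spec R) := isReduced_of_isOpenImmersion (X.affineOpenCover.f i)
  have : _root_.IsReduced R := affine_isReduced_iff R |>.mp this
  let : Algebra K R := φ.hom.toAlgebra
  have := isGeometricallyReduced_of_perfectField K R
  have : _root_.IsReduced (R ⊗[K] AlgebraicClosure K) :=
    isReduced_of_injective (Algebra.TensorProduct.comm K R (AlgebraicClosure K))
      (Algebra.TensorProduct.comm K R (AlgebraicClosure K)).injective
  have hφ' : Spec.map (CommRingCat.ofHom (algebraMap K R)) = X.affineOpenCover.f i ≫ f := hφ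
  have h2 : IsReduced (pullback (Spec.map (CommRingCat.ofHom (algebraMap K R))) g) :=
    isReduced_of_isOpenImmersion (pullbackSpecIso K R (AlgebraicClosure K)).hom
  rw [hφ'] at h2
  exact h2

set_option backward.defeqAttrib.useBackward true in
set_option backward.isDefEq.respectTransparency false in
/-- A group scheme locally of finite type over an algebraically closed field which is reduced is
smooth. -/
lemma smooth_of_isAlgClosed_of_isReduced {G : Scheme.{u}} (f : G ⟶ Spec (.of K))
    [LocallyOfFiniteType f] [GrpObj (Over.mk f)] [IsReduced G] [IsAlgClosed K] : Smooth f := by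
  have := LocallyOfFiniteType.jacobsonSpace f
  have : Nonempty G := ⟨η[Over.mk f].1 (IsLocalRing.closedPoint _)⟩
  rw [← Scheme.Hom.smoothLocus_eq_top_iff, ← TopologicalSpace.Opens.coe_eq_univ,
    ← not_ne_iff, ← Set.nonempty_compl]
  intro H
  obtain ⟨x, hx, hxc⟩ :=
    nonempty_inter_closedPoints H f.smoothLocus.2.isClosed_compl.isLocallyClosed
  obtain ⟨y, hy : y ∈ f.smoothLocus, hyc⟩ := nonempty_inter_closedPoints
    f.dense_smoothLocus_of_perfectField.nonempty f.smoothLocus.2.isLocallyClosed
  let x' : 𝟙_ _ ⟶ Over.mk f := Over.homMk _ ((pointEquivClosedPoint f).symm ⟨x, hxc⟩).2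
  let y' : 𝟙_ _ ⟶ Over.mk f := Over.homMk _ ((pointEquivClosedPoint f).symm ⟨y, hyc⟩).2
  let α := (GrpObj.mulRight (A := Over.mk f) x').symm ≪≫
    (GrpObj.mulRight (A := Over.mk f) y')
  have hα : x' ≫ α.hom = y' := by
    dsimp only [Iso.trans_hom, Iso.symm_hom, α]
    rw [← Category.assoc, ← Iso.eq_comp_inv]
    simp [comp_lift_assoc]
  have hα' : α.hom.left x = y := by
    simpa [x', y', pointEquivClosedPoint] using congr(($hα).left (IsLocalRing.closedPoint K))
  rw! [← hα', ← α.hom.left.mem_preimage, Scheme.Hom.preimage_smoothLocus_eq,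
    show α.hom.left ≫ f = f from α.hom.w] at hy
  exact hx hy

/-- A reduced group scheme locally of finite type over a perfect field is smooth. -/
theorem smooth_of_perfectField_of_isReduced [PerfectField K] {G : Scheme.{u}}
    (f : G ⟶ Spec (.of K)) [LocallyOfFiniteType f] [GrpObj (Over.mk f)] [IsReduced G] :
    Smooth f := by
  let g := Spec.map (CommRingCat.ofHom (algebraMap K (AlgebraicClosure K)))
  apply MorphismProperty.of_pullback_snd_of_descendsAlong
    (Q := @Surjective ⊓ @Flat ⊓ @QuasiCompact) (g := g)
  · exact ⟨⟨inferInstance, inferInstance⟩, inferInstance⟩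
  · let : GrpObj (Over.mk (pullback.snd f g)) := Over.grpObjMkPullbackSnd
    have := isReduced_pullback_algebraicClosure f
    exact smooth_of_isAlgClosed_of_isReduced _

end Groth.GrpschAbsch
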