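import Groth.Agent.GrpschAbsch.GrpEtale
import Groth.Agent.GrpschAbsch.AbVarEtale
import Groth.Agent.GrpschAbsch.SmoothField
import Groth.Agent.AlgGrp1.Geom
import Mathlib.AlgebraicGeometry.Morphisms.SmoothFiber
import Groth.Agent.GrpschAbsch.EtaleFiber
import Groth.Agent.FibreDim.GroupScheme
import Groth.Agent.FibreDim.Smooth
import Groth.Agent.Abvar.BaseChange
import Mathlib.RingTheory.Smooth.StandardSmoothCotangent
import Mathlib.RingTheory.Kaehler.JacobiZariski

/-!
Unramified morphisms between smooth schemes of the same relative dimension are étale; powers prime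
to the residue characteristics on smooth commutative group schemes are étale.
-/

universe u

open CategoryTheory CategoryTheory.Limits MonoidalCategory CartesianMonoidalCategory MonObj GrpObj
  AlgebraicGeometry TopologicalSpace TensorProduct

namespace Groth.GrpschAbsch

set_option backward.isDefEq.respectTransparency false in
/-- A morphism locally of finite type with unramified fibres is unramified. -/
theorem formallyUnramified_of_unramified_fiber {X Y : Scheme.{u}} (f : X ⟶ Y) [LocallyOfFiniteType f]
    (h : ∀ y, FormallyUnramified (f.fiberToSpecResidueField y)) : FormallyUnramified f := by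
  wlog h : ∃ R, Y = Spec R
  · rw [IsZariskiLocalAtTarget.iff_of_openCover (P := @FormallyUnramified) Y.affineCover]
    intro i
    dsimp [Scheme.Cover.pullbackHom]
    refine this _ (fun y ↦ ?_) ⟨_, rfl⟩
    apply MorphismProperty.of_isPullback
    · exact isPullback_fiberToSpecResidueField_of_isPullback (IsPullback.of_hasPullback _ _) _
    · infer_instance
  obtain ⟨R, rfl⟩ := h
  wlog h : ∃ S, X = Spec S generalizing f X
  · rw [IsZariskiLocalAtSource.iff_of_openCover (P := @FormallyUnramified) X.affineCover]
    intro i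
    have _ (y) : FormallyUnramified (pullback.snd f ((Spec R).fromSpecResidueField y)) :=
      inferInstanceAs <| FormallyUnramified (f.fiberToSpecResidueField y)
    refine this _ (fun y ↦ ?_) ⟨_, rfl⟩
    rw [Scheme.Hom.fiberToSpecResidueField, ← pullbackRightPullbackFstIso_inv_snd_snd]
    exact MorphismProperty.comp_mem @FormallyUnramified _ _ inferInstance
      (MorphismProperty.comp_mem @FormallyUnramified _ _ inferInstance inferInstance)
  obtain ⟨S, rfl⟩ := h
  obtain ⟨φ, rfl⟩ := Spec.map_surjective f
  rw [HasRingHomProperty.Spec_iff (P := @FormallyUnramified)]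
  have hft : LocallyOfFiniteType (Spec.map φ) := inferInstance
  rw [HasRingHomProperty.Spec_iff (P := @LocallyOfFiniteType)] at hft
  algebraize [φ.hom]
  exact formallyUnramified_of_fiber R S fun p hp ↦ by
    have h2 : FormallyUnramified (Spec.map (CommRingCat.ofHom
        (algebraMap p.ResidueField (p.Fiber S)))) :=
      (MorphismProperty.arrow_mk_iso_iff (P := @FormallyUnramified)
        (Spec.fiberToSpecResidueFieldIso R S ⟨p, hp⟩)).mp (h ⟨p, hp⟩)
    rw [HasRingHomProperty.Spec_iff (P := @FormallyUnramified)] at h2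
    exact RingHom.formallyUnramified_algebraMap.mp h2

/-- Unramified maps of standard smooth algebras of equal relative dimension are étale. -/
theorem etale_of_isStandardSmoothOfRelativeDimension (n : ℕ) {R A B : Type u} [CommRing R] [CommRing A]
    [CommRing B] [Algebra R A] [Algebra A B] [Algebra R B] [IsScalarTower R A B]
    [Algebra.IsStandardSmoothOfRelativeDimension n R A] [Algebra.IsStandardSmoothOfRelativeDimension n R B]
    [Algebra.FormallyUnramified A B] : Algebra.Etale A B := by
  cases subsingleton_or_nontrivial B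
  · have : Algebra.IsStandardSmooth R A := Algebra.IsStandardSmoothOfRelativeDimension.isStandardSmooth n
    have : Algebra.IsStandardSmooth R B := Algebra.IsStandardSmoothOfRelativeDimension.isStandardSmooth n
    have : Subsingleton (Algebra.H1Cotangent A B) := Module.subsingleton B _
    exact ⟨⟨inferInstance, inferInstance⟩, Algebra.FinitePresentation.of_restrict_scalars_finitePresentation R A B⟩
  have : Nontrivial A := (algebraMap A B).domain_nontrivial
  have : Algebra.IsStandardSmooth R A := Algebra.IsStandardSmoothOfRelativeDimension.isStandardSmooth n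
  have : Algebra.IsStandardSmooth R B := Algebra.IsStandardSmoothOfRelativeDimension.isStandardSmooth n
  have hsurj : Function.Surjective (KaehlerDifferential.mapBaseChange R A B) := by
    intro w
    exact (KaehlerDifferential.exact_mapBaseChange_map R A B w).mp (Subsingleton.elim _ _)
  have eA : Ω[A⁄R] ≃ₗ[A] (Fin n → A) := (Module.finBasisOfFinrankEq A Ω[A⁄R]
    (Module.finrank_eq_of_rank_eq (Algebra.IsStandardSmoothOfRelativeDimension.rank_kaehlerDifferential n))).equivFun
  have eB : Ω[B⁄R] ≃ₗ[B] (Fin n → B) := (Module.finBasisOfFinrankEq B Ω[B⁄R]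
    (Module.finrank_eq_of_rank_eq (Algebra.IsStandardSmoothOfRelativeDimension.rank_kaehlerDifferential n))).equivFun
  let e : B ⊗[A] Ω[A⁄R] ≃ₗ[B] (Fin n → B) :=
    (TensorProduct.AlgebraTensorModule.congr (LinearEquiv.refl B B) eA).trans
      (TensorProduct.piScalarRight A B B (Fin n))
  have hg : Function.Surjective
      ((e.symm.toLinearMap).comp (eB.toLinearMap |>.comp (KaehlerDifferential.mapBaseChange R A B))) := by
    exact e.symm.surjective.comp (eB.surjective.comp hsurj)
  have : Module.Finite B (B ⊗[A] Ω[A⁄R]) := Module.Finite.equiv e.symm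
  have hinj := OrzechProperty.injective_of_surjective_endomorphism _ hg
  have hinj' : Function.Injective (KaehlerDifferential.mapBaseChange R A B) :=
    fun a b h ↦ hinj (by simp [h])
  have : Subsingleton (Algebra.H1Cotangent A B) := by
    refine subsingleton_of_forall_eq 0 fun x ↦ ?_
    have hx : Algebra.H1Cotangent.δ R A B x = 0 := hinj' (by
      rw [map_zero]
      exact (Algebra.H1Cotangent.exact_δ_mapBaseChange R A B).apply_apply_eq_zero x)
    obtain ⟨y, rfl⟩ := (Algebra.H1Cotangent.exact_map_δ R A B x).mp hx
    rw [Subsingleton.elim y 0, map_zero]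
  exact ⟨⟨inferInstance, inferInstance⟩, Algebra.FinitePresentation.of_restrict_scalars_finitePresentation R A B⟩

/-- Standard smooth affine neighbourhoods of prescribed relative dimension inside a given open. -/
theorem exists_isStandardSmooth_le {X : Scheme.{u}} {S : Scheme.{u}} (h : X ⟶ S) [Smooth h]
    {U : S.Opens} (hU : IsAffineOpen U) {x : X} (O : X.Opens) (hx : x ∈ O) (hO : O ≤ h ⁻¹ᵁ U)
    {n : ℕ} (hn : FlatMor.fibreDimAt h x = n) :
    ∃ (W : X.Opens) (_ : IsAffineOpen W) (_ : x ∈ W) (_ : W ≤ O) (e : W ≤ h ⁻¹ᵁ U),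
      (h.appLE U W e).hom.IsStandardSmoothOfRelativeDimension n := by
  obtain ⟨_, ⟨V, hV, rfl⟩, hxV, hVO : V ≤ O⟩ := X.isBasis_affineOpens.exists_subset_of_mem_open hx O.isOpen
  have eV : V ≤ h ⁻¹ᵁ U := hVO.trans hO
  have hsm : (h.appLE U V eV).hom.Smooth := h.smooth_appLE hU hV eV
  obtain ⟨s, hs, hloc⟩ := RingHom.smooth_iff_locally_isStandardSmooth.mp hsm
  obtain ⟨r, hr, hxr⟩ : ∃ r ∈ s, x ∈ X.basicOpen r := by
    have := hV.self_le_iSup_basicOpen_iff.mpr hs hxV
    simpa [Opens.mem_iSup] using this
  have hW : IsAffineOpen (X.basicOpen r) := hV.basicOpen r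
  have eW : X.basicOpen r ≤ h ⁻¹ᵁ U := (X.basicOpen_le r).trans eV
  refine ⟨X.basicOpen r, hW, hxr, (X.basicOpen_le r).trans hVO, eW, ?_⟩
  have hstd : (h.appLE U (X.basicOpen r) eW).hom.IsStandardSmooth := by
    have := hloc r hr
    have heq := hV.isLocalization_basicOpen r
    have e1 : (h.appLE U (X.basicOpen r) eW).hom =
        ((IsLocalization.algEquiv (Submonoid.powers r) (Localization.Away r) Γ(X, X.basicOpen r)).toRingEquiv.toRingHom).comp
          ((algebraMap Γ(X, V) (Localization.Away r)).comp (h.appLE U V eV).hom) := by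
      rw [← h.appLE_map eV (homOfLE (X.basicOpen_le r)).op, CommRingCat.hom_comp, ← RingHom.comp_assoc]
      congr 1
      ext a
      exact (AlgEquiv.commutes (IsLocalization.algEquiv (Submonoid.powers r) (Localization.Away r)
        Γ(X, X.basicOpen r)) a).symm
    rw [e1]
    exact RingHom.isStandardSmooth_respectsIso.1 _ _ this
  algebraize [(h.appLE U (X.basicOpen r) eW).hom]
  obtain ⟨_, _, _, _, ⟨P⟩⟩ := ‹Algebra.IsStandardSmooth Γ(S, U) Γ(X, X.basicOpen r)›
  have hP : (h.appLE U (X.basicOpen r) eW).hom.IsStandardSmoothOfRelativeDimension P.dimension :=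
    show Algebra.IsStandardSmoothOfRelativeDimension P.dimension Γ(S, U) Γ(X, X.basicOpen r) from
      ⟨_, _, _, ‹_›, ⟨P, rfl⟩⟩
  suffices P.dimension = n by rwa [← this]
  obtain ⟨p, hp⟩ : x ∈ Set.range hW.fromSpec.base := hW.range_fromSpec.ge hxr
  have hdim : SmoothOfRelativeDimension P.dimension (Spec.map (h.appLE U (X.basicOpen r) eW)) :=
    (HasRingHomProperty.Spec_iff (P := @SmoothOfRelativeDimension P.dimension)).mpr
      (RingHom.locally_of RingHom.isStandardSmoothOfRelativeDimension_respectsIso _ hP)
  have h2 := Groth.FibreDim.fibreDimAt_eq_of_smoothOfRelativeDimension P.dimension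
    (Spec.map (h.appLE U (X.basicOpen r) eW)) p
  rw [← Groth.FibreDim.fibreDimAt_comp_injective _ _ hU.fromSpec.isOpenEmbedding.injective,
    hU.SpecMap_appLE_fromSpec h hW eW, Groth.FibreDim.fibreDimAt_openImmersion_comp] at h2
  exact_mod_cast h2.symm.trans (hp ▸ hn)

/-- An unramified morphism between smooth schemes of the same relative dimension is étale. -/
theorem etale_of_formallyUnramified_of_fibreDimAt {X Y S : Scheme.{u}} (f : X ⟶ Y) (h : Y ⟶ S)
    [Smooth h] [Smooth (f ≫ h)] [FormallyUnramified f]
    (hd : ∀ x, ∃ n : ℕ, FlatMor.fibreDimAt (f ≫ h) x = n ∧ FlatMor.fibreDimAt h (f x) = n) : Etale f := by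
  rw [HasRingHomProperty.iff_exists_appLE (P := @Etale)
    (RingHom.Etale.stableUnderComposition.stableUnderCompositionWithLocalizationAway
      (fun R S _ _ _ r _ ↦ RingHom.etale_algebraMap.mpr (Algebra.Etale.of_isLocalizationAway r))).1]
  intro x
  obtain ⟨n, hnX, hnY⟩ := hd x
  obtain ⟨_, ⟨U, hU, rfl⟩, hsU, -⟩ := S.isBasis_affineOpens.exists_subset_of_mem_open
    (Set.mem_univ (h (f x))) isOpen_univ
  obtain ⟨V, hV, hfV, -, eV, hVs⟩ := exists_isStandardSmooth_le h hU (h ⁻¹ᵁ U) hsU le_rfl hnY
  obtain ⟨W, hW, hxW, hWV, eW, hWs⟩ := exists_isStandardSmooth_le (f ≫ h) hU (f ⁻¹ᵁ V) hfV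
    (fun _ hz ↦ eV hz) hnX
  refine ⟨⟨V, hV⟩, ⟨W, hW⟩, hxW, hWV, ?_⟩
  have hu := f.formallyUnramified_appLE hV hW hWV
  have hcomp : (f ≫ h).appLE U W eW = h.appLE U V eV ≫ f.appLE V W hWV :=
    (Scheme.Hom.appLE_comp_appLE f h U V W eV hWV).symm
  rw [hcomp] at hWs
  algebraize [(h.appLE U V eV).hom, (f.appLE V W hWV).hom, (h.appLE U V eV ≫ f.appLE V W hWV).hom]
  have : IsScalarTower Γ(S, U) Γ(Y, V) Γ(X, W) := .of_algebraMap_eq' rfl
  exact RingHom.etale_algebraMap.mpr (etale_of_isStandardSmoothOfRelativeDimension n (R := Γ(S, U)))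

/-- The fibre dimension of a group scheme is constant along fibres. -/
theorem fibreDimAt_grpObj {S : Scheme.{u}} (G : Over S) [GrpObj G] [LocallyOfFiniteType G.hom]
    (g : G.left) : ∃ n : ℕ, FlatMor.fibreDimAt G.hom g = n ∧
      topologicalKrullDim ↥(G.hom.base ⁻¹' {G.hom g}) = n := by
  let s := G.hom g
  obtain ⟨n, hn, -⟩ := Groth.FibreDim.dim_fiber_eq_unit G s
  refine ⟨n, ?_, hn⟩
  let : GrpObj (Over.mk G.hom) := ‹GrpObj G›
  let : GrpObj (Over.mk (pullback.snd G.hom (S.fromSpecResidueField s))) := Over.grpObjMkPullbackSnd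
  have : LocallyOfFiniteType (Over.mk (pullback.snd G.hom (S.fromSpecResidueField s))).hom :=
    inferInstanceAs (LocallyOfFiniteType (pullback.snd _ _))
  obtain ⟨z, hz⟩ : g ∈ Set.range (G.hom.fiberι s).base := (G.hom.range_fiberι s).ge rfl
  rw [← hz, Groth.FibreDim.fibreDimAt_fiberι]
  refine (Groth.FibreDim.localDim_eq_dim_of_grpObj (k := S.residueField s)
    (Over.mk (pullback.snd G.hom (S.fromSpecResidueField s))) z).trans ?_
  rw [← hn, Groth.Variety2.Dim.dim_preimage_singleton]
  rfl

/-- An integer invertible on the base is nonzero at every residue field. -/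
lemma intCast_residueField_ne_zero {S : Scheme.{u}} (n : ℤ) (hn : IsUnit (n : Γ(S, ⊤))) (s : S) :
    (n : S.residueField s) ≠ 0 := by
  have := hn.map (S.Γevaluation s).hom
  rw [map_intCast] at this
  exact this.ne_zero

/-- Powers of the identity prime to the residue characteristics are unramified. -/
theorem formallyUnramified_zpow {S : Scheme.{u}} (G : Over S) [GrpObj G]
    (hc : ∀ s : S, letI : GrpObj ((Over.pullback (S.fromSpecResidueField s)).obj G) := Functor.grpObjObj
      IsCommMonObj ((Over.pullback (S.fromSpecResidueField s)).obj G))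
    [LocallyOfFiniteType G.hom] (n : ℤ) (hn : IsUnit (n : Γ(S, ⊤))) :
    FormallyUnramified (𝟙 G ^ n).left := by
  let f := 𝟙 G ^ n
  have : LocallyOfFiniteType (f.left ≫ G.hom) := by rw [Over.w]; infer_instance
  have : LocallyOfFiniteType f.left := locallyOfFiniteType_of_comp f.left G.hom
  refine formallyUnramified_of_unramified_fiber f.left fun y ↦ ?_
  let s := G.hom y
  let t : Spec (CommRingCat.of (S.residueField s)) ⟶ S := S.fromSpecResidueField s
  letI : GrpObj ((Over.pullback t).obj G) := Functor.grpObjObj
  have : IsCommMonObj ((Over.pullback t).obj G) := hc s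
  have e : (Over.pullback t).map f = 𝟙 _ ^ n := by
    have := ((Over.pullback t).homMonoidHom (X := G) (M := G)).map_zpow (𝟙 G) n
    simpa [f] using this
  have : IsMonHom ((Over.pullback t).map f) := by rw [e]; infer_instance
  have : LocallyOfFiniteType ((Over.pullback t).obj G).hom :=
    inferInstanceAs (LocallyOfFiniteType (pullback.snd G.hom t))
  have hfs : FormallyUnramified ((Over.pullback t).map f).left := by
    refine formallyUnramified_of_tangent (k := S.residueField s) _ fun z hz hzn ↦ ?_
    refine eq_one_of_zpow_eq_one hz n (intCast_residueField_ne_zero n hn s) ?_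
    rwa [e, GrpObj.comp_zpow, Category.comp_id] at hzn
  have hsq : IsPullback ((Over.pullback t).map f).left (pullback.fst G.hom t) (pullback.fst G.hom t) f.left := by
    refine (IsPullback.of_bot ?_ (pullback.lift_fst _ _ _).symm (IsPullback.of_hasPullback G.hom t)).flip
    rw [pullback.lift_snd, Over.w f]
    exact IsPullback.of_hasPullback G.hom t
  obtain ⟨c, hc₁, hc₂⟩ : ∃ c : Spec (CommRingCat.of (G.left.residueField y)) ⟶ pullback G.hom t,
      c ≫ pullback.fst G.hom t = G.left.fromSpecResidueField y ∧
      c ≫ pullback.snd G.hom t = Spec.map (G.hom.residueFieldMap y) :=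
    ⟨pullback.lift _ _ (Scheme.Hom.SpecMap_residueFieldMap_fromSpecResidueField G.hom y).symm,
      pullback.lift_fst _ _ _, pullback.lift_snd _ _ _⟩
  have hfib : IsPullback (f.left.fiberToSpecResidueField y) (f.left.fiberι y)
      (c ≫ pullback.fst G.hom t) f.left := by
    rw [hc₁]
    exact (IsPullback.of_hasPullback f.left (G.left.fromSpecResidueField y)).flip
  have hl : IsPullback (f.left.fiberToSpecResidueField y)
      (hsq.lift (f.left.fiberToSpecResidueField y ≫ c) (f.left.fiberι y) (by rw [Category.assoc, hfib.w]))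
      c ((Over.pullback t).map f).left := by
    refine IsPullback.of_bot ?_ (hsq.lift_fst _ _ _).symm hsq
    rw [hsq.lift_snd]
    exact hfib
  exact MorphismProperty.of_isPullback (P := @FormallyUnramified) hl.flip hfs

/-- Powers of the identity prime to the residue characteristics on a smooth commutative group
scheme are étale. -/
theorem etale_zpow_of_smooth {S : Scheme.{u}} (G : Over S) [GrpObj G]
    (hc : ∀ s : S, letI : GrpObj ((Over.pullback (S.fromSpecResidueField s)).obj G) := Functor.grpObjObj
      IsCommMonObj ((Over.pullback (S.fromSpecResidueField s)).obj G))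
    [Smooth G.hom] (n : ℤ) (hn : IsUnit (n : Γ(S, ⊤))) : Etale (𝟙 G ^ n).left := by
  have := formallyUnramified_zpow G hc n hn
  have hw : (𝟙 G ^ n).left ≫ G.hom = G.hom := Over.w _
  have : Smooth ((𝟙 G ^ n).left ≫ G.hom) := by rw [hw]; infer_instance
  refine etale_of_formallyUnramified_of_fibreDimAt (𝟙 G ^ n).left G.hom fun x ↦ ?_
  obtain ⟨a, ha, ha'⟩ := fibreDimAt_grpObj G x
  obtain ⟨b, hb, hb'⟩ := fibreDimAt_grpObj G ((𝟙 G ^ n).left x)
  rw [hw]
  refine ⟨a, ha, ?_⟩
  rw [hb, ← hb', ← ha', ← Scheme.Hom.comp_apply, hw]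

/-- A geometrically reduced group scheme locally of finite type over a field is smooth. -/
theorem smooth_of_geometricallyReduced {K : Type u} [Field K] (G : Over (Spec (CommRingCat.of K))) [GrpObj G]
    [LocallyOfFiniteType G.hom] [GeometricallyReduced G.hom] : Smooth G.hom := by
  let g := Spec.map (CommRingCat.ofHom (algebraMap K (AlgebraicClosure K)))
  apply MorphismProperty.of_pullback_snd_of_descendsAlong
    (Q := @Surjective ⊓ @Flat ⊓ @QuasiCompact) (g := g)
  · exact ⟨⟨inferInstance, inferInstance⟩, inferInstance⟩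
  · let : GrpObj (Over.mk G.hom) := ‹GrpObj G›
    let : GrpObj (Over.mk (pullback.snd G.hom g)) := Over.grpObjMkPullbackSnd
    have : LocallyOfFiniteType (Over.mk (pullback.snd G.hom g)).hom :=
      inferInstanceAs (LocallyOfFiniteType (pullback.snd _ _))
    have : IsReduced (pullback G.hom g) :=
      GeometricallyReduced.geometrically_isReduced (f := G.hom) g _ _ (IsPullback.of_hasPullback _ _)
    exact smooth_of_isAlgClosed_of_isReduced (pullback.snd G.hom g)

/-- The fibres of an abelian scheme are commutative and its structure map is smooth. -/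
theorem smooth_and_comm_of_abelianScheme {S : Scheme.{u}} (X : Over S) [GrpObj X] [IsProper X.hom]
    [Flat X.hom] [LocallyOfFinitePresentation X.hom] [GeometricallyReduced X.hom]
    [GeometricallyConnected X.hom] :
    Smooth X.hom ∧ ∀ s : S, letI : GrpObj ((Over.pullback (S.fromSpecResidueField s)).obj X) := Functor.grpObjObj
      IsCommMonObj ((Over.pullback (S.fromSpecResidueField s)).obj X) := by
  have hsm : ∀ s : S, Smooth (pullback.snd X.hom (S.fromSpecResidueField s)) := fun s ↦ by
    let : GrpObj (Over.mk X.hom) := ‹GrpObj X›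
    let : GrpObj (Over.mk (pullback.snd X.hom (S.fromSpecResidueField s))) := Over.grpObjMkPullbackSnd
    have : LocallyOfFiniteType (Over.mk (pullback.snd X.hom (S.fromSpecResidueField s))).hom :=
      inferInstanceAs (LocallyOfFiniteType (pullback.snd _ _))
    have : GeometricallyReduced (Over.mk (pullback.snd X.hom (S.fromSpecResidueField s))).hom :=
      inferInstanceAs (GeometricallyReduced (pullback.snd _ _))
    exact smooth_of_geometricallyReduced (K := S.residueField s)
      (Over.mk (pullback.snd X.hom (S.fromSpecResidueField s)))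
  refine ⟨Smooth.of_smooth_fiberToSpecResidueField _ hsm, fun s ↦ ?_⟩
  letI : GrpObj ((Over.pullback (S.fromSpecResidueField s)).obj X) := Functor.grpObjObj
  have : IsProper ((Over.pullback (S.fromSpecResidueField s)).obj X).hom :=
    inferInstanceAs (IsProper (pullback.snd X.hom (S.fromSpecResidueField s)))
  have : Smooth ((Over.pullback (S.fromSpecResidueField s)).obj X).hom := hsm s
  have : QuasiCompact ((Over.pullback (S.fromSpecResidueField s)).obj X).hom :=
    inferInstanceAs (QuasiCompact (pullback.snd X.hom (S.fromSpecResidueField s)))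
  have : ConnectedSpace ((Over.pullback (S.fromSpecResidueField s)).obj X).left :=
    inferInstanceAs (ConnectedSpace ↥(X.hom.fiber s))
  have := Groth.AlgGrp1.geometricallyIntegral_of_smooth (k := S.residueField s)
    ((Over.pullback (S.fromSpecResidueField s)).obj X)
  exact isCommMonObj_of_isProper (k := S.residueField s) ((Over.pullback (S.fromSpecResidueField s)).obj X)

/-- Multiplication by an integer invertible on the base is étale on an abelian scheme. -/
theorem etale_zpow_of_abelianScheme {S : Scheme.{u}} (X : Over S) [GrpObj X] [IsProper X.hom]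
    [Flat X.hom] [LocallyOfFinitePresentation X.hom] [GeometricallyReduced X.hom]
    [GeometricallyConnected X.hom] (n : ℤ) (hn : IsUnit (n : Γ(S, ⊤))) : Etale (𝟙 X ^ n).left := by
  obtain ⟨h1, h2⟩ := smooth_and_comm_of_abelianScheme X
  exact etale_zpow_of_smooth X h2 n hn

/-- An étale endomorphism of a scheme proper over the base is finite. -/
theorem isFinite_of_etale {S : Scheme.{u}} {X : Over S} [IsProper X.hom] (f : X ⟶ X) [Etale f.left] :
    IsFinite f.left := by
  have : IsProper (f.left ≫ X.hom) := by rw [Over.w]; infer_instance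
  have : IsProper f.left := IsProper.of_comp f.left X.hom
  have := Groth.DescentBase.locallyQuasiFinite_of_etale f.left
  exact IsFinite.of_isProper_of_locallyQuasiFinite f.left

/-- An étale endomorphism of an abelian scheme is surjective. -/
theorem surjective_of_etale {S : Scheme.{u}} {X : Over S} [IsProper X.hom] [GeometricallyConnected X.hom]
    (f : X ⟶ X) [Etale f.left] : Surjective f.left := by
  refine ⟨fun y ↦ ?_⟩
  have := isFinite_of_etale f
  have hne := (X.hom.isConnected_preimage_singleton (X.hom y))
  have hcl : IsClopen (Set.range f.left) :=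
    ⟨f.left.isClosedMap.isClosed_range, f.left.isOpenMap.isOpen_range⟩
  obtain ⟨x, hx⟩ := hne.nonempty
  have hfx : f.left x ∈ X.hom ⁻¹' {X.hom y} := by
    show X.hom (f.left x) = _
    rw [← Scheme.Hom.comp_apply, Over.w]
    exact hx
  exact hne.isPreconnected.subset_isClopen hcl ⟨f.left x, hfx, x, rfl⟩ rfl

end Groth.GrpschAbsch
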