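import Groth.Agent.GrpschAbsch.Basic
import Mathlib.AlgebraicGeometry.ResidueField
import Mathlib.AlgebraicGeometry.PullbackCarrier
import Mathlib.AlgebraicGeometry.Morphisms.UniversallyOpen
import Mathlib.Topology.LocallyClosed

/-!
The image of a homomorphism of group schemes over a field: closure is stable under the group law and
a locally closed image is closed.
-/

universe u

open CategoryTheory CategoryTheory.Limits MonoidalCategory CartesianMonoidalCategory MonObj GrpObj
  AlgebraicGeometry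

namespace Groth.GrpschAbsch

variable {S : Scheme.{u}}

/-- The homeomorphism underlying an isomorphism over `S`. -/
@[simps]
noncomputable def leftHomeo {X Y : Over S} (e : X ≅ Y) : X.left ≃ₜ Y.left where
  toFun := e.hom.left
  invFun := e.inv.left
  left_inv z := by rw [← Scheme.Hom.comp_apply, ← Over.comp_left, e.hom_inv_id]; rfl
  right_inv z := by rw [← Scheme.Hom.comp_apply, ← Over.comp_left, e.inv_hom_id]; rfl
  continuous_toFun := Scheme.Hom.continuous _
  continuous_invFun := Scheme.Hom.continuous _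

/-- A residue field point as an object over `S`. -/
noncomputable abbrev resObj {Z : Over S} (z : Z.left) : Over S :=
  Over.mk (Z.left.fromSpecResidueField z ≫ Z.hom)

/-- A residue field point. -/
noncomputable abbrev resPt {Z : Over S} (z : Z.left) : resObj z ⟶ Z :=
  Over.homMk (Z.left.fromSpecResidueField z) rfl

noncomputable instance {Z : Over S} (z : Z.left) : Inhabited (resObj z).left :=
  ⟨(default : Spec (Z.left.residueField z))⟩

instance {Z : Over S} (z : Z.left) : Subsingleton (resObj z).left :=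
  inferInstanceAs (Subsingleton (Spec (Z.left.residueField z)))

lemma resPt_apply {Z : Over S} (z : Z.left) (t : (resObj z).left) : (resPt z).left t = z :=
  Scheme.fromSpecResidueField_apply _ _

/-- Points lifting to `H` are stable under division. -/
lemma div_mem_range {H G : Over S} [GrpObj H] [GrpObj G] (ψ : H ⟶ G) [IsMonHom ψ] {Z : Over S}
    (a b : Z ⟶ G) (z : Z.left) (ha : a.left z ∈ Set.range ψ.left) (hb : b.left z ∈ Set.range ψ.left) :
    (a / b).left z ∈ Set.range ψ.left := by
  have e0 : ∀ {W : Over S} (f : Z ⟶ W) (t : (resObj z).left),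
      (resPt z ≫ f).left t = f.left z := fun f t ↦ by
    rw [Over.comp_left, Scheme.Hom.comp_apply, resPt_apply]
  let t₀ : (resObj z).left := default
  obtain ⟨h₀, hh₀⟩ := ha
  obtain ⟨t₁, ht₁, -⟩ := Scheme.Pullback.exists_preimage_pullback (f := (resPt z ≫ a).left)
    (g := ψ.left) t₀ h₀ ((e0 a t₀).trans hh₀.symm)
  let P₁ : Over S := Over.mk (pullback.fst (resPt z ≫ a).left ψ.left ≫ (resObj z).hom)
  let c₁ : P₁ ⟶ resObj z := Over.homMk (pullback.fst _ _) rfl
  let x₁ : P₁ ⟶ H := Over.homMk (pullback.snd _ _) (by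
    show pullback.snd _ _ ≫ H.hom = pullback.fst _ _ ≫ (resObj z).hom
    rw [← Over.w ψ, ← pullback.condition_assoc, Over.w (resPt z ≫ a)])
  have hx₁ : c₁ ≫ resPt z ≫ a = x₁ ≫ ψ := Over.OverMorphism.ext pullback.condition
  obtain ⟨h₁, hh₁⟩ := hb
  obtain ⟨t₂, -, -⟩ := Scheme.Pullback.exists_preimage_pullback (f := (c₁ ≫ resPt z ≫ b).left)
    (g := ψ.left) t₁ h₁ (((congrArg (resPt z ≫ b).left ht₁).trans (e0 b t₀)).trans hh₁.symm)
  let P₂ : Over S := Over.mk (pullback.fst (c₁ ≫ resPt z ≫ b).left ψ.left ≫ P₁.hom)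
  let c₂ : P₂ ⟶ P₁ := Over.homMk (pullback.fst _ _) rfl
  let x₂ : P₂ ⟶ H := Over.homMk (pullback.snd _ _) (by
    show pullback.snd _ _ ≫ H.hom = pullback.fst _ _ ≫ P₁.hom
    rw [← Over.w ψ, ← pullback.condition_assoc, Over.w (c₁ ≫ resPt z ≫ b)])
  have hx₂ : c₂ ≫ c₁ ≫ resPt z ≫ b = x₂ ≫ ψ := Over.OverMorphism.ext pullback.condition
  have key : ((c₂ ≫ x₁) / x₂) ≫ ψ = c₂ ≫ c₁ ≫ resPt z ≫ (a / b) := by
    rw [GrpObj.div_comp, Category.assoc, ← hx₁, ← hx₂]
    simp only [GrpObj.comp_div]
  refine ⟨((c₂ ≫ x₁) / x₂).left t₂, ?_⟩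
  rw [← Scheme.Hom.comp_apply, ← Over.comp_left, key, Over.comp_left, Scheme.Hom.comp_apply,
    Over.comp_left, Scheme.Hom.comp_apply]
  exact e0 _ _

lemma one_mem_range {H G : Over S} [GrpObj H] [GrpObj G] (ψ : H ⟶ G) [IsMonHom ψ] {Z : Over S}
    (z : Z.left) : (1 : Z ⟶ G).left z ∈ Set.range ψ.left := by
  refine ⟨(1 : Z ⟶ H).left z, ?_⟩
  rw [← Scheme.Hom.comp_apply, ← Over.comp_left, MonObj.one_comp]

lemma inv_mem_range {H G : Over S} [GrpObj H] [GrpObj G] (ψ : H ⟶ G) [IsMonHom ψ] {Z : Over S}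
    (a : Z ⟶ G) (z : Z.left) (ha : a.left z ∈ Set.range ψ.left) :
    (a⁻¹).left z ∈ Set.range ψ.left := by
  rw [← one_div]
  exact div_mem_range ψ _ _ z (one_mem_range ψ z) ha

lemma mul_mem_range {H G : Over S} [GrpObj H] [GrpObj G] (ψ : H ⟶ G) [IsMonHom ψ] {Z : Over S}
    (a b : Z ⟶ G) (z : Z.left) (ha : a.left z ∈ Set.range ψ.left) (hb : b.left z ∈ Set.range ψ.left) :
    (a * b).left z ∈ Set.range ψ.left := by
  rw [← div_inv_eq_mul]
  exact div_mem_range ψ _ _ z ha (inv_mem_range ψ b z hb)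

set_option maxHeartbeats 400000
set_option linter.unusedVariables false

section Field

variable {K : Type u} [Field K]


lemma isOpenMap_snd_left (X Y : Over (Spec (CommRingCat.of K))) : IsOpenMap (snd X Y).left :=
  haveI : UniversallyOpen X.hom := inferInstance
  haveI : UniversallyOpen (snd X Y).left := snd_left_mem @UniversallyOpen X Y ‹_›
  (snd X Y).left.isOpenMap

lemma isOpenMap_fst_left (X Y : Over (Spec (CommRingCat.of K))) : IsOpenMap (fst X Y).left :=
  haveI : UniversallyOpen Y.hom := inferInstance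
  haveI : UniversallyOpen (fst X Y).left := fst_left_mem @UniversallyOpen X Y ‹_›
  (fst X Y).left.isOpenMap

lemma preimage_snd_closure (X Y : Over (Spec (CommRingCat.of K))) (B : Set Y.left) :
    (snd X Y).left ⁻¹' closure B = closure ((snd X Y).left ⁻¹' B) :=
  (isOpenMap_snd_left X Y).preimage_closure_eq_closure_preimage (Scheme.Hom.continuous _) B

/-- Fibrewise density for the second factor. -/
lemma mem_closure_inter_snd {X Y : Over (Spec (CommRingCat.of K))} (z : (X ⊗ Y).left) (A : Set X.left) (B : Set Y.left)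
    (ha : (fst X Y).left z ∈ A) (hb : (snd X Y).left z ∈ closure B) :
    z ∈ closure ((fst X Y).left ⁻¹' A ∩ (snd X Y).left ⁻¹' B) := by
  let x := (fst X Y).left z
  obtain ⟨w, -, hw⟩ := Scheme.exists_preimage_of_isPullback (isPullback_whiskerRight (resPt x) Y).flip
    default z (resPt_apply x default)
  have hwB : w ∈ closure ((snd (resObj x) Y).left ⁻¹' B) := by
    rw [← (isOpenMap_snd_left _ Y).preimage_closure_eq_closure_preimage (Scheme.Hom.continuous _)]
    show (snd (resObj x) Y).left w ∈ closure B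
    rw [← whiskerRight_snd (resPt x) Y, Over.comp_left, Scheme.Hom.comp_apply, hw]
    exact hb
  rw [← hw]
  refine map_mem_closure (Scheme.Hom.continuous _) hwB fun v hv ↦ ⟨?_, ?_⟩
  · show (fst X Y).left ((resPt x ▷ Y).left v) ∈ A
    rw [← Scheme.Hom.comp_apply, ← Over.comp_left, whiskerRight_fst, Over.comp_left,
      Scheme.Hom.comp_apply, resPt_apply]
    exact ha
  · show (snd X Y).left ((resPt x ▷ Y).left v) ∈ B
    rw [← Scheme.Hom.comp_apply, ← Over.comp_left, whiskerRight_snd]
    exact hv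

/-- Fibrewise density for the first factor. -/
lemma mem_closure_inter_fst {X Y : Over (Spec (CommRingCat.of K))} (z : (X ⊗ Y).left) (A : Set X.left) (B : Set Y.left)
    (ha : (fst X Y).left z ∈ closure A) (hb : (snd X Y).left z ∈ B) :
    z ∈ closure ((fst X Y).left ⁻¹' A ∩ (snd X Y).left ⁻¹' B) := by
  let y := (snd X Y).left z
  obtain ⟨w, -, hw⟩ := Scheme.exists_preimage_of_isPullback (isPullback_whiskerLeft X (resPt y)).flip
    default z (resPt_apply y default)
  have hwA : w ∈ closure ((fst X (resObj y)).left ⁻¹' A) := by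
    rw [← (isOpenMap_fst_left X _).preimage_closure_eq_closure_preimage (Scheme.Hom.continuous _)]
    show (fst X (resObj y)).left w ∈ closure A
    rw [← whiskerLeft_fst X (resPt y), Over.comp_left, Scheme.Hom.comp_apply, hw]
    exact ha
  rw [← hw]
  refine map_mem_closure (Scheme.Hom.continuous _) hwA fun v hv ↦ ⟨?_, ?_⟩
  · show (fst X Y).left ((X ◁ resPt y).left v) ∈ A
    rw [← Scheme.Hom.comp_apply, ← Over.comp_left, whiskerLeft_fst]
    exact hv
  · show (snd X Y).left ((X ◁ resPt y).left v) ∈ B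
    rw [← Scheme.Hom.comp_apply, ← Over.comp_left, whiskerLeft_snd, Over.comp_left,
      Scheme.Hom.comp_apply, resPt_apply]
    exact hb

lemma prod_closure_subset {X Y : Over (Spec (CommRingCat.of K))} (A : Set X.left) (B : Set Y.left) :
    (fst X Y).left ⁻¹' closure A ∩ (snd X Y).left ⁻¹' closure B ⊆
      closure ((fst X Y).left ⁻¹' A ∩ (snd X Y).left ⁻¹' B) := fun z hz ↦
  closure_minimal (fun z' hz' ↦ mem_closure_inter_fst z' A B hz'.1 hz'.2) isClosed_closure
    (mem_closure_inter_snd z (closure A) B hz.1 hz.2)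

variable {H G : Over (Spec (CommRingCat.of K))} [GrpObj H] [GrpObj G] (ψ : H ⟶ G) [IsMonHom ψ]

/-- The closure of the image is stable under division. -/
lemma div_mem_closure_range {Z : Over (Spec (CommRingCat.of K))} (a b : Z ⟶ G) (z : Z.left)
    (ha : a.left z ∈ closure (Set.range ψ.left)) (hb : b.left z ∈ closure (Set.range ψ.left)) :
    (a / b).left z ∈ closure (Set.range ψ.left) := by
  have e : (a / b) = lift a b ≫ (fst G G / snd G G) := by
    rw [GrpObj.comp_div, lift_fst, lift_snd]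
  rw [e, Over.comp_left, Scheme.Hom.comp_apply]
  have hw : (lift a b).left z ∈ closure ((fst G G).left ⁻¹' Set.range ψ.left ∩
      (snd G G).left ⁻¹' Set.range ψ.left) := by
    refine prod_closure_subset _ _ ⟨?_, ?_⟩
    · show (fst G G).left ((lift a b).left z) ∈ closure (Set.range ψ.left)
      rw [← Scheme.Hom.comp_apply, ← Over.comp_left, lift_fst]
      exact ha
    · show (snd G G).left ((lift a b).left z) ∈ closure (Set.range ψ.left)
      rw [← Scheme.Hom.comp_apply, ← Over.comp_left, lift_snd]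
      exact hb
  exact map_mem_closure (Scheme.Hom.continuous _) hw fun w hw ↦ div_mem_range ψ _ _ w hw.1 hw.2

lemma mul_mem_closure_range {Z : Over (Spec (CommRingCat.of K))} (a b : Z ⟶ G) (z : Z.left)
    (ha : a.left z ∈ closure (Set.range ψ.left)) (hb : b.left z ∈ closure (Set.range ψ.left)) :
    (a * b).left z ∈ closure (Set.range ψ.left) := by
  rw [← div_inv_eq_mul, ← one_div b]
  exact div_mem_closure_range ψ _ _ z ha
    (div_mem_closure_range ψ _ _ z (subset_closure (one_mem_range ψ z)) hb)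

theorem mem_range_of_mem_closure_aux {X : Over (Spec (CommRingCat.of K))} (x₀ : X.left) (pt : X ⟶ G) {g : G.left}
    (hpt : ∀ x, pt.left x = g) (h : IsLocallyClosed (Set.range ψ.left))
    (hg : g ∈ closure (Set.range ψ.left)) : g ∈ Set.range ψ.left := by
  let R := Set.range ψ.left
  let p := snd X G
  let a : X ⊗ G ⟶ G := fst _ _ ≫ pt
  have ha : ∀ w, a.left w = g := fun w ↦ by
    show pt.left ((fst X G).left w) = g
    exact hpt ((fst X G).left w)
  let τ : X ⊗ G ≅ X ⊗ G := shearL pt
  have hτ : τ.hom ≫ p = a * p := (shearL_hom_snd pt).trans (whiskerRight_mul pt)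
  obtain ⟨σ, hσ₀⟩ : ∃ σ : (X ⊗ G).left ≃ₜ (X ⊗ G).left, ∀ w, σ w = τ.hom.left w :=
    ⟨leftHomeo τ, fun _ ↦ rfl⟩
  have hσ : ∀ w, p.left (σ w) = (a * p).left w := fun w ↦ by
    rw [hσ₀, ← Scheme.Hom.comp_apply, ← Over.comp_left, hτ]
  let D : Set (X ⊗ G).left := p.left ⁻¹' closure R
  have hD : D = closure (p.left ⁻¹' R) :=
    preimage_snd_closure X G R
  have hσD : σ ⁻¹' D = D := by
    ext w
    show p.left (σ w) ∈ closure R ↔ p.left w ∈ closure R
    rw [hσ]
    refine ⟨fun hw ↦ ?_, fun hw ↦ mul_mem_closure_range ψ a p w (by rw [ha]; exact hg) hw⟩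
    have := mul_mem_closure_range ψ a⁻¹ (a * p) w ?_ hw
    · rwa [inv_mul_cancel_left] at this
    · rw [← one_div]
      exact div_mem_closure_range ψ _ _ w (subset_closure (one_mem_range ψ w)) (by rw [ha]; exact hg)
  obtain ⟨O, hO, hOR⟩ := isOpen_induced_iff.mp (h.isOpen_preimage_val_closure)
  have hR : ∀ x ∈ closure R, (x ∈ O ↔ x ∈ R) := fun x hx ↦ Set.ext_iff.mp hOR ⟨x, hx⟩
  -- a point with `b ∈ R`, then one with also `g * b ∈ R`
  obtain ⟨w, hw⟩ : (p.left ⁻¹' R).Nonempty :=
    ⟨(lift (𝟙 X) 1).left x₀, by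
      show p.left ((lift (𝟙 X) 1).left x₀) ∈ R
      rw [← Scheme.Hom.comp_apply, ← Over.comp_left, lift_snd]
      exact one_mem_range ψ _⟩
  have hwD : σ.symm w ∈ D := by
    rw [← hσD]
    show σ (σ.symm w) ∈ D
    rw [σ.apply_symm_apply]
    exact subset_closure hw
  rw [hD] at hwD
  have hwO : σ.symm w ∈ σ ⁻¹' (p.left ⁻¹' O) := by
    show p.left (σ (σ.symm w)) ∈ O
    rw [σ.apply_symm_apply]
    exact (hR _ (subset_closure hw)).mpr hw
  obtain ⟨v, hvO, hvR⟩ := mem_closure_iff.mp hwD _
    ((hO.preimage (Scheme.Hom.continuous _)).preimage σ.continuous) hwO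
  have hvD : v ∈ σ ⁻¹' D := by rw [hσD]; exact subset_closure hvR
  have hab : (a * p).left v ∈ R := by rw [← hσ]; exact (hR _ hvD).mp hvO
  have := div_mem_range ψ (a * p) p v hab hvR
  rwa [mul_div_cancel_right, ha] at this

/-- A locally closed image of a homomorphism is closed. -/
theorem isClosed_range_of_isLocallyClosed (h : IsLocallyClosed (Set.range ψ.left)) :
    IsClosed (Set.range ψ.left) :=
  isClosed_of_closure_subset fun g hg ↦ by
    obtain ⟨x₀⟩ : Nonempty (resObj (Z := G) g).left := ⟨default⟩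
    exact mem_range_of_mem_closure_aux ψ (X := resObj (Z := G) g) x₀ (resPt (Z := G) g) (g := g)
      (resPt_apply (Z := G) g) h hg

end Field

end Groth.GrpschAbsch
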