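import Groth.Agent.AlgSp2.FlatFibreScheme
import Groth.Agent.AlgSp2.SmoothDescent
import Groth.Agent.FlatMor2.FibCrit.Fibrewise
import Groth.Agent.AlgGrp1.AffineKernel
import Groth.Agent.GrpschAbsch.GrpEtaleRel
import Groth.Agent.GrpschAbsch.ImageSubgroup
import Groth.Agent.AlgGrp1.FiniteHom
import Groth.Agent.Abvar.Hom
import Groth.Agent.DescentBase.DimEtale

/-!
Surjective homomorphisms onto group schemes with geometrically reduced fibres are flat.
-/

set_option autoImplicit false
universe u

open CategoryTheory CategoryTheory.Limits MonoidalCategory CartesianMonoidalCategory MonObj GrpObj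
  AlgebraicGeometry TopologicalSpace

namespace Groth.GrpschAbsch.FibreFlat

open Groth.AlgSp2.FlatFib

/-- A morphism is flat at any point lying over a point whose stalk is a field. -/
theorem flat_at_of_isField {X Y : Scheme.{u}} (f : X ⟶ Y) (x : X)
    (h : IsField (Y.presheaf.stalk (f x))) : (f.stalkMap x).hom.Flat := by
  let := h.toField
  algebraize [(f.stalkMap x).hom]
  exact inferInstanceAs (Module.Flat (Y.presheaf.stalk (f x)) (X.presheaf.stalk x))

/-- A nonempty reduced scheme has a point whose stalk is a field. -/
theorem exists_isField_stalk (Y : Scheme.{u}) [IsReduced Y] (y : Y) :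
    ∃ z : Y, IsField (Y.presheaf.stalk z) := by
  obtain ⟨z, hz⟩ := QuasiSober.sober (isIrreducible_irreducibleComponent (x := y))
    isClosed_irreducibleComponent
  exact ⟨z, isField_stalk_of_closure_mem_irreducibleComponents Y z
    (hz.def ▸ irreducibleComponent_mem_irreducibleComponents y)⟩

/-- Over an algebraically closed field, a surjective homomorphism to a reduced group scheme is flat. -/
theorem flat_of_surjective_algClosed {k : Type u} [Field k] [IsAlgClosed k]
    {P Q : Over (Spec (CommRingCat.of k))} [GrpObj P] [GrpObj Q]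
    [LocallyOfFiniteType P.hom] [LocallyOfFiniteType Q.hom] [IsReduced Q.left]
    (f : P ⟶ Q) [IsMonHom f] [Surjective f.left] : Flat f.left := by
  have : LocallyOfFinitePresentation (f.left ≫ Q.hom) := by
    rw [Over.w]; infer_instance
  have : Flat (f.left ≫ Q.hom) := by infer_instance
  let U : Set P.left := {x | (f.left.stalkMap x).hom.Flat}
  have hU : IsOpen U := isOpen_flatLocus f.left Q.hom
  suffices h : U = Set.univ by
    exact Flat.of_stalkMap f.left fun x => (h ▸ Set.mem_univ x : x ∈ U)
  have hne : U.Nonempty := by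
    obtain ⟨z, hz⟩ := exists_isField_stalk Q.left (η[Q].left (IsLocalRing.closedPoint k))
    obtain ⟨x, rfl⟩ := f.left.surjective z
    exact ⟨x, flat_at_of_isField f.left x hz⟩
  have := LocallyOfFiniteType.jacobsonSpace P.hom
  obtain ⟨y, hyU, hy⟩ := nonempty_inter_closedPoints hne hU.isLocallyClosed
  by_contra hne'
  obtain ⟨x, hxU, hx⟩ := nonempty_inter_closedPoints (Z := Uᶜ) (Set.nonempty_compl.2 hne')
    hU.isClosed_compl.isLocallyClosed
  let px : 𝟙_ (Over (Spec (CommRingCat.of k))) ⟶ P :=
    Over.homMk _ ((pointEquivClosedPoint P.hom).symm ⟨x, hx⟩).2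
  let py : 𝟙_ (Over (Spec (CommRingCat.of k))) ⟶ P :=
    Over.homMk _ ((pointEquivClosedPoint P.hom).symm ⟨y, hy⟩).2
  let g := px * py⁻¹
  let a := (Groth.AlgGrp1.translIso g).hom
  let b := (Groth.AlgGrp1.translIso (g ≫ f)).hom
  have : IsIso a.left := inferInstanceAs (IsIso ((Over.forget _).map (Groth.AlgGrp1.translIso g).hom))
  have : IsIso b.left := inferInstanceAs (IsIso ((Over.forget _).map (Groth.AlgGrp1.translIso (g ≫ f)).hom))
  have hw : a.left ≫ f.left = f.left ≫ b.left := by
    rw [← Over.comp_left, ← Over.comp_left, Groth.AlgGrp1.translIso_comp]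
  have hmove : py ≫ a = px := by
    show py ≫ ((toUnit P ≫ g) * 𝟙 P) = px
    rw [MonObj.comp_mul, Category.comp_id, ← Category.assoc, toUnit_unique (py ≫ toUnit P) (𝟙 _),
      Category.id_comp, inv_mul_cancel_right]
  have hax : a.left y = x := by
    simpa [px, py, pointEquivClosedPoint] using congr(($hmove).left.base (IsLocalRing.closedPoint k))
  apply hxU
  show (f.left.stalkMap x).hom.Flat
  rw [← hax]
  exact flat_at_of_comp a.left f.left y (Flat.stalkMap _ y)
    (hw ▸ flat_at_comp f.left b.left y hyU (Flat.stalkMap _ _))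

/-- The square comparing a homomorphism with its base change. -/
theorem isPullback_map {S T : Scheme.{u}} (t : T ⟶ S) {P Q : Over S} (f : P ⟶ Q) :
    IsPullback (pullback.fst P.hom t) ((Over.pullback t).map f).left f.left (pullback.fst Q.hom t) := by
  refine IsPullback.of_bot ?_ (pullback.lift_fst _ _ _).symm (IsPullback.of_hasPullback Q.hom t)
  rw [Over.w f]
  change IsPullback _ (pullback.lift _ _ _ ≫ pullback.snd _ _) _ _
  rw [pullback.lift_snd]
  exact IsPullback.of_hasPullback P.hom t

/-- Over any field, a surjective homomorphism to a geometrically reduced group scheme is flat. -/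
theorem flat_of_surjective_field {k : Type u} [Field k]
    {P Q : Over (Spec (CommRingCat.of k))} [GrpObj P] [GrpObj Q]
    [LocallyOfFiniteType P.hom] [LocallyOfFiniteType Q.hom] [GeometricallyReduced Q.hom]
    (f : P ⟶ Q) [IsMonHom f] [Surjective f.left] : Flat f.left := by
  let t : Spec (CommRingCat.of (AlgebraicClosure k)) ⟶ Spec (CommRingCat.of k) :=
    Spec.map (CommRingCat.ofHom (algebraMap k (AlgebraicClosure k)))
  have : Surjective t := ⟨fun q => ⟨IsLocalRing.closedPoint _, Subsingleton.elim _ _⟩⟩
  letI : GrpObj ((Over.pullback t).obj P) := Functor.grpObjObj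
  letI : GrpObj ((Over.pullback t).obj Q) := Functor.grpObjObj
  have : LocallyOfFiniteType ((Over.pullback t).obj P).hom :=
    inferInstanceAs (LocallyOfFiniteType (pullback.snd P.hom t))
  have : LocallyOfFiniteType ((Over.pullback t).obj Q).hom :=
    inferInstanceAs (LocallyOfFiniteType (pullback.snd Q.hom t))
  have : IsReduced ((Over.pullback t).obj Q).left :=
    GeometricallyReduced.geometrically_isReduced (f := Q.hom) t _ _ (IsPullback.of_hasPullback _ _)
  have sq := isPullback_map t f
  have : Surjective ((Over.pullback t).map f).left :=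
    MorphismProperty.of_isPullback sq ‹Surjective f.left›
  have := flat_of_surjective_algClosed ((Over.pullback t).map f)
  have hQ : (@Surjective ⊓ @Flat ⊓ @QuasiCompact : MorphismProperty Scheme.{u}) (pullback.fst Q.hom t) :=
    ⟨⟨inferInstance, inferInstance⟩, inferInstance⟩
  exact MorphismProperty.of_isPullback_of_descendsAlong (P := @Flat) sq.flip hQ this

/-- The fibres of a homomorphism, as maps of group schemes over the residue field, decide flatness. -/
theorem flat_of_surjective {S : Scheme.{u}} {G H : Over S} [GrpObj G] [GrpObj H]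
    [LocallyOfFinitePresentation G.hom] [Flat G.hom] [LocallyOfFiniteType H.hom]
    [GeometricallyReduced H.hom] (f : G ⟶ H) [IsMonHom f] [Surjective f.left] :
    Flat f.left ∧ Flat H.hom := by
  have : LocallyOfFinitePresentation (f.left ≫ H.hom) := by rw [Over.w]; infer_instance
  have : Flat (f.left ≫ H.hom) := by rw [Over.w]; infer_instance
  have hfib : ∀ s : S, Flat (MoreMor.fiberMap f.left H.hom s) := fun s => by
    let t : Spec (CommRingCat.of (S.residueField s)) ⟶ S := S.fromSpecResidueField s
    rw [Groth.FlatMor2.FibCrit.of_fiberMap_iff f.left H.hom @Flat s]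
    letI : GrpObj ((Over.pullback t).obj G) := Functor.grpObjObj
    letI : GrpObj ((Over.pullback t).obj H) := Functor.grpObjObj
    have : LocallyOfFiniteType ((Over.pullback t).obj G).hom :=
      inferInstanceAs (LocallyOfFiniteType (pullback.snd G.hom t))
    have : LocallyOfFiniteType ((Over.pullback t).obj H).hom :=
      inferInstanceAs (LocallyOfFiniteType (pullback.snd H.hom t))
    have : GeometricallyReduced ((Over.pullback t).obj H).hom :=
      inferInstanceAs (GeometricallyReduced (pullback.snd H.hom t))
    have sq := isPullback_map t f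
    have : Surjective ((Over.pullback t).map f).left :=
      MorphismProperty.of_isPullback sq ‹Surjective f.left›
    have h := flat_of_surjective_field (k := S.residueField s) ((Over.pullback t).map f)
    rw [← sq.isoPullback_hom_snd, MorphismProperty.cancel_left_of_respectsIso (P := @Flat)] at h
    exact h
  obtain ⟨h1, h2⟩ := Groth.FlatMor2.FibCrit.flat_of_flat_fibres f.left H.hom hfib
  refine ⟨h1, Flat.of_stalkMap _ fun y => ?_⟩
  obtain ⟨x, rfl⟩ := f.left.surjective y
  exact h2 x

/-- A smooth morphism has geometrically reduced fibres. -/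
theorem geometricallyReduced_of_smooth {X S : Scheme.{u}} (f : X ⟶ S) [Smooth f] :
    GeometricallyReduced f := by
  refine ⟨fun K _ y P p q H => ?_⟩
  have : Smooth (Over.mk q).hom := MorphismProperty.of_isPullback H ‹Smooth f›
  have := Groth.AlgGrp1.geometricallyReduced_of_smooth_hom (Over.mk q)
  exact Groth.AlgGrp1.isReduced_left (Over.mk q)

/-- A flat homomorphism of proper group schemes with connected target fibres is surjective. -/
theorem surjective_of_flat_proper {S : Scheme.{u}} {A B : Over S} [GrpObj A] [GrpObj B] [IsProper A.hom]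
    [IsSeparated B.hom] [LocallyOfFiniteType B.hom] [LocallyOfFinitePresentation A.hom]
    [GeometricallyConnected B.hom] (f : A ⟶ B) [IsMonHom f] [Flat f.left] : Surjective f.left := by
  have : IsProper (f.left ≫ B.hom) := by rw [Over.w]; infer_instance
  have : IsProper f.left := IsProper.of_comp f.left B.hom
  have : LocallyOfFinitePresentation (f.left ≫ B.hom) := by rw [Over.w]; infer_instance
  have : LocallyOfFinitePresentation f.left := Groth.SpectralTopology.lfp_of_comp f.left B.hom
  refine ⟨fun y => ?_⟩
  have hc := B.hom.isConnected_preimage_singleton (B.hom y)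
  have hcl : IsClopen (Set.range f.left) :=
    ⟨f.left.isClosedMap.isClosed_range, f.left.isOpenMap.isOpen_range⟩
  let a := η[A].left (B.hom y)
  have hm : B.hom (f.left a) = B.hom y := by
    rw [← Scheme.Hom.comp_apply, Over.w]
    exact congr(($(Over.w η[A])).base (B.hom y))
  exact hc.isPreconnected.subset_isClopen hcl ⟨f.left a, hm, a, rfl⟩ rfl

/-- The map of fibres of a homomorphism, up to isomorphism. -/
theorem of_map_iff (P : MorphismProperty Scheme.{u}) [P.RespectsIso] {S : Scheme.{u}} {G H : Over S}
    (f : G ⟶ H) (s : S) :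
    P ((Over.pullback (S.fromSpecResidueField s)).map f).left ↔ P (pullback.snd f.left (H.hom.fiberι s)) := by
  rw [← (isPullback_map (S.fromSpecResidueField s) f).isoPullback_hom_snd]
  exact P.cancel_left_of_respectsIso _ _

/-- A morphism with quasi-finite fibre maps is quasi-finite. -/
theorem locallyQuasiFinite_of_fibres {X Y S : Scheme.{u}} (f : X ⟶ Y) (g : Y ⟶ S) [LocallyOfFiniteType f]
    (h : ∀ s, LocallyQuasiFinite (pullback.snd f (g.fiberι s))) : LocallyQuasiFinite f :=
  LocallyQuasiFinite.of_fiberToSpecResidueField f (Groth.FlatMor2.FibCrit.fiber_of_fiberMap f g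
    @LocallyQuasiFinite fun s => (Groth.FlatMor2.FibCrit.of_fiberMap_iff f g _ s).2 (h s))

section Field

variable {k : Type u} [Field k] {X Y : Over (Spec (CommRingCat.of k))} [GrpObj X] [GrpObj Y]
  (f : X ⟶ Y) [IsMonHom f]

/-- A flat homomorphism to a connected group scheme over a field is surjective. -/
theorem surjective_of_flat_field [LocallyOfFiniteType X.hom] [LocallyOfFiniteType Y.hom]
    [PreconnectedSpace Y.left] [Flat f.left] : Surjective f.left := by
  have := Groth.AlgGrp1.lfp_left f
  refine ⟨Set.range_eq_univ.1 (IsClopen.eq_univ ⟨Groth.GrpschAbsch.isClosed_range_of_isLocallyClosed f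
    f.left.isOpenMap.isOpen_range.isLocallyClosed, f.left.isOpenMap.isOpen_range⟩ ?_)⟩
  exact ⟨_, η[X].left (IsLocalRing.closedPoint k), rfl⟩

/-- A surjective flat quasi-finite homomorphism of algebraic groups is finite. -/
theorem isFinite_of_flat_surjective [LocallyOfFiniteType X.hom] [QuasiCompact X.hom]
    [LocallyOfFiniteType Y.hom] [Flat f.left] [Surjective f.left] [LocallyQuasiFinite f.left] :
    IsFinite f.left := by
  have := Groth.AlgGrp1.isSeparated_grpObj Y
  have : QuasiCompact (f.left ≫ Y.hom) := by rw [Over.w]; infer_instance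
  have : QuasiCompact f.left := QuasiCompact.of_comp _ Y.hom
  obtain ⟨N, n, _, hN⟩ := Groth.Agf.exists_preimage f η[Y]
  have : Mono n := Over.mono_of_mono_left n
  have hker : AlgGrp.IsKernel n f := Groth.AlgGrp1.IsKernel.mk' ‹Mono n› fun T g => by
    rw [hN]
    constructor
    · rintro ⟨x, hx⟩
      rw [hx, toUnit_unique x (toUnit T)]; rfl
    · intro h
      exact ⟨toUnit T, h⟩
  have hz : n ≫ f = 1 := by
    obtain ⟨x, hx⟩ := (hN N n).1 ⟨𝟙 N, Category.id_comp n⟩
    rw [hx, toUnit_unique x (toUnit N)]; rfl
  refine Groth.AlgGrp1.IsKernel.descends hker @IsFinite ?_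
  have : LocallyQuasiFinite N.hom := by
    have hr : LocallyQuasiFinite (n ≫ f).left := by
      rw [Over.comp_left]; infer_instance
    rw [hz] at hr
    have : LocallyQuasiFinite η[Y].left := by
      have : IsClosedImmersion η[Y].left := inferInstance
      infer_instance
    have e : (1 : N ⟶ Y).left = N.hom ≫ η[Y].left := rfl
    rw [e] at hr
    exact LocallyQuasiFinite.of_comp N.hom η[Y].left
  have : LocallyOfFiniteType N.hom := by rw [← Over.w n]; infer_instance
  have : QuasiCompact N.hom := by rw [← Over.w n]; infer_instance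
  exact IsFinite.of_locallyQuasiFinite _

end Field

end Groth.GrpschAbsch.FibreFlat
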