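import Groth.Agent.GrpschAbsch.CartierAlg
import Groth.Agent.GrpschAbsch.SmoothField
import Groth.Agent.AlgGrp1.Translate
import Mathlib.Algebra.TrivSqZeroExt.Basic
import Mathlib.AlgebraicGeometry.Noetherian

/-!
Cartier's theorem: group schemes locally of finite type in characteristic zero are smooth.
-/

universe u

open CategoryTheory CategoryTheory.Limits MonoidalCategory CartesianMonoidalCategory MonObj GrpObj
  AlgebraicGeometry IsLocalRing

namespace Groth.GrpschAbsch

variable (k : Type u) [Field k]

/-- The spectrum of a `k`-algebra as an object over `Spec k`. -/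
noncomputable abbrev specOver (R : Type u) [CommRing R] [Algebra k R] :
    Over (Spec (CommRingCat.of k)) :=
  Over.mk (Spec.map (CommRingCat.ofHom (algebraMap k R)))

variable {k}

/-- A map of `k`-algebras as a morphism over `Spec k`. -/
noncomputable def specOverMap {R R' : Type u} [CommRing R] [CommRing R'] [Algebra k R] [Algebra k R']
    (h : R →ₐ[k] R') : specOver k R' ⟶ specOver k R :=
  Over.homMk (Spec.map (CommRingCat.ofHom h.toRingHom)) (by
    show Spec.map _ ≫ Spec.map _ = Spec.map _
    rw [← Spec.map_comp, ← CommRingCat.ofHom_comp]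
    exact congrArg (fun r ↦ Spec.map (CommRingCat.ofHom r)) h.comp_algebraMap)

lemma specOverMap_comp {R R' R'' : Type u} [CommRing R] [CommRing R'] [CommRing R''] [Algebra k R]
    [Algebra k R'] [Algebra k R''] (g : R →ₐ[k] R') (h : R' →ₐ[k] R'') :
    specOverMap h ≫ specOverMap g = specOverMap (h.comp g) :=
  Over.OverMorphism.ext ((Spec.map_comp _ _).symm)

/-- Morphisms from a local spectrum factor through the stalk at the image of the closed point. -/
lemma exists_factor_stalk {X : Scheme.{u}} {R : CommRingCat.{u}} [IsLocalRing R] (f : Spec R ⟶ X)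
    {x : X} (h : f (closedPoint R) = x) :
    ∃ φ : X.presheaf.stalk x ⟶ R, Spec.map φ ≫ X.fromSpecStalk x = f := by
  subst h
  exact ⟨_, Scheme.Spec_stalkClosedPointTo_fromSpecStalk f⟩

/-- Cartier: in characteristic zero a group scheme is reduced at the unit. -/
theorem isReduced_stalk_one [CharZero k] (G : Over (Spec (CommRingCat.of k))) [GrpObj G]
    [LocallyOfFiniteType G.hom] :
    _root_.IsReduced (G.left.presheaf.stalk (η[G].left (closedPoint k))) := by
  set e := η[G].left (closedPoint k)
  have := LocallyOfFiniteType.isLocallyNoetherian G.hom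
  obtain ⟨ε₀, hε₀⟩ := exists_factor_stalk (R := CommRingCat.of k) η[G].left (x := e) rfl
  let A : Type u := G.left.presheaf.stalk e
  let ι₀ : CommRingCat.of k ⟶ G.left.presheaf.stalk e :=
    Spec.preimage (G.left.fromSpecStalk e ≫ G.hom)
  let : Algebra k A := ι₀.hom.toAlgebra
  have hι : Spec.map (CommRingCat.ofHom (algebraMap k A)) = G.left.fromSpecStalk e ≫ G.hom :=
    Spec.map_preimage _
  have hιε : ι₀ ≫ ε₀ = 𝟙 _ := by
    apply Spec.map_injective
    rw [Spec.map_comp, Spec.map_id, Spec.map_preimage, ← Category.assoc, hε₀]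
    exact Over.w η[G]
  let ε : A →ₐ[k] k := { ε₀.hom with commutes' := fun c ↦ congr($hιε c) }
  let j : specOver k A ⟶ G := Over.homMk (G.left.fromSpecStalk e) hι.symm
  have hεj : specOverMap ε ≫ j = (1 : specOver k k ⟶ G) := by
    apply Over.OverMorphism.ext
    show Spec.map ε₀ ≫ G.left.fromSpecStalk e = (toUnit (specOver k k)).left ≫ η[G].left
    rw [hε₀]
    have : (toUnit (specOver k k)).left = Spec.map (CommRingCat.ofHom (algebraMap k k)) := rfl
    rw [this]
    exact (Category.id_comp _).symm.trans (congrArg (· ≫ η[G].left) (Spec.map_id _).symm)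
  have hker : RingHom.ker ε.toRingHom = maximalIdeal A := by
    have : (RingHom.ker ε.toRingHom).IsMaximal :=
      RingHom.ker_isMaximal_of_surjective _ fun c ↦ ⟨algebraMap k A c, ε.commutes c⟩
    exact IsLocalRing.eq_maximalIdeal this
  refine isReduced_of_derivations ε hker fun v hv ↦ ?_
  -- the dual numbers over `A`
  let T : Type u := TrivSqZeroExt A A
  have : IsLocalRing T := IsLocalRing.of_isUnit_or_isUnit_one_sub_self fun t ↦
    (IsLocalRing.isUnit_or_isUnit_one_sub_self (TrivSqZeroExt.fst t)).imp
      TrivSqZeroExt.isUnit_iff_isUnit_fst.mpr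
      (fun h ↦ TrivSqZeroExt.isUnit_iff_isUnit_fst.mpr (by
        rwa [TrivSqZeroExt.fst_sub, TrivSqZeroExt.fst_one]))
  let fstA : T →ₐ[k] A :=
    { toFun := TrivSqZeroExt.fst
      map_one' := rfl, map_zero' := rfl, map_add' := fun _ _ ↦ rfl, map_mul' := fun _ _ ↦ rfl
      commutes' := fun _ ↦ rfl }
  let inlA : A →ₐ[k] T := { (TrivSqZeroExt.inlHom A A) with commutes' := fun c ↦ rfl }
  have hv1 : ∀ c, v (algebraMap k A c) = 0 := fun c ↦ by
    have h1 : v 1 = 0 := by simpa using hv 1 1
    rw [Algebra.algebraMap_eq_smul_one, map_smul, h1, smul_zero]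
  let τk : A →ₐ[k] TrivSqZeroExt k k :=
    { toFun := fun a ↦ (ε a, v a)
      map_one' := TrivSqZeroExt.ext (map_one ε) (by simpa using hv1 1)
      map_zero' := TrivSqZeroExt.ext (map_zero ε) (map_zero v)
      map_add' := fun a b ↦ TrivSqZeroExt.ext (map_add ε a b) (map_add v a b)
      map_mul' := fun a b ↦ TrivSqZeroExt.ext (map_mul ε a b) (by
        show v (a * b) = _
        rw [hv, TrivSqZeroExt.snd_mul]
        simp [TrivSqZeroExt.fst, TrivSqZeroExt.snd, mul_comm])
      commutes' := fun c ↦ TrivSqZeroExt.ext (ε.commutes c) (hv1 c) }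
  let incA : TrivSqZeroExt k k →ₐ[k] T :=
    { toFun := fun t ↦ (algebraMap k A t.fst, algebraMap k A t.snd)
      map_one' := TrivSqZeroExt.ext (map_one _) (map_zero _)
      map_zero' := TrivSqZeroExt.ext (map_zero _) (map_zero _)
      map_add' := fun a b ↦ TrivSqZeroExt.ext (map_add _ _ _) (map_add _ _ _)
      map_mul' := fun a b ↦ TrivSqZeroExt.ext (map_mul _ _ _) (by
        show algebraMap k A (a * b).snd = _
        rw [TrivSqZeroExt.snd_mul, TrivSqZeroExt.snd_mul]
        simp [TrivSqZeroExt.fst, TrivSqZeroExt.snd, mul_comm])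
      commutes' := fun c ↦ TrivSqZeroExt.ext rfl (map_zero _) }
  let εT : T →ₐ[k] TrivSqZeroExt k k :=
    { toFun := fun t ↦ (ε t.fst, ε t.snd)
      map_one' := TrivSqZeroExt.ext (map_one _) (map_zero _)
      map_zero' := TrivSqZeroExt.ext (map_zero _) (map_zero _)
      map_add' := fun a b ↦ TrivSqZeroExt.ext (map_add _ _ _) (map_add _ _ _)
      map_mul' := fun a b ↦ TrivSqZeroExt.ext (map_mul _ _ _) (by
        show ε (a * b).snd = _
        rw [TrivSqZeroExt.snd_mul, TrivSqZeroExt.snd_mul]
        simp [TrivSqZeroExt.fst, TrivSqZeroExt.snd, mul_comm])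
      commutes' := fun c ↦ TrivSqZeroExt.ext (ε.commutes c) (map_zero _) }
  let p : specOver k T ⟶ G := specOverMap inlA ≫ j
  let q : specOver k T ⟶ G := specOverMap (incA.comp τk) ≫ j
  let f := p * q
  have hf : specOverMap fstA ≫ f = j := by
    have h1 : fstA.comp inlA = AlgHom.id k A := AlgHom.ext fun _ ↦ rfl
    have h2 : fstA.comp (incA.comp τk) = (Algebra.ofId k A).comp ε := AlgHom.ext fun _ ↦ rfl
    have hid : specOverMap (AlgHom.id k A) = 𝟙 _ := Over.OverMorphism.ext (Spec.map_id _)
    simp only [f, p, q, MonObj.comp_mul, ← Category.assoc, specOverMap_comp, h1, h2, hid,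
      Category.id_comp]
    rw [← specOverMap_comp, Category.assoc, hεj, MonObj.comp_one, _root_.mul_one]
  have hfc : f.left (closedPoint T) = e := by
    have h := congr(($hf).left (closedPoint A))
    have hloc : IsLocalHom (CommRingCat.ofHom fstA.toRingHom).hom :=
      ⟨fun t ht ↦ TrivSqZeroExt.isUnit_iff_isUnit_fst.mpr ht⟩
    have hc : Spec.map (CommRingCat.ofHom fstA.toRingHom) (closedPoint A) = closedPoint T :=
      Spec_closedPoint
    rw [← hc]
    exact h.trans Scheme.fromSpecStalk_closedPoint
  obtain ⟨φ, hφ⟩ := exists_factor_stalk (R := CommRingCat.of T) f.left hfc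
  let φA : A →ₐ[k] T :=
    { φ.hom with
      commutes' := fun c ↦ by
        have h : ι₀ ≫ φ = CommRingCat.ofHom (algebraMap k T) := by
          apply Spec.map_injective
          rw [Spec.map_comp, Spec.map_preimage, ← Category.assoc, hφ]
          exact Over.w f
        exact congr($h c) }
  have hφA : specOverMap φA ≫ j = f := Over.OverMorphism.ext hφ
  have hmono : ∀ {R : Type u} [CommRing R] [Algebra k R] (g h : A →ₐ[k] R),
      specOverMap g ≫ j = specOverMap h ≫ j → g = h := fun g h hgh ↦ by
    have h0 : Spec.map (CommRingCat.ofHom g.toRingHom) = Spec.map (CommRingCat.ofHom h.toRingHom) :=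
      (cancel_mono (G.left.fromSpecStalk e)).mp congr(($hgh).left)
    exact AlgHom.ext fun a ↦ congr($(Spec.map_injective h0) a)
  have hfst : fstA.comp φA = AlgHom.id k A := hmono _ _ (by
    rw [← specOverMap_comp, Category.assoc, hφA, hf,
      show specOverMap (AlgHom.id k A) = 𝟙 _ from Over.OverMorphism.ext (Spec.map_id _),
      Category.id_comp])
  have hεφ : εT.comp φA = τk := hmono _ _ (by
    rw [← specOverMap_comp, Category.assoc, hφA]
    have h1 : εT.comp inlA = (Algebra.ofId k (TrivSqZeroExt k k)).comp ε :=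
      AlgHom.ext fun a ↦ TrivSqZeroExt.ext rfl (map_zero ε)
    have h2 : εT.comp (incA.comp τk) = τk :=
      AlgHom.ext fun a ↦ TrivSqZeroExt.ext (ε.commutes _) (ε.commutes _)
    simp only [f, p, q, MonObj.comp_mul, ← Category.assoc, specOverMap_comp, h1, h2]
    rw [← specOverMap_comp, Category.assoc, hεj, MonObj.comp_one, _root_.one_mul])
  have h1 : ∀ a, TrivSqZeroExt.fst (φA a) = a := fun a ↦ congr($hfst a)
  let Dl : A →ₗ[k] A :=
    { toFun := fun a ↦ TrivSqZeroExt.snd (φA a)
      map_add' := fun a b ↦ by rw [map_add]; exact TrivSqZeroExt.snd_add _ _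
      map_smul' := fun c a ↦ by rw [map_smul]; exact TrivSqZeroExt.snd_smul _ _ }
  refine ⟨Derivation.mk' Dl fun a b ↦ ?_, fun a ↦ congrArg TrivSqZeroExt.snd congr($hεφ a)⟩
  show TrivSqZeroExt.snd (φA (a * b)) = _
  rw [map_mul, TrivSqZeroExt.snd_mul, h1, h1]
  simp [Dl, mul_comm]

/-- Cartier's theorem: a group scheme locally of finite type over a field of characteristic zero is
smooth. -/
theorem smooth_of_charZero [CharZero k] (G : Over (Spec (CommRingCat.of k))) [GrpObj G]
    [LocallyOfFiniteType G.hom] : Smooth G.hom := by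
  let g := Spec.map (CommRingCat.ofHom (algebraMap k (AlgebraicClosure k)))
  apply MorphismProperty.of_pullback_snd_of_descendsAlong
    (Q := @Surjective ⊓ @Flat ⊓ @QuasiCompact) (g := g)
  · exact ⟨⟨inferInstance, inferInstance⟩, inferInstance⟩
  · have : CharZero (AlgebraicClosure k) := charZero_of_injective_algebraMap (algebraMap k _).injective
    let : GrpObj (Over.mk G.hom) := ‹GrpObj G›
    let : GrpObj (Over.mk (pullback.snd G.hom g)) := Over.grpObjMkPullbackSnd
    have : LocallyOfFiniteType (Over.mk (pullback.snd G.hom g)).hom :=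
      inferInstanceAs (LocallyOfFiniteType (pullback.snd _ _))
    have : IsReduced (pullback G.hom g) := AlgGrp1.isReduced_of_isReduced_stalk_unit
      (Over.mk (pullback.snd G.hom g)) _ (isReduced_stalk_one _)
    exact smooth_of_isAlgClosed_of_isReduced _

end Groth.GrpschAbsch
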