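import Groth.Prelude.Def_CInt
import Mathlib.AlgebraicGeometry.Morphisms.SchemeTheoreticallyDominant
import Mathlib.AlgebraicGeometry.Morphisms.Separated

universe u

open CategoryTheory CategoryTheory.Limits AlgebraicGeometry

namespace Groth.GrpschAbsch

lemma isSchemeTheoreticallyDominant_ι {X : Scheme.{u}} (U : X.Opens)
    (hU : CInt.IsSchematicallyDense U) : IsSchemeTheoreticallyDominant U.ι := by
  refine ⟨le_bot_iff.mp fun V ↦ ?_⟩
  intro s hs
  have h := U.ι.ideal_ker_le V hs
  rw [RingHom.mem_ker] at h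
  have hV : U.ι ''ᵁ (U.ι ⁻¹ᵁ V.1) = V.1 ⊓ U := by
    rw [Scheme.Hom.image_preimage_eq_opensRange_inf, Scheme.Opens.opensRange_ι, inf_comm]
  refine hU V.1 (a₁ := s) (a₂ := 0) ?_
  rw [Scheme.Opens.ι_app] at h
  rw [map_zero]
  have h' := (congrArg (X.presheaf.map (eqToHom hV.symm).op).hom h).trans (map_zero _)
  erw [← CommRingCat.comp_apply] at h'
  rw [← Functor.map_comp] at h'
  exact h'

/-- Two morphisms to a separated scheme which agree on a scheme-theoretically dominant map agree. -/
lemma ext_of_isSchemeTheoreticallyDominant {W X Y Z : Scheme.{u}} (s : Y ⟶ Z) [IsSeparated s]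
    {f g : X ⟶ Y} (h : f ≫ s = g ≫ s) (ι : W ⟶ X) [IsSchemeTheoreticallyDominant ι]
    (hU : ι ≫ f = ι ≫ g) : f = g := by
  let a : X ⟶ pullback s s := pullback.lift f g h
  let e := pullback.snd (pullback.diagonal s) a
  have : IsClosedImmersion e :=
    MorphismProperty.pullback_snd (P := @IsClosedImmersion) _ _ inferInstance
  have ha₁ : a ≫ pullback.fst s s = f := pullback.lift_fst _ _ _
  have ha₂ : a ≫ pullback.snd s s = g := pullback.lift_snd _ _ _
  let t : W ⟶ pullback (pullback.diagonal s) a := pullback.lift (ι ≫ f) ι (by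
    apply pullback.hom_ext
    · simp only [Category.assoc, pullback.diagonal_fst, ha₁, Category.comp_id]
    · simp only [Category.assoc, pullback.diagonal_snd, ha₂, Category.comp_id, hU])
  have ht : t ≫ e = ι := pullback.lift_snd _ _ _
  have hk : e.ker = ⊥ := by
    rw [← le_bot_iff, ← ι.ker_eq_bot, ← ht]
    exact t.le_ker_comp e
  have : IsIso e := IsClosedImmersion.isIso_iff_ker_eq_bot.mpr hk
  have hc := pullback.condition (f := pullback.diagonal s) (g := a)
  have h1 := hc =≫ pullback.fst s s
  have h2 := hc =≫ pullback.snd s s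
  simp only [Category.assoc, pullback.diagonal_fst, pullback.diagonal_snd, Category.comp_id,
    ha₁, ha₂] at h1 h2
  rw [← cancel_epi e]
  exact h1.symm.trans h2

end Groth.GrpschAbsch
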