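import Groth.Agent.OortTate.Killed
import Groth.Prelude.Def_Red
import Mathlib.AlgebraicGeometry.Group.Affine
import Mathlib.AlgebraicGeometry.Morphisms.FlatRank

/-!
Deligne: a finite locally free commutative group scheme is killed by its rank.
-/

universe u

open CategoryTheory MonoidalCategory CartesianMonoidalCategory MonObj GrpObj AlgebraicGeometry
  CategoryTheory.Limits WithConv TensorProduct

open scoped CategoryTheory.Obj

namespace Groth.GrpschAbsch

/-- A Hopf algebra is cocommutative when the spectrum is a commutative group scheme. -/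
lemma isCocomm_of_isCommMonObj (R H : CommRingCat.{u}) [HopfAlgebra R H]
    [IsCommMonObj ((Spec H).asOver (Spec R))] : Coalgebra.IsCocomm R H := by
  let inl : H →ₐ[R] H ⊗[R] H := Algebra.TensorProduct.includeLeft
  let inr : H →ₐ[R] H ⊗[R] H := Algebra.TensorProduct.includeRight
  have hcomm : toConv inl * toConv inr = toConv inr * toConv inl :=
    (Spec.mapMulEquiv (R := R) (S := H) (T := ↑H ⊗[↑R] ↑H)).injective (by
      rw [map_mul, map_mul, mul_comm])
  constructor
  refine LinearMap.ext fun a ↦ ?_
  have key := congrArg (fun f : WithConv (↑H →ₐ[↑R] ↑H ⊗[↑R] ↑H) ↦ f.ofConv a) hcomm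
  simp only [AlgHom.convMul_apply] at key
  show TensorProduct.comm R H H (Coalgebra.comul a) = Coalgebra.comul a
  have e1 : ∀ z : ↑H ⊗[↑R] ↑H, Algebra.TensorProduct.lift inl inr (fun _ _ ↦ mul_comm _ _) z = z :=
    fun z ↦ by
      induction z using TensorProduct.induction_on with
      | zero => simp
      | tmul x y => simp [inl, inr]
      | add x y hx hy => rw [map_add, hx, hy]
  have e2 : ∀ z : ↑H ⊗[↑R] ↑H,
      Algebra.TensorProduct.lift inr inl (fun _ _ ↦ mul_comm _ _) z = TensorProduct.comm R H H z :=
    fun z ↦ by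
      induction z using TensorProduct.induction_on with
      | zero => simp
      | tmul x y => simp [inl, inr]
      | add x y hx hy => rw [map_add, map_add, hx, hy]
  rw [e1, e2] at key
  exact key.symm

theorem pow_rank_eq_one_affine (R : CommRingCat.{u}) (G : Over (Spec R)) [GrpObj G] [IsCommMonObj G]
    [IsFinite G.hom] [Flat G.hom] [LocallyOfFinitePresentation G.hom] (n : ℕ)
    (hn : ∀ y, G.hom.finrank y = n) : (𝟙 G : G ⟶ G) ^ n = 1 := by
  have hA : IsAffine G.left := isAffine_of_isAffineHom G.hom
  obtain ⟨H, ⟨e⟩⟩ := (essImage_hopfSpec (R := R) (G := Grp.mk G)).2 hA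
  obtain ⟨H⟩ := H
  let X := (Spec (CommRingCat.of H)).asOver (Spec R)
  let φ : X ≅ G := (Grp.forget (Over (Spec R))).mapIso e
  have hφ : IsMonHom φ.hom := e.hom.hom.isMonHom_hom
  have : IsCommMonObj X := ⟨by
    rw [← cancel_mono φ.hom, Category.assoc, IsMonHom.mul_hom,
      ← BraidedCategory.braiding_naturality_assoc, IsCommMonObj.mul_comm]⟩
  have : Coalgebra.IsCocomm R H := isCocomm_of_isCommMonObj R (CommRingCat.of H)
  have : IsIso φ.hom.left := (Over.forget _).map_isIso φ.hom
  have hmap : φ.hom.left ≫ G.hom =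
      (Spec.map (CommRingCat.ofHom (algebraMap R H)) : Spec (CommRingCat.of H) ⟶ Spec R) :=
    Over.w φ.hom
  have hfl : Module.Flat R H := by
    have h1 : Flat (Spec.map (CommRingCat.ofHom (algebraMap R H))) := by
      have h2 : Flat (φ.hom.left ≫ G.hom) := inferInstance
      exact hmap ▸ h2
    exact RingHom.flat_algebraMap_iff.1 ((Flat.SpecMap_iff).1 h1)
  have hfin : Module.Finite R H := by
    have h1 : IsFinite (Spec.map (CommRingCat.ofHom (algebraMap R H))) := by
      have h2 : IsFinite (φ.hom.left ≫ G.hom) := inferInstance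
      exact hmap ▸ h2
    exact RingHom.finite_algebraMap.1 ((IsFinite.SpecMap_iff _).1 h1)
  have hfp : Algebra.FinitePresentation R H := by
    have h1 : LocallyOfFinitePresentation (Spec.map (CommRingCat.ofHom (algebraMap R H))) := by
      have h2 : LocallyOfFinitePresentation (φ.hom.left ≫ G.hom) := inferInstance
      exact hmap ▸ h2
    exact RingHom.finitePresentation_algebraMap.1 ((LocallyOfFinitePresentation.SpecMap_iff _).1 h1)
  have := Module.FinitePresentation.of_finite_of_finitePresentation (R := R) (S := H)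
  have : Module.Projective R H := Module.Flat.projective_of_finitePresentation
  have hrk : ∀ q : PrimeSpectrum R, Module.rankAtStalk H q = n := fun q ↦ by
    have h2 : Scheme.Hom.finrank (φ.hom.left ≫ G.hom) q = Module.rankAtStalk H q := by
      rw [hmap]
      exact Scheme.Hom.finrank_SpecMap_algebraMap R H q
    rw [Scheme.Hom.finrank_comp_left_of_isIso φ.hom.left G.hom, hn q] at h2
    exact h2.symm
  have key : (𝟙 X : X ⟶ X) ^ n = 1 := by
    have h1 : (𝟙 X : X ⟶ X) = Spec.mapMulEquiv (toConv (AlgHom.id R H)) := by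
      ext1
      exact (Spec.map_id _).symm
    rw [h1, ← map_pow, Groth.Agent.OortTate.convPow_rank_eq_one hrk, map_one]
  let ψ : (X ⟶ X) →* (G ⟶ G) :=
    { toFun := fun f => φ.inv ≫ f ≫ φ.hom
      map_one' := by rw [MonObj.one_comp, MonObj.comp_one]
      map_mul' := fun f g => by rw [MonObj.mul_comp, MonObj.comp_mul] }
  have : ψ (𝟙 X) = 𝟙 G := by simp [ψ]
  rw [← this, ← map_pow, key, map_one]

/-- A finite locally free commutative group scheme is killed by its rank. -/
theorem pow_rank_eq_one {S : Scheme.{u}} (G : Over S) [GrpObj G] [IsCommMonObj G]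
    [IsFinite G.hom] [Flat G.hom] [LocallyOfFinitePresentation G.hom] (n : ℕ)
    (hn : ∀ s, G.hom.finrank s = n) : (𝟙 G : G ⟶ G) ^ n = 1 := by
  ext1
  suffices aux : ∀ (R : CommRingCat.{u}) (j : Spec R ⟶ S),
      pullback.fst G.hom j ≫ ((𝟙 G : G ⟶ G) ^ n).left = pullback.fst G.hom j ≫ (1 : G ⟶ G).left from
    Scheme.Cover.hom_ext (S.affineCover.pullback₁ G.hom) _ _ fun i ↦ aux _ (S.affineCover.f i)
  intro R j
  have : IsCommMonObj (Red.bc j G) := inferInstanceAs (IsCommMonObj ((Over.pullback j).obj G))
  have : IsFinite (Red.bc j G).hom := inferInstanceAs (IsFinite (pullback.snd G.hom j))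
  have : Flat (Red.bc j G).hom := inferInstanceAs (Flat (pullback.snd G.hom j))
  have : LocallyOfFinitePresentation (Red.bc j G).hom :=
    inferInstanceAs (LocallyOfFinitePresentation (pullback.snd G.hom j))
  have key := pow_rank_eq_one_affine _ (Red.bc j G) n fun y ↦
    (Scheme.Hom.finrank_pullback_snd G.hom j y).trans (hn _)
  have h1 : (Over.pullback j).map ((𝟙 G : G ⟶ G) ^ n) = (Over.pullback j).map 1 := by
    rw [← Functor.homMonoidHom_apply, ← Functor.homMonoidHom_apply, map_pow, map_one,
      Functor.homMonoidHom_apply, CategoryTheory.Functor.map_id]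
    exact key
  have key2 := congrArg (fun m : (Red.bc j G) ⟶ (Red.bc j G) => m.left ≫ pullback.fst _ _) h1
  simp only [Over.pullback_map_left, pullback.lift_fst] at key2
  exact key2

end Groth.GrpschAbsch
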