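import Mathlib.AlgebraicGeometry.Morphisms.Separated
import Mathlib.AlgebraicGeometry.Morphisms.Flat
import Mathlib.AlgebraicGeometry.Morphisms.Immersion
import Mathlib.AlgebraicGeometry.Morphisms.UniversallyOpen
import Mathlib.CategoryTheory.Monoidal.Cartesian.Over
import Mathlib.CategoryTheory.Monoidal.Cartesian.Grp

/-!
Basic facts on group objects in a cartesian monoidal category (shear isomorphisms) and on group
schemes: the multiplication map, translations, the diagonal.
-/

universe u v

open CategoryTheory CategoryTheory.Limits MonoidalCategory CartesianMonoidalCategory MonObj GrpObj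
  AlgebraicGeometry

namespace Groth.GrpschAbsch

section Shear

variable {C : Type*} [Category C] [CartesianMonoidalCategory C]

/-- The shear isomorphism `(t, g) ↦ (t, ψ t * g)`. -/
@[simps]
def shearL {T G : C} [GrpObj G] (ψ : T ⟶ G) : T ⊗ G ≅ T ⊗ G where
  hom := lift (fst T G) ((fst T G ≫ ψ) * snd T G)
  inv := lift (fst T G) ((fst T G ≫ ψ)⁻¹ * snd T G)
  hom_inv_id := by
    apply CartesianMonoidalCategory.hom_ext
    · simp
    · simp [comp_mul, GrpObj.comp_inv]
  inv_hom_id := by
    apply CartesianMonoidalCategory.hom_ext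
    · simp
    · simp [comp_mul]

/-- The shear isomorphism `(g, t) ↦ (g * ψ t, t)`. -/
@[simps]
def shearR {T G : C} [GrpObj G] (ψ : T ⟶ G) : G ⊗ T ≅ G ⊗ T where
  hom := lift (fst G T * (snd G T ≫ ψ)) (snd G T)
  inv := lift (fst G T * (snd G T ≫ ψ)⁻¹) (snd G T)
  hom_inv_id := by
    apply CartesianMonoidalCategory.hom_ext
    · simp [comp_mul, GrpObj.comp_inv]
    · simp
  inv_hom_id := by
    apply CartesianMonoidalCategory.hom_ext
    · simp [comp_mul]
    · simp

lemma whiskerRight_mul {T G : C} [GrpObj G] (ψ : T ⟶ G) :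
    ψ ▷ G ≫ μ[G] = (fst T G ≫ ψ) * snd T G := by
  rw [MonObj.mul_eq_mul, comp_mul]; simp

lemma whiskerLeft_mul {T G : C} [GrpObj G] (ψ : T ⟶ G) :
    G ◁ ψ ≫ μ[G] = fst G T * (snd G T ≫ ψ) := by
  rw [MonObj.mul_eq_mul, comp_mul]; simp

lemma shearL_hom_snd {T G : C} [GrpObj G] (ψ : T ⟶ G) :
    (shearL ψ).hom ≫ snd T G = ψ ▷ G ≫ μ[G] := by
  rw [whiskerRight_mul]; simp

lemma shearR_hom_fst {T G : C} [GrpObj G] (ψ : T ⟶ G) :
    (shearR ψ).hom ≫ fst G T = G ◁ ψ ≫ μ[G] := by
  rw [whiskerLeft_mul]; simp

end Shear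

section Over

variable {S : Scheme.{u}}

instance {X Y : Over S} (f : X ⟶ Y) [IsIso f] : IsIso f.left :=
  inferInstanceAs (IsIso ((Over.forget S).map f))

@[reassoc]
lemma lift_left_comp_fst {R X Y : Over S} (f : R ⟶ X) (g : R ⟶ Y) :
    (lift f g).left ≫ pullback.fst X.hom Y.hom = f.left :=
  congr(($(lift_fst f g)).left)

@[reassoc]
lemma lift_left_comp_snd {R X Y : Over S} (f : R ⟶ X) (g : R ⟶ Y) :
    (lift f g).left ≫ pullback.snd X.hom Y.hom = g.left :=
  congr(($(lift_snd f g)).left)

lemma isPullback_tensor (X Y : Over S) :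
    IsPullback (fst X Y).left (snd X Y).left X.hom Y.hom :=
  IsPullback.of_hasPullback _ _

lemma fst_left_mem (P : MorphismProperty Scheme.{u}) [P.IsStableUnderBaseChange] (X Y : Over S)
    (h : P Y.hom) : P (fst X Y).left :=
  P.of_isPullback (isPullback_tensor X Y).flip h

lemma snd_left_mem (P : MorphismProperty Scheme.{u}) [P.IsStableUnderBaseChange] (X Y : Over S)
    (h : P X.hom) : P (snd X Y).left :=
  P.of_isPullback (isPullback_tensor X Y) h

/-- The translated multiplication `(t, g) ↦ ψ t * g` is a base change of `T → S`. -/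
lemma whiskerRight_mul_left_mem (P : MorphismProperty Scheme.{u}) [P.IsStableUnderBaseChange]
    {T G : Over S} [GrpObj G] (ψ : T ⟶ G) (h : P T.hom) :
    P (ψ ▷ G ≫ μ[G]).left := by
  rw [← shearL_hom_snd, Over.comp_left]
  have : P.RespectsIso := MorphismProperty.IsStableUnderBaseChange.respectsIso
  exact (P.cancel_left_of_respectsIso _ _).mpr (snd_left_mem P T G h)

/-- The translated multiplication `(g, t) ↦ g * ψ t` is a base change of `T → S`. -/
lemma whiskerLeft_mul_left_mem (P : MorphismProperty Scheme.{u}) [P.IsStableUnderBaseChange]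
    {T G : Over S} [GrpObj G] (ψ : T ⟶ G) (h : P T.hom) :
    P (G ◁ ψ ≫ μ[G]).left := by
  rw [← shearR_hom_fst, Over.comp_left]
  have : P.RespectsIso := MorphismProperty.IsStableUnderBaseChange.respectsIso
  exact (P.cancel_left_of_respectsIso _ _).mpr (fst_left_mem P G T h)

lemma mul_left_mem (P : MorphismProperty Scheme.{u}) [P.IsStableUnderBaseChange]
    (G : Over S) [GrpObj G] (h : P G.hom) : P μ[G].left := by
  have := whiskerRight_mul_left_mem P (𝟙 G) h
  simpa using this

/-- The diagonal is a base change of the unit section along `(x, y) ↦ x / y`. -/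
lemma isPullback_diagonal (G : Over S) [GrpObj G] :
    IsPullback (toUnit G) (lift (𝟙 G) (𝟙 G)) η[G] (fst G G / snd G G) := by
  refine ⟨⟨?_⟩, ⟨PullbackCone.IsLimit.mk _ (fun s ↦ s.snd ≫ fst G G) (fun s ↦ toUnit_unique _ _)
    (fun s ↦ ?_) (fun s m _ hm ↦ ?_)⟩⟩
  · rw [GrpObj.comp_div]; simp [one_eq_one, comp_one]
  · have h := s.condition
    rw [GrpObj.comp_div] at h
    simp only [one_eq_one, comp_one] at h
    rw [eq_comm, div_eq_one] at h
    apply CartesianMonoidalCategory.hom_ext <;> simp [h]
  · rw [← hm]; simp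

lemma isPullback_diagonal_left (G : Over S) [GrpObj G] :
    IsPullback G.hom (pullback.diagonal G.hom) η[G].left (fst G G / snd G G).left := by
  have h := (isPullback_diagonal G).map (Over.forget S)
  have e : (lift (𝟙 G) (𝟙 G)).left = pullback.diagonal G.hom := by
    apply pullback.hom_ext
    · rw [lift_left_comp_fst, pullback.diagonal_fst]; rfl
    · rw [lift_left_comp_snd, pullback.diagonal_snd]; rfl
  rw [← e]
  exact h

lemma isPullback_unit_left (G : Over S) [GrpObj G] :
    IsPullback η[G].left η[G].left (lift (𝟙 G) (toUnit G ≫ η[G])).left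
      (pullback.diagonal G.hom) := by
  have hη : η[G].left ≫ G.hom = 𝟙 S := Over.w η[G]
  have hc : (toUnit G ≫ η[G]).left = G.hom ≫ η[G].left := rfl
  refine ⟨⟨?_⟩, ⟨PullbackCone.IsLimit.mk _ (fun s ↦ s.fst ≫ G.hom) (fun s ↦ ?_) (fun s ↦ ?_)
    (fun s m hm _ ↦ ?_)⟩⟩
  · refine pullback.hom_ext ?_ ?_
    · rw [Category.assoc, lift_left_comp_fst, Category.assoc, pullback.diagonal_fst]
      rfl
    · rw [Category.assoc, lift_left_comp_snd, Category.assoc, pullback.diagonal_snd, hc,
        reassoc_of% hη, Category.comp_id]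
      exact Category.id_comp _
  all_goals
    have h1 : s.fst = s.snd := by
      have := s.condition =≫ pullback.fst _ _
      rw [Category.assoc, lift_left_comp_fst, Category.assoc, pullback.diagonal_fst] at this
      simpa using this
    have h2 : s.fst ≫ G.hom ≫ η[G].left = s.snd := by
      have := s.condition =≫ pullback.snd _ _
      rw [Category.assoc, lift_left_comp_snd, Category.assoc, pullback.diagonal_snd, hc] at this
      simpa using this
  · rw [Category.assoc, h2, h1]
  · rw [Category.assoc, h2]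
  · rw [← hm]; erw [Category.assoc, hη, Category.comp_id]

lemma unit_left_mem_iff (P : MorphismProperty Scheme.{u}) [P.IsStableUnderBaseChange]
    (G : Over S) [GrpObj G] :
    P η[G].left ↔ P (pullback.diagonal G.hom) :=
  ⟨fun h ↦ P.of_isPullback (isPullback_diagonal_left G) h,
    fun h ↦ P.of_isPullback (isPullback_unit_left G).flip h⟩

lemma isPullback_whiskerLeft (T : Over S) {X Y : Over S} (w : X ⟶ Y) :
    IsPullback (T ◁ w).left (snd T X).left (snd T Y).left w.left := by
  refine IsPullback.of_right ?_ congr(($(whiskerLeft_snd T w)).left) (isPullback_tensor T Y)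
  have e : (T ◁ w).left ≫ (fst T Y).left = (fst T X).left := congr(($(whiskerLeft_fst T w)).left)
  rw [e, Over.w w]
  exact isPullback_tensor T X

lemma whiskerLeft_left_mem (P : MorphismProperty Scheme.{u}) [P.IsStableUnderBaseChange]
    (T : Over S) {X Y : Over S} (w : X ⟶ Y) (h : P w.left) : P (T ◁ w).left :=
  P.of_isPullback (isPullback_whiskerLeft T w).flip h

lemma isPullback_whiskerRight {X Y : Over S} (w : X ⟶ Y) (T : Over S) :
    IsPullback (w ▷ T).left (fst X T).left (fst Y T).left w.left := by
  refine IsPullback.of_right ?_ congr(($(whiskerRight_fst w T)).left) (isPullback_tensor Y T).flip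
  have e : (w ▷ T).left ≫ (snd Y T).left = (snd X T).left := congr(($(whiskerRight_snd w T)).left)
  rw [e, Over.w w]
  exact (isPullback_tensor X T).flip

lemma whiskerRight_left_mem (P : MorphismProperty Scheme.{u}) [P.IsStableUnderBaseChange]
    {X Y : Over S} (w : X ⟶ Y) (T : Over S) (h : P w.left) : P (w ▷ T).left :=
  P.of_isPullback (isPullback_whiskerRight w T).flip h

end Over

end Groth.GrpschAbsch
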