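import Groth.Agent.AlgSp2.FlatFibreScheme
import Groth.Agent.FlatMor2.FibCrit.Fibre
import Groth.Agent.FlatMorOne.FlatnessCriteria
import Groth.Agent.GrpschAbsch.ImageSubgroup
import Groth.Agent.Misc13.FlatBC

/-!
A homomorphism of group schemes over a field which is flat at one point is flat.
-/

set_option autoImplicit false
universe u

open CategoryTheory CategoryTheory.Limits MonoidalCategory CartesianMonoidalCategory MonObj GrpObj
  AlgebraicGeometry IsLocalRing TensorProduct

namespace Groth.GrpschAbsch.FlatPoint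

open Groth.AlgSp2.FlatFib

variable {S : Scheme.{u}}

/-- The shear isomorphism along a homomorphism. -/
noncomputable def shear {G H : Over S} [GrpObj G] [GrpObj H] (f : G ⟶ H) [IsMonHom f] :
    G ⊗ H ≅ G ⊗ H where
  hom := lift (fst G H) ((fst G H ≫ f) * snd G H)
  inv := lift (fst G H) ((fst G H ≫ f)⁻¹ * snd G H)
  hom_inv_id := by
    apply CartesianMonoidalCategory.hom_ext
    · simp
    · rw [Category.assoc, lift_snd, Category.id_comp, MonObj.comp_mul, GrpObj.comp_inv, lift_snd,
        lift_fst_assoc, inv_mul_cancel_left]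
  inv_hom_id := by
    apply CartesianMonoidalCategory.hom_ext
    · simp
    · rw [Category.assoc, lift_snd, Category.id_comp, MonObj.comp_mul, lift_snd, lift_fst_assoc,
        mul_inv_cancel_left]

set_option maxHeartbeats 1000000 in
/-- Over a field, flatness at one point of a homomorphism gives flatness everywhere. -/
theorem flat_of_flatAt {k : Type u} [Field k] {G H : Over (Spec (CommRingCat.of k))} [GrpObj G] [GrpObj H]
    (f : G ⟶ H) [IsMonHom f] (x₀ : G.left) (h : (f.left.stalkMap x₀).hom.Flat) : Flat f.left := by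
  let w := (G ◁ f).left
  let α : G ⊗ G ≅ G ⊗ G := shear (𝟙 G)
  let β : G ⊗ H ≅ G ⊗ H := shear f
  have hsnd : ∀ K : Over (Spec (CommRingCat.of k)), Flat (snd G K).left := fun K =>
    inferInstanceAs (Flat (pullback.snd G.hom K.hom))
  have := hsnd G
  have := hsnd H
  have hsq : IsPullback w (snd G G).left (snd G H).left f.left :=
    (Groth.GrpschAbsch.isPullback_whiskerLeft G f)
  have hw : ∀ z, (w.stalkMap z).hom.Flat ↔ (f.left.stalkMap ((snd G G).left z)).hom.Flat := fun z => by
    refine ⟨fun hz => ?_, fun hz => Groth.Misc13.FlatBC.flat_stalkMap_baseChange hsq z hz⟩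
    refine flat_at_of_comp (snd G G).left f.left z (Flat.stalkMap _ z) ?_
    rw [← hsq.w]
    exact flat_at_comp w _ z hz (Flat.stalkMap _ _)
  have hcomm : α.hom.left ≫ w = w ≫ β.hom.left := by
    show _ ≫ (G ◁ f).left = _
    rw [← Over.comp_left, ← Over.comp_left]
    congr 1
    show lift (fst G G) ((fst G G ≫ 𝟙 G) * snd G G) ≫ G ◁ f = G ◁ f ≫ lift (fst G H) ((fst G H ≫ f) * snd G H)
    apply CartesianMonoidalCategory.hom_ext
    · simp
    · rw [Category.assoc, Category.assoc, whiskerLeft_snd, lift_snd, lift_snd_assoc, MonObj.mul_comp,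
        MonObj.comp_mul, Category.comp_id, whiskerLeft_fst_assoc, whiskerLeft_snd]
  have : IsIso α.hom.left := inferInstanceAs (IsIso ((Over.forget _).map α.hom))
  have : IsIso β.hom.left := inferInstanceAs (IsIso ((Over.forget _).map β.hom))
  have hinv : ∀ z, (w.stalkMap z).hom.Flat → (w.stalkMap (α.hom.left z)).hom.Flat := fun z hz => by
    refine flat_at_of_comp α.hom.left w z (Flat.stalkMap _ z) ?_
    rw [hcomm]
    exact flat_at_comp w β.hom.left z hz (Flat.stalkMap _ _)
  refine Flat.of_stalkMap _ fun x => ?_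
  have hst : Subsingleton ↥(Spec (CommRingCat.of k)) := inferInstance
  obtain ⟨p, hp1, hp2⟩ := Scheme.Pullback.exists_preimage_pullback (f := G.hom) (g := G.hom) x x₀
    (Subsingleton.elim _ _)
  let c : G ⊗ G ⟶ G ⊗ G := lift (fst G G * (snd G G)⁻¹) (snd G G)
  let z : (G ⊗ G).left := c.left p
  have hz : (snd G G).left z = x₀ := by
    show (c ≫ snd G G).left p = x₀
    rw [show c ≫ snd G G = snd G G from lift_snd _ _]
    exact hp2
  have hαz : (snd G G).left (α.hom.left z) = x := by
    show (c ≫ α.hom ≫ snd G G).left p = x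
    have e : c ≫ α.hom ≫ snd G G = fst G G := by
      show c ≫ lift (fst G G) ((fst G G ≫ 𝟙 G) * snd G G) ≫ snd G G = _
      rw [lift_snd, MonObj.comp_mul, Category.comp_id]
      show lift (fst G G * (snd G G)⁻¹) (snd G G) ≫ fst G G * lift (fst G G * (snd G G)⁻¹) (snd G G) ≫ snd G G = _
      rw [lift_fst, lift_snd, inv_mul_cancel_right]
    rw [e]
    exact hp1
  have h1 := hinv z ((hw z).2 (by rw [hz]; exact h))
  rw [hw, hαz] at h1
  exact h1

/-- Flatness at a point from flatness over an Artinian local base and flatness on the closed fibre. -/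
theorem flatAt_of_fibre_artinian {A : Type u} [CommRing A] [IsArtinianRing A] {X Y : Scheme.{u}}
    (f : X ⟶ Y) (g : Y ⟶ Spec (CommRingCat.of A)) (x : X) (h₁ : ((f ≫ g).stalkMap x).hom.Flat)
    (h₂ : ((MoreMor.fiberMap f g (g (f x))).stalkMap ((f ≫ g).asFiber x)).hom.Flat) :
    (f.stalkMap x).hom.Flat := by
  rw [Groth.FlatMor2.FibCrit.fiberMap_flat_iff f g (g (f x)) ((f ≫ g).asFiber x) x
    ((f ≫ g).fiberι_asFiber x)] at h₂
  rw [Scheme.Hom.stalkMap_comp] at h₁
  let T := (Spec (CommRingCat.of A)).presheaf.stalk (g (f x))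
  have : IsArtinianRing T := by
    let e := (Spec.stalkIso (CommRingCat.of A) (g (f x))).commRingCatIsoToRingEquiv
    exact e.symm.surjective.isArtinianRing (f := e.symm.toRingHom)
  have hm : IsNilpotent (maximalIdeal T) := by
    rw [← IsLocalRing.jacobson_eq_maximalIdeal ⊥ bot_ne_top]
    exact IsArtinianRing.isNilpotent_jacobson_bot
  letI : Algebra T (Y.presheaf.stalk (f x)) := (g.stalkMap (f x)).hom.toAlgebra
  letI : Algebra (Y.presheaf.stalk (f x)) (X.presheaf.stalk x) := (f.stalkMap x).hom.toAlgebra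
  letI : Algebra T (X.presheaf.stalk x) :=
    ((f.stalkMap x).hom.comp (g.stalkMap (f x)).hom).toAlgebra
  haveI : IsScalarTower T (Y.presheaf.stalk (f x)) (X.presheaf.stalk x) := .of_algebraMap_eq' rfl
  haveI : Module.Flat T (X.presheaf.stalk x) := h₁
  let J := (maximalIdeal T).map (algebraMap T (Y.presheaf.stalk (f x)))
  haveI hJ : Module.Flat (Y.presheaf.stalk (f x) ⧸ J)
      (X.presheaf.stalk x ⧸ (J • ⊤ : Submodule (Y.presheaf.stalk (f x)) (X.presheaf.stalk x))) := h₂
  haveI : Module.Flat (Y.presheaf.stalk (f x) ⧸ J)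
      ((Y.presheaf.stalk (f x) ⧸ J) ⊗[Y.presheaf.stalk (f x)] X.presheaf.stalk x) := by
    let e := quotTensorEquivQuotSMul (X.presheaf.stalk x) J
    refine Module.Flat.of_linearEquiv (R := Y.presheaf.stalk (f x) ⧸ J)
      (M := X.presheaf.stalk x ⧸ (J • ⊤ : Submodule (Y.presheaf.stalk (f x)) (X.presheaf.stalk x)))
      { e with map_smul' := fun z m => ?_ }
    obtain ⟨z, rfl⟩ := Ideal.Quotient.mk_surjective z
    simp only [← Ideal.Quotient.algebraMap_eq, algebraMap_smul, RingHom.id_apply]
    exact map_smul e z m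
  exact Groth.FlatMorOne.flat_of_isNilpotent (R := T) (S := Y.presheaf.stalk (f x))
    (M := X.presheaf.stalk x) (maximalIdeal T) hm

end Groth.GrpschAbsch.FlatPoint
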