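import Groth.Agent.VarietyBC.Components
import Groth.Agent.AlgGrp1.Geom
import Groth.Agent.GrpschAbsch.ImageSubgroup
import Groth.Agent.SGA7.IdComponent
import Groth.Agent.AlgGrp1.OpenSub
import Groth.Agent.GrpschAbsch.FlatPoint
import Groth.Agent.GrpschAbsch.FibreFlat
import Groth.Prelude.Def_SGA3x

/-!
The union of the neutral components of the fibres of a group scheme.
-/

set_option autoImplicit false
universe u

open CategoryTheory CategoryTheory.Limits MonoidalCategory CartesianMonoidalCategory MonObj GrpObj
  AlgebraicGeometry TopologicalSpace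

namespace Groth.GrpschAbsch.NeutralSet

/-- In an embedded space, the connected component inside the range is the image of the component. -/
theorem connectedComponentIn_range {α β : Type*} [TopologicalSpace α] [TopologicalSpace β] {i : α → β}
    (hi : Topology.IsEmbedding i) (a : α) :
    connectedComponentIn (Set.range i) (i a) = i '' connectedComponent a := by
  refine Set.Subset.antisymm ?_ ((isPreconnected_connectedComponent.image i hi.continuous.continuousOn).subset_connectedComponentIn
    ⟨a, mem_connectedComponent, rfl⟩ (Set.image_subset_range _ _))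
  have hsub : connectedComponentIn (Set.range i) (i a) ⊆ Set.range i := connectedComponentIn_subset _ _
  intro b hb
  obtain ⟨c, rfl⟩ := hsub hb
  refine ⟨c, ?_, rfl⟩
  have h : IsPreconnected (i ⁻¹' connectedComponentIn (Set.range i) (i a)) :=
    hi.isInducing.isPreconnected_image.1
      (by rw [Set.image_preimage_eq_of_subset hsub]; exact isPreconnected_connectedComponentIn)
  exact h.subset_connectedComponent (mem_connectedComponentIn (Set.mem_range_self a)) hb

variable {S : Scheme.{u}} (G : Over S) [GrpObj G]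

theorem hom_one_apply (s : S) : G.hom (η[G].left s) = s := by
  rw [← Scheme.Hom.comp_apply, Over.w η[G]]
  rfl

/-- The unit point of a fibre. -/
noncomputable def oneFib (s : S) : G.hom.fiber s :=
  pullback.lift (S.fromSpecResidueField s ≫ η[G].left) (𝟙 _)
    (by rw [Category.assoc, Over.w η[G], Category.id_comp]; exact Category.comp_id _)
    (IsLocalRing.closedPoint _)

theorem fiberι_oneFib (s : S) : G.hom.fiberι s (oneFib G s) = η[G].left s := by
  let u : Spec (S.residueField s) ⟶ G.hom.fiber s :=
    pullback.lift (S.fromSpecResidueField s ≫ η[G].left) (𝟙 _)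
      (by rw [Category.assoc, Over.w η[G], Category.id_comp]; exact Category.comp_id _)
  have e : u ≫ G.hom.fiberι s = S.fromSpecResidueField s ≫ η[G].left := pullback.lift_fst _ _ _
  refine (congr(($e).base (IsLocalRing.closedPoint _))).trans ?_
  exact congrArg η[G].left (Scheme.fromSpecResidueField_apply _ _)

/-- Membership in the neutral set is membership in the neutral component of the fibre. -/
theorem fiberι_mem_iff (s : S) (z : G.hom.fiber s) :
    G.hom.fiberι s z ∈ SGA3x.neutralSet G ↔ z ∈ connectedComponent (oneFib G s) := by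
  have hz : G.hom (G.hom.fiberι s z) = s := (G.hom.range_fiberι s).le ⟨z, rfl⟩
  have hC : ∀ t : S, connectedComponentIn (G.hom ⁻¹' {t}) (η[G].left t) =
      G.hom.fiberι t '' connectedComponent (oneFib G t) := fun t => by
    rw [← fiberι_oneFib, ← G.hom.range_fiberι t]
    exact connectedComponentIn_range (G.hom.fiberι t).isEmbedding _
  constructor
  · intro h
    obtain ⟨p, hp⟩ := Set.mem_iUnion.1 h
    have hp' : G.hom (G.hom.fiberι s z) = p := connectedComponentIn_subset (G.hom ⁻¹' {(p : S)}) _ hp
    have e : (p : S) = s := hp'.symm.trans hz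
    subst e
    obtain ⟨w, hw, hwz⟩ := (hC p).le hp
    rwa [← (G.hom.fiberι p).isEmbedding.injective hwz]
  · intro h
    exact Set.mem_iUnion.2 ⟨s, (hC s).ge ⟨z, h, rfl⟩⟩

theorem mem_iff (x : G.left) :
    x ∈ SGA3x.neutralSet G ↔ G.hom.asFiber x ∈ connectedComponent (oneFib G (G.hom x)) := by
  rw [← fiberι_mem_iff, G.hom.fiberι_asFiber]

/-- Over a field extension, the component of a rational point is the preimage of the component. -/
theorem preimage_connectedComponent {k : Type u} [Field k] {X X' : Scheme.{u}} {f : X ⟶ Spec (CommRingCat.of k)}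
    {K : Type u} [Field K] {t : Spec (CommRingCat.of K) ⟶ Spec (CommRingCat.of k)}
    {q : X' ⟶ X} {f' : X' ⟶ Spec (CommRingCat.of K)} (h : IsPullback q f' f t)
    (p : Spec (CommRingCat.of k) ⟶ X) (hp : p ≫ f = 𝟙 _) (pt : Spec (CommRingCat.of k)) (e' : X')
    (he : q e' = p pt) : connectedComponent e' = q ⁻¹' connectedComponent (p pt) := by
  obtain ⟨φ, rfl⟩ := Spec.map_surjective t
  let : Algebra k K := φ.hom.toAlgebra
  let : X.Over (Spec (CommRingCat.of k)) := ⟨f⟩
  let i : X' ≅ Curv2.bc k X K := h.isoPullback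
  have hi : i.hom ≫ Curv2.bcFst k X K = q := h.isoPullback_hom_fst
  have hq : ∀ z, q z = Curv2.bcFst k X K (i.hom z) := fun z => by rw [← hi]; rfl
  ext z
  constructor
  · intro hz
    show q z ∈ connectedComponent (p pt)
    rw [← he]
    exact q.continuous.image_connectedComponent_subset e' ⟨z, hz, rfl⟩
  · intro hz
    have h1 : p pt ∈ connectedComponent (q z) := by
      rw [← connectedComponent_eq (show q z ∈ connectedComponent (p pt) from hz)]
      exact mem_connectedComponent
    rw [hq, ← Groth.VarietyBC.image_connectedComponent_bcFst K (i.hom z)] at h1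
    obtain ⟨w, hw, hwp⟩ := h1
    have hwe : w = i.hom e' :=
      Groth.AlgGrp1.subsingleton_preimage_of_point f _ p hp pt hwp ((hq e').symm.trans he)
    have h3 : e' ∈ connectedComponent z := by
      have h4 := i.inv.continuous.image_connectedComponent_subset (i.hom z) ⟨w, hw, rfl⟩
      rw [hwe, ← Scheme.Hom.comp_apply, ← Scheme.Hom.comp_apply, i.hom_inv_id] at h4
      exact h4
    rw [← connectedComponent_eq h3]
    exact mem_connectedComponent

/-- The neutral set commutes with base change. -/
theorem neutralSet_bc {S' : Scheme.{u}} (f : S' ⟶ S) :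
    SGA3x.neutralSet (Red.bc f G) = (pullback.fst G.hom f).base ⁻¹' SGA3x.neutralSet G := by
  ext x
  obtain ⟨s', z, rfl⟩ : ∃ (s' : S') (z : (Red.bc f G).hom.fiber s'), (Red.bc f G).hom.fiberι s' z = x :=
    ⟨_, _, (Red.bc f G).hom.fiberι_asFiber x⟩
  let a := pullback.fst G.hom f
  let b := pullback.snd G.hom f
  let σ := f.residueFieldMap s'
  let q : b.fiber s' ⟶ G.hom.fiber (f s') := pullback.lift (b.fiberι s' ≫ a)
    (b.fiberToSpecResidueField s' ≫ Spec.map σ) (by
      rw [Category.assoc, pullback.condition, reassoc_of% (b.fiber_fac s'), Category.assoc,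
        Scheme.Hom.SpecMap_residueFieldMap_fromSpecResidueField])
  have hq1 : q ≫ G.hom.fiberι (f s') = b.fiberι s' ≫ a := pullback.lift_fst ..
  have hq2 : q ≫ G.hom.fiberToSpecResidueField (f s') = b.fiberToSpecResidueField s' ≫ Spec.map σ :=
    pullback.lift_snd ..
  have hbig : IsPullback (b.fiberι s' ≫ a) (b.fiberToSpecResidueField s') G.hom
      (S'.fromSpecResidueField s' ≫ f) :=
    IsPullback.paste_horiz (IsPullback.of_hasPullback b (S'.fromSpecResidueField s'))
      (IsPullback.of_hasPullback G.hom f)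
  rw [← Scheme.Hom.SpecMap_residueFieldMap_fromSpecResidueField, ← hq1] at hbig
  have hsq : IsPullback q (b.fiberToSpecResidueField s') (G.hom.fiberToSpecResidueField (f s'))
      (Spec.map σ) :=
    hbig.of_right hq2 (IsPullback.of_hasPullback G.hom (S.fromSpecResidueField (f s')))
  show b.fiberι s' z ∈ SGA3x.neutralSet (Red.bc f G) ↔ a (b.fiberι s' z) ∈ SGA3x.neutralSet G
  rw [show a (b.fiberι s' z) = G.hom.fiberι (f s') (q z) by
    rw [← Scheme.Hom.comp_apply, ← Scheme.Hom.comp_apply, hq1], fiberι_mem_iff G]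
  refine (fiberι_mem_iff (Red.bc f G) s' z).trans ?_
  let p : Spec (CommRingCat.of (S.residueField (f s'))) ⟶ G.hom.fiber (f s') :=
    pullback.lift (S.fromSpecResidueField (f s') ≫ η[G].left) (𝟙 _)
      (by rw [Category.assoc, Over.w η[G], Category.id_comp]; exact Category.comp_id _)
  rw [preimage_connectedComponent (k := S.residueField (f s')) (K := S'.residueField s') hsq p (pullback.lift_snd _ _ _)
    (IsLocalRing.closedPoint _) (oneFib (Red.bc f G) s') ?_]
  · rfl
  · refine (G.hom.fiberι (f s')).isEmbedding.injective ?_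
    refine Eq.trans ?_ (fiberι_oneFib G (f s')).symm
    show G.hom.fiberι (f s') (q (oneFib (Red.bc f G) s')) = _
    rw [← Scheme.Hom.comp_apply, hq1, Scheme.Hom.comp_apply]
    refine (congrArg a (fiberι_oneFib (Red.bc f G) s')).trans ?_
    show (η[Red.bc f G].left ≫ pullback.fst G.hom f) s' = η[G].left (f s')
    rw [Functor.obj.η_def, Over.comp_left, Category.assoc]
    show ((Functor.LaxMonoidal.ε (Over.pullback f)).left ≫ ((Over.pullback f).map η[G]).left ≫ pullback.fst G.hom f) s' = _
    have e1 : ((Over.pullback f).map η[G]).left ≫ pullback.fst G.hom f = pullback.fst (𝟙_ (Over S)).hom f ≫ η[G].left :=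
      pullback.lift_fst _ _ _
    have e2 : (Functor.LaxMonoidal.ε (Over.pullback f)).left ≫ pullback.snd (𝟙_ (Over S)).hom f = 𝟙 S' :=
      Over.w (Functor.LaxMonoidal.ε (Over.pullback f))
    rw [e1, ← Category.assoc, Scheme.Hom.comp_apply]
    congr 1
    have e3 : (Functor.LaxMonoidal.ε (Over.pullback f)).left ≫ pullback.fst (𝟙_ (Over S)).hom f = f := by
      rw [← Category.comp_id (pullback.fst (𝟙_ (Over S)).hom f),
        show 𝟙 _ = (𝟙_ (Over S)).hom from rfl, pullback.condition, ← Category.assoc, e2]
      exact Category.id_comp f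
    rw [e3]

/-- A monomorphism whose points are stable under the group operations carries a group structure. -/
theorem exists_grpObj_of_mono {Z : Over S} (i : Z ⟶ G) [Mono i]
    (h1 : ∃ z : 𝟙_ (Over S) ⟶ Z, z ≫ i = η[G])
    (hm : ∃ z : Z ⊗ Z ⟶ Z, z ≫ i = (fst Z Z ≫ i) * (snd Z Z ≫ i))
    (hi : ∃ z : Z ⟶ Z, z ≫ i = i⁻¹) :
    ∃ _ : GrpObj Z, IsMonHom i := by
  obtain ⟨e, he⟩ := h1
  obtain ⟨m, hm⟩ := hm
  obtain ⟨v, hv⟩ := hi
  let grp : ∀ T : Over S, Subgroup (T ⟶ G) := fun T =>
    { carrier := {g | ∃ z : T ⟶ Z, z ≫ i = g}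
      mul_mem' := by
        rintro _ _ ⟨a, rfl⟩ ⟨b, rfl⟩
        exact ⟨lift a b ≫ m, by rw [Category.assoc, hm, MonObj.comp_mul, lift_fst_assoc, lift_snd_assoc]⟩
      one_mem' := ⟨toUnit T ≫ e, by rw [Category.assoc, he]; rfl⟩
      inv_mem' := by
        rintro _ ⟨a, rfl⟩
        exact ⟨a ≫ v, by rw [Category.assoc, hv, GrpObj.comp_inv]⟩ }
  let F : (Over S)ᵒᵖ ⥤ GrpCat.{u} :=
    { obj := fun T => GrpCat.of (grp T.unop)
      map := fun {T T'} g => GrpCat.ofHom (MonoidHom.mk' (fun a => ⟨g.unop ≫ a.1, by
        obtain ⟨z, hz⟩ := a.2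
        exact ⟨g.unop ≫ z, by rw [Category.assoc, hz]⟩⟩) fun a b => Subtype.ext (MonObj.comp_mul g.unop a.1 b.1))
      map_id := fun T => by ext a; exact Category.id_comp _
      map_comp := fun f g => by ext a; exact Category.assoc _ _ _ }
  let α : (F ⋙ CategoryTheory.forget _).RepresentableBy Z :=
    { homEquiv := fun {T} => Equiv.ofBijective (fun z : T ⟶ Z => (⟨z ≫ i, z, rfl⟩ : grp T))
        ⟨fun a b h => (cancel_mono i).1 (congrArg Subtype.val h), fun ⟨g, z, hz⟩ => ⟨z, Subtype.ext hz⟩⟩
      homEquiv_comp := fun f g => Subtype.ext (Category.assoc _ _ _) }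
  letI : GrpObj Z := GrpObj.ofRepresentableBy Z F α
  have key : ∀ {T : Over S} (z : T ⟶ Z), (α.homEquiv z).1 = z ≫ i := fun z => rfl
  refine ⟨inferInstance, Groth.AlgGrp1.isMonHom_of_points i fun T a b => ?_⟩
  rw [Hom.mul_def]
  have : α.homEquiv (lift a b ≫ μ[Z]) = α.homEquiv a * α.homEquiv b := by
    rw [α.homEquiv_comp]
    show (F.map (lift a b).op) (α.homEquiv (α.homEquiv.symm (α.homEquiv (fst Z Z) * α.homEquiv (snd Z Z)))) = _
    rw [Equiv.apply_symm_apply, map_mul]
    congr 1
    · exact (α.homEquiv_comp _ _).symm.trans (congrArg α.homEquiv (lift_fst a b))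
    · exact (α.homEquiv_comp _ _).symm.trans (congrArg α.homEquiv (lift_snd a b))
  exact congrArg Subtype.val this

section Field

variable {k : Type u} [Field k] (G : Over (Spec (CommRingCat.of k))) [GrpObj G]

theorem isOpen_component [LocallyOfFiniteType G.hom] (x : G.left) : IsOpen (connectedComponent x) := by
  have := LocallyOfFiniteType.isLocallyNoetherian G.hom
  have := Groth.SGA7.IdComponent.locallyConnectedSpace (X := G.left)
  exact isOpen_connectedComponent

/-- The neutral component of a group scheme locally of finite type over a field, as an open subgroup. -/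
theorem exists_neutral_openSubgroup [LocallyOfFiniteType G.hom] :
    ∃ (G₀ : Over (Spec (CommRingCat.of k))) (_ : GrpObj G₀) (i : G₀ ⟶ G), IsMonHom i ∧
      IsOpenImmersion i.left ∧ Set.range i.left = connectedComponent (η[G].left (IsLocalRing.closedPoint k)) ∧
      ConnectedSpace G₀.left := by
  let e := η[G].left (IsLocalRing.closedPoint k)
  let C : G.left.Opens := ⟨connectedComponent e, isOpen_component G e⟩
  let Z : Over (Spec (CommRingCat.of k)) := Over.mk (C.ι ≫ G.hom)
  let i : Z ⟶ G := Over.homMk C.ι rfl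
  have : IsOpenImmersion i.left := inferInstanceAs (IsOpenImmersion C.ι)
  have : Mono i := Over.mono_of_mono_left i
  have hr : Set.range i.left = connectedComponent e := C.range_ι
  have : LocallyOfFiniteType Z.hom := inferInstanceAs (LocallyOfFiniteType (C.ι ≫ G.hom))
  have hZc : ConnectedSpace Z.left := isConnected_iff_connectedSpace.mp isConnected_connectedComponent
  have hfac : ∀ {T : Over (Spec (CommRingCat.of k))} (g : T ⟶ G),
      Set.range g.left ⊆ connectedComponent e → ∃ z : T ⟶ Z, z ≫ i = g := fun {T} g hg =>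
    ⟨Over.homMk (IsOpenImmersion.lift C.ι g.left (hg.trans C.range_ι.ge)) (by
        show IsOpenImmersion.lift _ _ _ ≫ C.ι ≫ G.hom = _
        rw [IsOpenImmersion.lift_fac_assoc, Over.w g]),
      Over.OverMorphism.ext (IsOpenImmersion.lift_fac _ _ _)⟩
  have hone : ∃ z : 𝟙_ _ ⟶ Z, z ≫ i = η[G] := hfac _ (by
    rintro _ ⟨t, rfl⟩
    rw [show t = IsLocalRing.closedPoint k from Subsingleton.elim (α := ↥(Spec (CommRingCat.of k))) _ _]
    exact mem_connectedComponent)
  obtain ⟨z₀, hz₀⟩ := hone
  have hsub : ∀ {T : Over (Spec (CommRingCat.of k))} (g : T ⟶ G) (t : 𝟙_ _ ⟶ T),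
      ConnectedSpace T.left → t ≫ g = η[G] → Set.range g.left ⊆ connectedComponent e := fun {T} g t hT ht => by
    refine (isPreconnected_range g.left.continuous).subset_connectedComponent
      ⟨t.left (IsLocalRing.closedPoint k), ?_⟩
    exact congr(($ht).left.base (IsLocalRing.closedPoint k))
  have hgc : GeometricallyConnected Z.hom :=
    Groth.AlgGrp1.geometricallyConnected_of_point Z.hom z₀.left (Over.w z₀)
  have hZZ : ConnectedSpace (Z ⊗ Z).left := by
    have : UniversallyOpen Z.hom := inferInstance
    exact inferInstanceAs (ConnectedSpace ↥(pullback Z.hom Z.hom))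
  have hη : (η[G] : 𝟙_ _ ⟶ G) = 1 := by
    rw [Hom.one_def, toUnit_unique (toUnit _) (𝟙 _), Category.id_comp]
  obtain ⟨grp, hmon⟩ := exists_grpObj_of_mono G i ⟨z₀, hz₀⟩
    (hfac _ (hsub _ (lift z₀ z₀) hZZ (by
      rw [MonObj.comp_mul, lift_fst_assoc, lift_snd_assoc, hz₀, hη, _root_.mul_one])))
    (hfac _ (hsub _ z₀ hZc (by rw [GrpObj.comp_inv, hz₀, hη, inv_one])))
  exact ⟨Z, grp, i, hmon, inferInstance, hr, hZc⟩

variable {H : Over (Spec (CommRingCat.of k))} [GrpObj H]

/-- A flat homomorphism maps the neutral component onto the neutral component. -/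
theorem image_component_of_flat [LocallyOfFiniteType G.hom] [LocallyOfFiniteType H.hom]
    (f : G ⟶ H) [IsMonHom f] [Flat f.left] :
    f.left '' connectedComponent (η[G].left (IsLocalRing.closedPoint k)) =
      connectedComponent (η[H].left (IsLocalRing.closedPoint k)) := by
  have hfe : f.left (η[G].left (IsLocalRing.closedPoint k)) = η[H].left (IsLocalRing.closedPoint k) :=
    congr(($(IsMonHom.one_hom f)).left.base (IsLocalRing.closedPoint k))
  obtain ⟨G₀, _, i, _, _, hr, _⟩ := exists_neutral_openSubgroup G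
  refine Set.Subset.antisymm (hfe ▸ f.left.continuous.image_connectedComponent_subset _) ?_
  have := Groth.AlgGrp1.lfp_left f
  have hopen : IsOpen (Set.range (i ≫ f).left) := by
    rw [show Set.range (i ≫ f).left = f.left '' Set.range i.left from Set.range_comp f.left i.left]
    exact f.left.isOpenMap _ i.left.isOpenEmbedding.isOpen_range
  have hcl := Groth.GrpschAbsch.isClosed_range_of_isLocallyClosed (i ≫ f) hopen.isLocallyClosed
  rw [← hr, ← Set.range_comp]
  exact isPreconnected_connectedComponent.subset_isClopen ⟨hcl, hopen⟩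
    ⟨_, mem_connectedComponent, η[G₀].left (IsLocalRing.closedPoint k), by
      show (η[G₀] ≫ i ≫ f).left (IsLocalRing.closedPoint k) = _
      rw [IsMonHom.one_hom (i ≫ f)]⟩

/-- Flatness from domination of a reduced target component. -/
theorem flat_of_component_le_image [IsReduced H.left] [LocallyOfFiniteType H.hom]
    (f : G ⟶ H) [IsMonHom f]
    (h : connectedComponent (η[H].left (IsLocalRing.closedPoint k)) ⊆ Set.range f.left) :
    Flat f.left := by
  let e := η[H].left (IsLocalRing.closedPoint k)
  let C : H.left.Opens := ⟨connectedComponent e, isOpen_component H e⟩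
  obtain ⟨z, hz⟩ := Groth.GrpschAbsch.FibreFlat.exists_isField_stalk C.toScheme ⟨e, mem_connectedComponent⟩
  obtain ⟨x, hx⟩ := h z.2
  refine Groth.GrpschAbsch.FlatPoint.flat_of_flatAt f x (Groth.GrpschAbsch.FibreFlat.flat_at_of_isField f.left x ?_)
  rw [hx]
  exact (C.stalkIso z).symm.commRingCatIsoToRingEquiv.toMulEquiv.isField hz

/-- An open subgroup contains the neutral component, which is the image of its own. -/
theorem component_of_openSubgroup (i : H ⟶ G) [IsMonHom i] [IsOpenImmersion i.left] :
    i.left '' connectedComponent (η[H].left (IsLocalRing.closedPoint k)) =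
      connectedComponent (η[G].left (IsLocalRing.closedPoint k)) := by
  have he : i.left (η[H].left (IsLocalRing.closedPoint k)) = η[G].left (IsLocalRing.closedPoint k) :=
    congr(($(IsMonHom.one_hom i)).left.base (IsLocalRing.closedPoint k))
  refine Set.Subset.antisymm (he ▸ i.left.continuous.image_connectedComponent_subset _) ?_
  have hsub : connectedComponent (η[G].left (IsLocalRing.closedPoint k)) ⊆ Set.range i.left :=
    IsClopen.connectedComponent_subset ⟨Groth.AlgGrp1.isClosed_range_of_openSubgroup i,
      i.left.isOpenEmbedding.isOpen_range⟩ ⟨_, he⟩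
  have hp : _root_.IsPreconnected (i.left ⁻¹' connectedComponent (η[G].left (IsLocalRing.closedPoint k))) :=
    i.left.isEmbedding.isInducing.isPreconnected_image.1
      (by rw [Set.image_preimage_eq_of_subset hsub]; exact isPreconnected_connectedComponent)
  intro y hy
  obtain ⟨x, rfl⟩ := hsub hy
  exact ⟨x, hp.subset_connectedComponent (by
    show i.left _ ∈ connectedComponent _
    rw [he]; exact mem_connectedComponent) hy, rfl⟩

end Field

/-- The unit point of the fibre group. -/
theorem one_pullback_eq (s : S) :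
    letI : GrpObj ((Over.pullback (S.fromSpecResidueField s)).obj G) := Functor.grpObjObj
    η[(Over.pullback (S.fromSpecResidueField s)).obj G].left (IsLocalRing.closedPoint _) = oneFib G s := by
  let t : Spec (CommRingCat.of (S.residueField s)) ⟶ S := S.fromSpecResidueField s
  letI : GrpObj ((Over.pullback t).obj G) := Functor.grpObjObj
  refine (G.hom.fiberι s).isEmbedding.injective ((?_ : (η[(Over.pullback t).obj G].left ≫ pullback.fst G.hom t) _ = _).trans
    (fiberι_oneFib G s).symm)
  rw [Functor.obj.η_def, Over.comp_left, Category.assoc]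
  have e1 : ((Over.pullback t).map η[G]).left ≫ pullback.fst G.hom t = pullback.fst (𝟙_ (Over S)).hom t ≫ η[G].left :=
    pullback.lift_fst _ _ _
  have e2 : (Functor.LaxMonoidal.ε (Over.pullback t)).left ≫ pullback.snd (𝟙_ (Over S)).hom t = 𝟙 _ :=
    Over.w (Functor.LaxMonoidal.ε (Over.pullback t))
  have e3 : (Functor.LaxMonoidal.ε (Over.pullback t)).left ≫ pullback.fst (𝟙_ (Over S)).hom t = t := by
    rw [← Category.comp_id (pullback.fst (𝟙_ (Over S)).hom t),
      show 𝟙 _ = (𝟙_ (Over S)).hom from rfl, pullback.condition, ← Category.assoc, e2]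
    exact Category.id_comp t
  rw [e1, ← Category.assoc, e3, Scheme.Hom.comp_apply]
  exact congrArg η[G].left (Scheme.fromSpecResidueField_apply s _)

/-- Equalities of neutral sets are checked on fibre groups. -/
theorem image_neutralSet_eq {H : Over S} [GrpObj H] (u : G ⟶ H)
    (h : ∀ s : S, ((Over.pullback (S.fromSpecResidueField s)).map u).left '' connectedComponent (oneFib G s) =
      connectedComponent (oneFib H s)) :
    u.left '' SGA3x.neutralSet G = SGA3x.neutralSet H := by
  have hw : ∀ (s : S) (z : G.hom.fiber s), H.hom.fiberι s (((Over.pullback (S.fromSpecResidueField s)).map u).left z)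
      = u.left (G.hom.fiberι s z) := fun s z =>
    congr(($((Groth.GrpschAbsch.FibreFlat.isPullback_map (S.fromSpecResidueField s) u).w)).base z).symm
  ext y
  constructor
  · rintro ⟨x, hx, rfl⟩
    obtain ⟨s, z, rfl⟩ : ∃ (s : S) (z : G.hom.fiber s), G.hom.fiberι s z = x :=
      ⟨_, _, G.hom.fiberι_asFiber x⟩
    rw [← hw, fiberι_mem_iff]
    exact (h s).le ⟨z, (fiberι_mem_iff G s z).1 hx, rfl⟩
  · intro hy
    obtain ⟨s, w, rfl⟩ : ∃ (s : S) (w : H.hom.fiber s), H.hom.fiberι s w = y :=
      ⟨_, _, H.hom.fiberι_asFiber y⟩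
    obtain ⟨z, hz, hzw⟩ := (h s).ge ((fiberι_mem_iff H s w).1 hy)
    exact ⟨_, (fiberι_mem_iff G s z).2 hz, (hw s z).symm.trans (congrArg _ hzw)⟩

end Groth.GrpschAbsch.NeutralSet
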