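import Groth.Agent.GrpschAbsch.Tangent
import Groth.Agent.GrpschAbsch.Basic
import Groth.Agent.S0386
import Groth.Agent.AlgGrp1.Basic
import Groth.Agent.FlatMor2.FlatComp
import Groth.Agent.FlatMorOne.LocalCriterion
import Mathlib.RingTheory.Unramified.LocalRing
import Mathlib.AlgebraicGeometry.Morphisms.Etale

/-!
Unramified endomorphisms of group schemes over a field are étale; powers prime to the characteristic.
-/

universe u

open CategoryTheory CategoryTheory.Limits MonoidalCategory CartesianMonoidalCategory MonObj GrpObj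
  AlgebraicGeometry TopologicalSpace IsLocalRing
open scoped TensorProduct

namespace Groth.GrpschAbsch

/-- A surjective endomorphism of a Noetherian ring is injective. -/
lemma injective_of_surjective_ringEndo {R : Type*} [CommRing R] [IsNoetherianRing R] (ψ : R →+* R)
    (h : Function.Surjective ψ) : Function.Injective ψ := by
  let g : ℕ →o Ideal R := ⟨fun n ↦ RingHom.ker (ψ ^ n), monotone_nat_of_le_succ fun n x hx ↦ by
    rw [RingHom.mem_ker] at hx ⊢
    rw [pow_succ']
    show ψ ((ψ ^ n) x) = 0
    rw [hx, map_zero]⟩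
  obtain ⟨n, hn⟩ := monotone_stabilizes_iff_noetherian.mpr (inferInstanceAs (IsNoetherian R R)) g
  rw [injective_iff_map_eq_zero]
  intro x hx
  have hs : Function.Surjective (ψ ^ n : R →+* R) := by rw [RingHom.coe_pow]; exact h.iterate n
  obtain ⟨y, rfl⟩ := hs x
  have hy : y ∈ g (n + 1) := by
    show (ψ ^ (n + 1) : R →+* R) y = 0
    rw [pow_succ']
    exact hx
  rw [← hn (n + 1) (Nat.le_succ n)] at hy
  exact hy

/-- An extension which is bijective modulo all powers of an ideal in the radical is flat. -/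
theorem flat_of_bijective_mod_pow {A B : Type u} [CommRing A] [CommRing B] [Algebra A B]
    [IsNoetherianRing A] [IsNoetherianRing B] (I : Ideal A)
    (hI : I.map (algebraMap A B) ≤ Ideal.jacobson ⊥)
    (hsurj : ∀ k (b : B), ∃ a, algebraMap A B a - b ∈ (I ^ k).map (algebraMap A B))
    (hinj : ∀ k (a : A), algebraMap A B a ∈ (I ^ k).map (algebraMap A B) → a ∈ I ^ k) :
    Module.Flat A B := by
  refine Groth.FlatMorOne.flat_of_forall_flat_mod_pow (S := B) (M := B) I hI fun k _ J _ ↦ ?_
  let q : (A ⧸ I ^ k) →ₐ[A] B ⧸ (I ^ k).map (algebraMap A B) :=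
    Ideal.quotientMapₐ _ (Algebra.ofId A B) Ideal.le_comap_map
  have hq : Function.Bijective q := by
    refine ⟨(injective_iff_map_eq_zero q).mpr fun x hx ↦ ?_, fun y ↦ ?_⟩
    · obtain ⟨a, rfl⟩ := Ideal.Quotient.mk_surjective x
      exact Ideal.Quotient.eq_zero_iff_mem.mpr (hinj k a (Ideal.Quotient.eq_zero_iff_mem.mp hx))
    · obtain ⟨b, rfl⟩ := Ideal.Quotient.mk_surjective y
      obtain ⟨a, ha⟩ := hsurj k b
      exact ⟨Ideal.Quotient.mk _ a, Ideal.Quotient.eq.mpr ha⟩
  let σ : B →ₐ[A] A ⧸ I ^ k := (AlgEquiv.ofBijective q hq).symm.toAlgHom.comp (Ideal.Quotient.mkₐ A _)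
  let θ : B ⊗[A] (A ⧸ I ^ k) →ₗ[A] A ⧸ I ^ k :=
    TensorProduct.lift ((LinearMap.mul A (A ⧸ I ^ k)).comp σ.toLinearMap)
  rw [injective_iff_map_eq_zero]
  intro z hz
  have hone : ∀ z : B ⊗[A] ↥(Submodule.map (I ^ k).mkQ J), ∃ x, (1 : B) ⊗ₜ[A] x = z := by
    intro z
    induction z with
    | tmul b x =>
      obtain ⟨a, ha⟩ := hsurj k b
      refine ⟨a • x, ?_⟩
      rw [TensorProduct.tmul_smul, TensorProduct.smul_tmul', Algebra.smul_def, _root_.mul_one]
      have h0 : ∀ c ∈ (I ^ k).map (algebraMap A B), ∀ x : ↥(Submodule.map (I ^ k).mkQ J),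
          c ⊗ₜ[A] x = 0 := by
        intro c hc
        induction hc using Submodule.span_induction with
        | mem c hc =>
          obtain ⟨y, hy, rfl⟩ := hc
          intro x
          rw [← _root_.mul_one (algebraMap A B y), ← Algebra.smul_def, TensorProduct.smul_tmul]
          rw [show y • x = 0 from Subtype.ext ?_, TensorProduct.tmul_zero]
          obtain ⟨x', -, hx'⟩ := x.2
          rw [SetLike.val_smul, ← hx', ← map_smul]
          exact (Submodule.Quotient.mk_eq_zero _).mpr (Ideal.mul_mem_right _ _ hy)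
        | zero => intro x; exact TensorProduct.zero_tmul _ _
        | add c d _ _ hc hd => intro x; rw [TensorProduct.add_tmul, hc, hd, add_zero]
        | smul r c _ hc =>
          intro x
          have : (r • c) ⊗ₜ[A] x = r • (c ⊗ₜ[A] x) := rfl
          rw [this, hc, smul_zero]
      rw [← sub_eq_zero, ← TensorProduct.sub_tmul]
      exact h0 _ ha x
    | zero => exact ⟨0, TensorProduct.tmul_zero _ _⟩
    | add y w hy hw =>
      obtain ⟨a, ha⟩ := hy; obtain ⟨b, hb⟩ := hw
      exact ⟨a + b, by rw [TensorProduct.tmul_add, ha, hb]⟩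
  obtain ⟨x, rfl⟩ := hone z
  have := congrArg θ hz
  rw [LinearMap.lTensor_tmul, map_zero] at this
  simp only [θ, TensorProduct.lift.tmul, LinearMap.comp_apply, AlgHom.toLinearMap_apply, map_one,
    LinearMap.mul_apply', _root_.one_mul] at this
  rw [show x = 0 from Subtype.ext this, TensorProduct.tmul_zero]

/-- A local endomorphism of a Noetherian local ring which is surjective on the residue field and
generates the maximal ideal is flat. -/
theorem flat_endo {A : Type u} [CommRing A] [IsLocalRing A] [IsNoetherianRing A] (φ : A →+* A)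
    (hm : (maximalIdeal A).map φ = maximalIdeal A) (hres : ∀ b, ∃ a, φ a - b ∈ maximalIdeal A) :
    φ.Flat := by
  have hloc : ∀ a ∈ maximalIdeal A, φ a ∈ maximalIdeal A := fun a ha ↦ by
    rw [← hm]; exact Ideal.mem_map_of_mem _ ha
  have hpow : ∀ k, (maximalIdeal A ^ k).map φ = maximalIdeal A ^ k := fun k ↦ by rw [Ideal.map_pow, hm]
  have happ : ∀ k, ∀ b, ∃ a, φ a - b ∈ maximalIdeal A ^ k := by
    intro k
    induction k with
    | zero => intro b; exact ⟨0, by simp⟩
    | succ k ih =>
      intro b
      obtain ⟨a, ha⟩ := ih b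
      suffices ∀ c ∈ (maximalIdeal A ^ k).map φ, ∃ a', φ a' - c ∈ maximalIdeal A ^ (k + 1) by
        rw [← hpow k] at ha
        obtain ⟨a', ha'⟩ := this _ ha
        refine ⟨a - a', ?_⟩
        have : φ (a - a') - b = -(φ a' - (φ a - b)) := by rw [map_sub]; ring
        rw [this]; exact neg_mem ha'
      intro c hc
      induction hc using Submodule.span_induction with
      | mem x hx => obtain ⟨y, -, rfl⟩ := hx; exact ⟨y, by simp⟩
      | zero => exact ⟨0, by simp⟩
      | add x y _ _ hx hy =>
        obtain ⟨p, hp⟩ := hx; obtain ⟨q, hq⟩ := hy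
        exact ⟨p + q, by rw [map_add, show φ p + φ q - (x + y) = (φ p - x) + (φ q - y) by ring]; exact add_mem hp hq⟩
      | smul r x hxm hx =>
        obtain ⟨p, hp⟩ := hx
        obtain ⟨s, hs⟩ := hres r
        refine ⟨s * p, ?_⟩
        rw [map_mul, smul_eq_mul, show φ s * φ p - r * x = φ s * (φ p - x) + (φ s - r) * x by ring]
        refine add_mem (Ideal.mul_mem_left _ _ hp) ?_
        rw [pow_succ']
        have : Ideal.span (φ '' ↑(maximalIdeal A ^ k)) = maximalIdeal A ^ k := hpow k
        exact Ideal.mul_mem_mul hs (this ▸ hxm)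
  let inst := φ.toAlgebra
  show @Module.Flat A A _ _ inst.toModule
  refine @flat_of_bijective_mod_pow A A _ _ inst _ _ (maximalIdeal A) ?_ ?_ ?_
  · show (maximalIdeal A).map φ ≤ _
    rw [hm, jacobson_eq_maximalIdeal _ bot_ne_top]
  · intro k b
    obtain ⟨a, ha⟩ := happ k b
    exact ⟨a, (hpow k).symm ▸ ha⟩
  · intro k a ha
    have hle : maximalIdeal A ^ k ≤ (maximalIdeal A ^ k).comap φ := Ideal.map_le_iff_le_comap.mp (hpow k).le
    have hs : Function.Surjective (Ideal.quotientMap (maximalIdeal A ^ k) φ hle) := fun y ↦ by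
      obtain ⟨b, rfl⟩ := Ideal.Quotient.mk_surjective y
      obtain ⟨a, ha⟩ := happ k b
      exact ⟨Ideal.Quotient.mk _ a, by rw [Ideal.quotientMap_mk]; exact Ideal.Quotient.eq.mpr ha⟩
    have ha' : φ a ∈ maximalIdeal A ^ k := hpow k ▸ ha
    refine Ideal.Quotient.eq_zero_iff_mem.mp (injective_of_surjective_ringEndo _ hs ?_)
    rw [Ideal.quotientMap_mk, map_zero]
    exact Ideal.Quotient.eq_zero_iff_mem.mpr ha'

variable {k : Type u} [Field k]

/-- An endomorphism fixing a rational point and unramified near it is flat there. -/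
theorem flat_stalkMap_of_fixed_of_mem {X : Over (Spec (CommRingCat.of k))} [LocallyOfFiniteType X.hom]
    (x : 𝟙_ (Over (Spec (CommRingCat.of k))) ⟶ X) (f : X ⟶ X) (W : X.left.Opens)
    [FormallyUnramified (W.ι ≫ f.left)] (hW : x.left (closedPoint k) ∈ W) (hx : x ≫ f = x) : (f.left.stalkMap (x.left (closedPoint k))).hom.Flat := by
  let pt : ↥(Spec (CommRingCat.of k)) := closedPoint k
  let x₀ : Spec (CommRingCat.of k) ⟶ X.left := x.left
  let e : X.left := x₀ pt
  show (f.left.stalkMap e).hom.Flat
  have := Groth.AlgGrp1.isLocallyNoetherian_left X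
  have : LocallyOfFiniteType (f.left ≫ X.hom) := by rw [Over.w]; infer_instance
  have : LocallyOfFiniteType f.left := locallyOfFiniteType_of_comp f.left X.hom
  have hfe : f.left e = e := by
    show f.left (x₀ pt) = x₀ pt
    rw [← Scheme.Hom.comp_apply, show x₀ ≫ f.left = x₀ from congr(($hx).left)]
  have hmax : (maximalIdeal (X.left.presheaf.stalk (f.left e))).map (f.left.stalkMap e).hom =
      maximalIdeal (X.left.presheaf.stalk e) := by
    let w : W.toScheme := ⟨e, hW⟩
    have key : (maximalIdeal (X.left.presheaf.stalk ((W.ι ≫ f.left) w))).map ((W.ι ≫ f.left).stalkMap w).hom =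
        maximalIdeal (W.toScheme.presheaf.stalk w) := by
      algebraize [((W.ι ≫ f.left).stalkMap w).hom]
      have : IsLocalHom (algebraMap (X.left.presheaf.stalk ((W.ι ≫ f.left) w)) (W.toScheme.presheaf.stalk w)) :=
        inferInstanceAs <| IsLocalHom ((W.ι ≫ f.left).stalkMap w).hom
      have : Algebra.EssFiniteType (X.left.presheaf.stalk ((W.ι ≫ f.left) w)) (W.toScheme.presheaf.stalk w) := by
        rw [← RingHom.essFiniteType_algebraMap, RingHom.algebraMap_toAlgebra]
        exact LocallyOfFiniteType.stalkMap (W.ι ≫ f.left) w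
      have : Algebra.FormallyUnramified (X.left.presheaf.stalk ((W.ι ≫ f.left) w)) (W.toScheme.presheaf.stalk w) := by
        rw [← RingHom.formallyUnramified_algebraMap, RingHom.algebraMap_toAlgebra]
        exact FormallyUnramified.stalkMap (W.ι ≫ f.left) w
      exact Algebra.FormallyUnramified.map_maximalIdeal
    rw [Scheme.Hom.stalkMap_comp] at key
    have hb : Function.Bijective (W.ι.stalkMap w).hom := ConcreteCategory.bijective_of_isIso _
    have key' : ((maximalIdeal (X.left.presheaf.stalk (f.left e))).map (f.left.stalkMap e).hom).map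
        (W.ι.stalkMap w).hom = maximalIdeal (W.toScheme.presheaf.stalk w) := by
      exact (Ideal.map_map _ _).trans key
    exact (Ideal.comap_map_of_bijective (W.ι.stalkMap w).hom hb).symm.trans
      ((congrArg (Ideal.comap (W.ι.stalkMap w).hom) key').trans (IsLocalRing.maximalIdeal_comap _))
  have hres : Function.Surjective (f.left.residueFieldMap e) := by
    have hh : Function.Surjective (X.hom.residueFieldMap e) := by
      have h1 : Function.Bijective ((x₀ ≫ X.hom).residueFieldMap pt) := by
        have hxw : x₀ ≫ X.hom = 𝟙 (Spec (CommRingCat.of k)) := Over.w x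
        rw [Scheme.Hom.residueFieldMap_congr hxw pt,
          Scheme.residueFieldMap_id]
        exact (Scheme.residueFieldCongr (congrArg (fun g : Spec (CommRingCat.of k) ⟶ Spec (CommRingCat.of k) ↦ g pt) hxw)).commRingCatIsoToRingEquiv.bijective
      rw [Scheme.residueFieldMap_comp] at h1
      intro a
      obtain ⟨b, hb⟩ := h1.2 (x₀.residueFieldMap pt a)
      refine ⟨b, (x₀.residueFieldMap pt).hom.injective ?_⟩
      exact hb
    have h2 : Function.Surjective ((f.left ≫ X.hom).residueFieldMap e) := by
      rw [Scheme.Hom.residueFieldMap_congr (Over.w f) e]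
      exact hh.comp (ConcreteCategory.bijective_of_isIso _).2
    rw [Scheme.residueFieldMap_comp] at h2
    intro a
    obtain ⟨b, hb⟩ := h2 a
    exact ⟨_, hb⟩
  let c := X.left.presheaf.stalkCongr (Inseparable.of_eq hfe.symm)
  let φ : X.left.presheaf.stalk e ⟶ X.left.presheaf.stalk e := c.hom ≫ f.left.stalkMap e
  have hc : Function.Surjective c.hom.hom := (ConcreteCategory.bijective_of_isIso c.hom).2
  have hφ : φ.hom.Flat := by
    refine flat_endo φ.hom ?_ fun b ↦ ?_
    · have hcm : (maximalIdeal (X.left.presheaf.stalk e)).map c.hom.hom =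
          maximalIdeal (X.left.presheaf.stalk (f.left e)) :=
        (congrArg (Ideal.map c.hom.hom) (IsLocalRing.eq_maximalIdeal
          (Ideal.comap_isMaximal_of_surjective _ hc (K := maximalIdeal _))).symm).trans
          (Ideal.map_comap_of_surjective _ hc _)
      show (maximalIdeal _).map ((f.left.stalkMap e).hom.comp c.hom.hom) = _
      rw [← Ideal.map_map, hcm, hmax]
    · obtain ⟨a, ha⟩ := hres (X.left.residue e b)
      obtain ⟨a, rfl⟩ := IsLocalRing.residue_surjective a
      obtain ⟨a', rfl⟩ := hc a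
      refine ⟨a', ?_⟩
      rw [← IsLocalRing.residue_eq_zero_iff, map_sub, sub_eq_zero]
      exact ha
  have : f.left.stalkMap e = c.inv ≫ φ := (c.inv_hom_id_assoc _).symm
  rw [this]
  exact (RingHom.Flat.of_bijective (ConcreteCategory.bijective_of_isIso c.inv)).comp hφ

/-- An unramified endomorphism fixing a rational point is flat there. -/
theorem flat_stalkMap_of_fixed {X : Over (Spec (CommRingCat.of k))} [LocallyOfFiniteType X.hom]
    (x : 𝟙_ (Over (Spec (CommRingCat.of k))) ⟶ X) (f : X ⟶ X) [FormallyUnramified f.left]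
    (hx : x ≫ f = x) : (f.left.stalkMap (x.left (closedPoint k))).hom.Flat :=
  have : FormallyUnramified ((⊤ : X.left.Opens).ι ≫ f.left) :=
    MorphismProperty.comp_mem @FormallyUnramified _ _ inferInstance inferInstance
  flat_stalkMap_of_fixed_of_mem x f ⊤ trivial hx

/-- An unramified endomorphism of a group scheme is étale. -/
theorem etale_endo_of_formallyUnramified {G : Over (Spec (CommRingCat.of k))} [GrpObj G]
    [LocallyOfFiniteType G.hom] (f : G ⟶ G) [IsMonHom f] [FormallyUnramified f.left] : Etale f.left := by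
  have := Groth.AlgGrp1.lfp_left f
  have he := flat_stalkMap_of_fixed η[G] f (IsMonHom.one_hom f)
  let U : G.left.Opens := ⟨{x | (f.left.stalkMap x).hom.Flat}, Groth.Agent.S0386.result f.left⟩
  have hU : Flat (U.ι ≫ f.left) := by
    rw [Flat.iff_flat_stalkMap]
    intro z
    rw [Scheme.Hom.stalkMap_comp]
    exact RingHom.Flat.comp z.2 ((Flat.iff_flat_stalkMap _).mp inferInstance z)
  let jU : Over.mk (U.ι ≫ G.hom) ⟶ G := Over.homMk U.ι rfl
  have hflatU : Flat (jU ≫ f).left := hU
  let m : G ⊗ Over.mk (U.ι ≫ G.hom) ⟶ G := (G ◁ jU) ≫ μ[G]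
  have hm : m ≫ f = (G ◁ (jU ≫ f)) ≫ (shearL f).hom ≫ snd G G := by
    rw [shearL_hom_snd, MonoidalCategory.whiskerLeft_comp]
    simp only [m, Category.assoc, IsMonHom.mul_hom, tensorHom_def']
  have hmf : Flat (m ≫ f).left := by
    have : Flat (G ◁ (jU ≫ f)).left := whiskerLeft_left_mem @Flat G _ hflatU
    have : Flat ((shearL f).hom).left := inferInstance
    have : Flat (snd G G).left := snd_left_mem @Flat G G inferInstance
    rw [hm, Over.comp_left, Over.comp_left]
    infer_instance
  have : Flat m.left := by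
    have h1 : Flat (G ◁ jU).left := whiskerLeft_left_mem @Flat G _ (inferInstanceAs (Flat U.ι))
    have h2 : Flat μ[G].left := mul_left_mem @Flat G inferInstance
    simp only [m, Over.comp_left]
    infer_instance
  have : Surjective m.left := ⟨fun g ↦ by
    let j : 𝟙_ (Over (Spec (CommRingCat.of k))) ⟶ Over.mk (U.ι ≫ G.hom) :=
      Over.homMk (IsOpenImmersion.lift U.ι η[G].left (by
        rw [Scheme.Opens.range_ι]
        rintro _ ⟨t, rfl⟩
        rw [show t = closedPoint k from @Subsingleton.elim _
          (inferInstanceAs (Subsingleton ↥(Spec (CommRingCat.of k)))) _ _]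
        exact he)) (by
        show _ ≫ U.ι ≫ G.hom = _
        rw [IsOpenImmersion.lift_fac_assoc]
        exact Over.w η[G])
    have hj : j ≫ jU = η[G] := Over.OverMorphism.ext (IsOpenImmersion.lift_fac _ _ _)
    refine ⟨(lift (𝟙 G) (toUnit G ≫ j)).left g, ?_⟩
    rw [← Scheme.Hom.comp_apply, ← Over.comp_left]
    have : lift (𝟙 G) (toUnit G ≫ j) ≫ m = 𝟙 G := by
      simp only [m, lift_whiskerLeft_assoc, Category.assoc, hj]
      exact _root_.mul_one (𝟙 G)
    rw [this]; rfl⟩
  have : Flat (m.left ≫ f.left) := hmf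
  have : Flat f.left := Groth.FlatMor2.flat_of_comp_surjective m.left f.left
  exact Etale.of_formallyUnramified_of_flat f.left

/-- Powers of the identity of a commutative group scheme are homomorphisms. -/
instance isMonHom_zpow {S : Scheme.{u}} {G : Over S} [GrpObj G] [IsCommMonObj G] (n : ℤ) : IsMonHom (𝟙 G ^ n) :=
  Groth.AlgGrp1.isMonHom_of_points _ fun T a b ↦ by
    simp only [GrpObj.comp_zpow, Category.comp_id]
    exact mul_zpow a b n

/-- Powers of the identity of a commutative group scheme prime to the characteristic are étale. -/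
theorem etale_zpow {G : Over (Spec (CommRingCat.of k))} [GrpObj G] [IsCommMonObj G]
    [LocallyOfFiniteType G.hom] (n : ℤ) (hn : (n : k) ≠ 0) : Etale (𝟙 G ^ n).left := by
  have : FormallyUnramified (𝟙 G ^ n).left := formallyUnramified_of_tangent (𝟙 G ^ n) fun z hz hzn ↦ by
    refine eq_one_of_zpow_eq_one hz n hn ?_
    rwa [GrpObj.comp_zpow, Category.comp_id] at hzn
  exact etale_endo_of_formallyUnramified (𝟙 G ^ n)

end Groth.GrpschAbsch
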