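import Groth.Prelude.Def_Red
import Mathlib.CategoryTheory.Monoidal.Cartesian.Over

/-!
Points of a base-changed group scheme, as a monoid homomorphism.
-/

universe u

open CategoryTheory MonoidalCategory CartesianMonoidalCategory MonObj AlgebraicGeometry Limits

namespace Groth.GrpschAbsch

variable {S T : Scheme.{u}} (g : S ⟶ T) {G : Over T}

/-- The `G`-point over `T` underlying a point of the base change. -/
noncomputable def bcPt {X : Over S} (x : X ⟶ Red.bc g G) : Over.mk (X.hom ≫ g) ⟶ G :=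
  Over.homMk (x.left ≫ pullback.fst _ _) (by
    show (x.left ≫ pullback.fst _ _) ≫ G.hom = X.hom ≫ g
    rw [Category.assoc, pullback.condition, ← Category.assoc]
    exact congrArg (· ≫ g) (Over.w x))

lemma bcPt_left {X : Over S} (x : X ⟶ Red.bc g G) :
    (bcPt g x).left = x.left ≫ pullback.fst _ _ := rfl

lemma bcPt_comp_map {X : Over S} {G' : Over T} (x : X ⟶ Red.bc g G) (h : G ⟶ G') :
    bcPt g (x ≫ (Over.pullback g).map h) = bcPt g x ≫ h := by
  refine Over.OverMorphism.ext ?_
  show (x.left ≫ ((Over.pullback g).map h).left) ≫ pullback.fst _ _ =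
    (x.left ≫ pullback.fst _ _) ≫ h.left
  rw [Category.assoc, Category.assoc]
  congr 1
  exact pullback.lift_fst _ _ _

lemma bcPt_injective {X : Over S} {x y : X ⟶ Red.bc g G} (h : bcPt g x = bcPt g y) : x = y :=
  Over.OverMorphism.ext (pullback.hom_ext congr(($h).left) ((Over.w x).trans (Over.w y).symm))

lemma bcPt_exists {X : Over S} (y : Over.mk (X.hom ≫ g) ⟶ G) :
    ∃ x : X ⟶ Red.bc g G, bcPt g x = y :=
  ⟨Over.homMk (pullback.lift y.left X.hom (Over.w y)) (pullback.lift_snd _ _ _),
    Over.OverMorphism.ext (pullback.lift_fst _ _ _)⟩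

variable [GrpObj G]

lemma bcPt_mul {X : Over S} (x y : X ⟶ Red.bc g G) :
    bcPt g (x * y) = bcPt g x * bcPt g y := by
  let P := Over.pullback g
  have e : (x * y) = (lift x y ≫ Functor.LaxMonoidal.μ P G G) ≫ P.map μ := by
    rw [Hom.mul_def, Category.assoc]
    rfl
  rw [e, bcPt_comp_map, Hom.mul_def]
  congr 1
  apply CartesianMonoidalCategory.hom_ext
  · rw [lift_fst, ← bcPt_comp_map, Category.assoc, Functor.Monoidal.μ_fst, lift_fst]
  · rw [lift_snd, ← bcPt_comp_map, Category.assoc, Functor.Monoidal.μ_snd, lift_snd]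

lemma bcPt_one {X : Over S} : bcPt g (1 : X ⟶ Red.bc g G) = 1 := by
  have := bcPt_mul g (1 : X ⟶ Red.bc g G) 1
  rw [_root_.one_mul] at this
  exact left_eq_mul.mp this

lemma bcPt_pow {X : Over S} (x : X ⟶ Red.bc g G) (N : ℕ) :
    bcPt g (x ^ N) = bcPt g x ^ N := by
  induction N with
  | zero => rw [pow_zero, pow_zero, bcPt_one]
  | succ N ih => rw [pow_succ, pow_succ, bcPt_mul, ih]

end Groth.GrpschAbsch
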