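import Mathlib.RingTheory.Kaehler.Basic
import Mathlib.RingTheory.Derivation.Basic
import Mathlib.RingTheory.Derivation.MapCoeffs
import Mathlib.FieldTheory.KummerPolynomial
import Mathlib.FieldTheory.IntermediateField.Adjoin.Basic
import Mathlib.Algebra.CharP.Frobenius
import Mathlib.Order.Zorn

/-!
In a field of characteristic `p` an element which is not a `p`-th power has a non-zero differential.
-/

universe u

open Polynomial IntermediateField

namespace Groth.GrpschAbsch

variable {K : Type u} [Field K] (p : ℕ) [hp : Fact p.Prime] [CharP K p]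

lemma exists_derivation_eq_one {s : K} (hs : ∀ y : K, y ^ p ≠ s) :
    ∃ D : Derivation ℤ K K, D s = 1 := by
  classical
  let P : Set (Subfield K) := {M | (∀ y : K, y ^ p ∈ M) ∧ s ∉ M}
  have hbase : (frobenius K p).fieldRange ∈ P := by
    refine ⟨fun y ↦ ⟨y, rfl⟩, ?_⟩
    rintro ⟨y, hy⟩
    exact hs y hy
  obtain ⟨M, -, hM⟩ := zorn_le_nonempty₀ P (fun c hc hchain M₀ hM₀ ↦ by
    refine ⟨sSup c, ⟨fun y ↦ ?_, fun h ↦ ?_⟩, fun z hz ↦ le_sSup hz⟩
    · exact (le_sSup hM₀ : M₀ ≤ sSup c) ((hc hM₀).1 y)
    · rw [Subfield.mem_sSup_of_directedOn ⟨M₀, hM₀⟩ hchain.directedOn] at h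
      obtain ⟨N, hN, hsN⟩ := h
      exact (hc hN).2 hsN) _ hbase
  have hpow : ∀ y : K, y ^ p ∈ M := hM.1.1
  have hsM : s ∉ M := hM.1.2
  have hirr : ∀ y : K, y ∉ M → Irreducible (X ^ p - C (⟨y ^ p, hpow y⟩ : M)) := by
    intro y hy
    refine X_pow_sub_C_irreducible_of_prime hp.out fun b hb ↦ hy ?_
    have : (b : K) ^ p = y ^ p := congrArg Subtype.val hb
    have := frobenius_inj K p this
    exact this ▸ b.2
  have hmin : ∀ y : K, y ∉ M → minpoly M y = X ^ p - C (⟨y ^ p, hpow y⟩ : M) := by
    intro y hy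
    refine (minpoly.eq_of_irreducible_of_monic (hirr y hy) ?_
      (monic_X_pow_sub_C _ hp.out.ne_zero)).symm
    simp [Subfield.algebraMap_ofSubfield]
  have hint : ∀ y : K, y ∉ M → IsIntegral M y := fun y hy ↦
    ⟨X ^ p - C (⟨y ^ p, hpow y⟩ : M), monic_X_pow_sub_C _ hp.out.ne_zero, by
      simp [Subfield.algebraMap_ofSubfield]⟩
  have hfr : ∀ y : K, y ∉ M → Module.finrank M M⟮y⟯ = p := fun y hy ↦ by
    rw [adjoin.finrank (hint y hy), hmin y hy, natDegree_X_pow_sub_C]
  have htop : M⟮s⟯ = ⊤ := by
    rw [eq_top_iff]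
    intro y _
    by_cases hy : y ∈ M
    · exact (M⟮s⟯).algebraMap_mem ⟨y, hy⟩
    have hsy : s ∈ M⟮y⟯ := by
      by_contra hsy
      have hle : M ≤ (M⟮y⟯).toSubfield := fun z hz ↦ (M⟮y⟯).algebraMap_mem ⟨z, hz⟩
      exact hy (hM.2 (y := (M⟮y⟯).toSubfield) ⟨fun z ↦ hle (hpow z), hsy⟩ hle
        (mem_adjoin_simple_self M y))
    have : FiniteDimensional M M⟮y⟯ := adjoin.finiteDimensional (hint y hy)
    have heq : M⟮s⟯ = M⟮y⟯ := eq_of_le_of_finrank_eq
      (adjoin_simple_le_iff.mpr hsy) (by rw [hfr y hy, hfr s hsM])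
    rw [heq]
    exact mem_adjoin_simple_self M y
  have hsurj : Function.Surjective (aeval s : M[X] →ₐ[M] K) := fun y ↦ by
    have hy : y ∈ (M⟮s⟯).toSubalgebra := by rw [htop]; trivial
    rw [adjoin_simple_toSubalgebra_of_isAlgebraic (hint s hsM).isAlgebraic,
      Algebra.adjoin_singleton_eq_range_aeval] at hy
    exact hy
  have hwd : ∀ P Q : M[X], aeval s P = aeval s Q →
      aeval s (derivative P) = aeval s (derivative Q) := by
    intro P Q h
    have h0 : aeval s (P - Q) = 0 := by rw [map_sub, h, sub_self]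
    obtain ⟨R, hR⟩ := minpoly.dvd M s h0
    rw [← sub_eq_zero, ← map_sub, ← map_sub, hR, derivative_mul, map_add, map_mul, map_mul,
      minpoly.aeval, zero_mul, add_zero, hmin s hsM]
    simp [derivative_X_pow]
  let inv := Function.surjInv hsurj
  have hinv : ∀ x, aeval s (inv x) = x := Function.surjInv_eq hsurj
  let d : K →+ K :=
    { toFun := fun x ↦ aeval s (derivative (inv x))
      map_zero' := by
        rw [hwd (inv 0) 0 (by rw [hinv, map_zero])]; simp
      map_add' := fun x y ↦ by
        rw [← map_add (aeval s), ← map_add derivative]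
        exact hwd _ _ (by simp [hinv]) }
  refine ⟨Derivation.mk' d.toIntLinearMap fun x y ↦ ?_, ?_⟩
  · change aeval s (derivative (inv (x * y))) =
      x * aeval s (derivative (inv y)) + y * aeval s (derivative (inv x))
    rw [hwd _ (inv x * inv y) (by simp [hinv]), derivative_mul, map_add, map_mul, map_mul, hinv,
      hinv]
    ring
  · change aeval s (derivative (inv s)) = 1
    rw [hwd _ X (by simp [hinv])]
    simp

/-- In a domain of characteristic `p`, if `d s = 0` then `s` is a `p`-th power in the fraction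
field. -/
lemma exists_pow_eq_algebraMap_of_D_eq_zero {A : Type u} [CommRing A] [Algebra A K]
    {s : A} (hs : KaehlerDifferential.D ℤ A s = 0) :
    ∃ y : K, y ^ p = algebraMap A K s := by
  by_contra! h
  obtain ⟨D, hD⟩ := exists_derivation_eq_one p h
  have := congrArg (D.compAlgebraMap A).liftKaehlerDifferential hs
  rw [Derivation.liftKaehlerDifferential_comp_D, map_zero] at this
  exact one_ne_zero (hD.symm.trans this)

/-- If `s` is not a `p`-th power in the fraction field, `r ↦ r • d s` is injective. -/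
lemma injective_smul_D_of_not_pow {A : Type u} [CommRing A] [Algebra A K]
    (hA : Function.Injective (algebraMap A K)) {s : A} (hs : ∀ y : K, y ^ p ≠ algebraMap A K s) :
    Function.Injective (fun r : A ↦ r • KaehlerDifferential.D ℤ A s) := by
  obtain ⟨D, hD⟩ := exists_derivation_eq_one p hs
  intro r t h
  have := congrArg (D.compAlgebraMap A).liftKaehlerDifferential h
  simp only [map_smul, Derivation.liftKaehlerDifferential_comp_D] at this
  have hD' : D.compAlgebraMap A s = 1 := hD
  rw [hD', Algebra.smul_def, Algebra.smul_def, mul_one, mul_one] at this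
  exact hA this

end Groth.GrpschAbsch
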