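import Groth.Agent.GrpschAbsch.GrpDim
import Groth.Agent.GrpschAbsch.ImageSubgroup
import Groth.Agent.AlgGrp1.Sub
import Groth.Agent.AlgGrp1.Geom
import Groth.Agent.Flatmor4.GeomDescent
import Groth.Agent.VarietyBC.Fibre

/-!
Irreducible components of arbitrary group schemes over a field.
-/

universe u

open CategoryTheory CategoryTheory.Limits MonoidalCategory CartesianMonoidalCategory MonObj GrpObj
  AlgebraicGeometry TopologicalSpace

namespace Groth.GrpschAbsch

/-- An irreducible scheme over a separably closed field is geometrically irreducible. -/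
theorem geometricallyIrreducible_of_isSepClosed {k : Type u} [Field k] [IsSepClosed k] {X : Scheme.{u}}
    (f : X ⟶ Spec (CommRingCat.of k)) [IrreducibleSpace X] : GeometricallyIrreducible f := by
  let : X.Over (Spec (CommRingCat.of k)) := ⟨f⟩
  let := Curv2.resAlgebra k X (genericPoint X)
  refine VarietyBC.geometricallyIrreducible_of_sepClosedAt (k := k) (X := X) fun a ha ↦ ?_
  have hs : Algebra.IsSeparable k (IntermediateField.adjoin k {a}) :=
    (IntermediateField.isSeparable_adjoin_simple_iff_isSeparable k _).mpr ha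
  have hbij := IsSepClosed.algebraMap_surjective k (IntermediateField.adjoin k {a})
  obtain ⟨c, hc⟩ := hbij ⟨a, IntermediateField.mem_adjoin_simple_self k a⟩
  exact ⟨c, congrArg Subtype.val hc⟩

variable {K : Type u} [Field K]

/-- Over an algebraically closed field the unit lies on a single irreducible component. -/
theorem component_unique_of_isAlgClosed [IsAlgClosed K] (G : Over (Spec (CommRingCat.of K))) [GrpObj G]
    {C D : Set G.left} (hC : C ∈ irreducibleComponents G.left) (hD : D ∈ irreducibleComponents G.left)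
    (heC : η[G].left (IsLocalRing.closedPoint K) ∈ C) (heD : η[G].left (IsLocalRing.closedPoint K) ∈ D) :
    C = D := by
  have sub : ∀ {E : Set G.left}, E ∈ irreducibleComponents G.left →
      η[G].left (IsLocalRing.closedPoint K) ∈ E → ∃ (Z : Over (Spec (CommRingCat.of K))) (c : Z ⟶ G)
        (z : 𝟙_ _ ⟶ Z), IsClosedImmersion c.left ∧ Set.range c.left = E ∧ IrreducibleSpace Z.left ∧ z ≫ c = η[G] := by
    intro E hE heE
    let I := Scheme.IdealSheafData.vanishingIdeal ⟨E, isClosed_of_mem_irreducibleComponents _ hE⟩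
    let Z : Over (Spec (CommRingCat.of K)) := Over.mk (I.subschemeι ≫ G.hom)
    let c : Z ⟶ G := Over.homMk I.subschemeι rfl
    have hr : Set.range c.left = E := by
      show Set.range I.subschemeι = E
      rw [Scheme.IdealSheafData.range_subschemeι]
      simp [I]
    have : IsClosedImmersion c.left := inferInstanceAs (IsClosedImmersion I.subschemeι)
    have : IsReduced (𝟙_ (Over (Spec (CommRingCat.of K)))).left :=
      inferInstanceAs (IsReduced (Spec (CommRingCat.of K)))
    obtain ⟨z, hz⟩ := AlgGrp1.exists_factor_of_range_subset c η[G] (by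
      rintro _ ⟨t, rfl⟩
      rw [hr, show t = IsLocalRing.closedPoint K from @Subsingleton.elim _
        (inferInstanceAs (Subsingleton ↥(Spec (CommRingCat.of K)))) _ _]
      exact heE)
    refine ⟨Z, c, z, ‹_›, hr, ?_, hz⟩
    rw [irreducibleSpace_def]
    refine ⟨?_, isPreirreducible_iff_isClosed_union_isClosed.mpr fun z₁ z₂ h₁ h₂ huniv ↦ ?_⟩
    · obtain ⟨x, hx⟩ := hE.1.nonempty
      obtain ⟨y, -⟩ := hr.symm ▸ hx
      exact ⟨y, trivial⟩
    · have hcov : E ⊆ c.left '' z₁ ∪ c.left '' z₂ := by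
        rw [← hr, ← Set.image_union]
        rintro _ ⟨y, rfl⟩
        exact ⟨y, huniv trivial, rfl⟩
      have hinj := c.left.isClosedEmbedding.injective
      rcases isPreirreducible_iff_isClosed_union_isClosed.mp hE.1.2 _ _
        (c.left.isClosedEmbedding.isClosedMap _ h₁) (c.left.isClosedEmbedding.isClosedMap _ h₂) hcov with h | h
      · exact Or.inl fun y _ ↦ hinj.mem_set_image.mp (h (hr ▸ ⟨y, rfl⟩))
      · exact Or.inr fun y _ ↦ hinj.mem_set_image.mp (h (hr ▸ ⟨y, rfl⟩))
  obtain ⟨Z₁, c₁, z₁, -, hr₁, hi₁, hz₁⟩ := sub hC heC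
  obtain ⟨Z₂, c₂, z₂, -, hr₂, hi₂, hz₂⟩ := sub hD heD
  have : GeometricallyIrreducible Z₁.hom := geometricallyIrreducible_of_isSepClosed Z₁.hom
  have : IrreducibleSpace (Z₁ ⊗ Z₂).left := inferInstanceAs (IrreducibleSpace ↥(pullback Z₁.hom Z₂.hom))
  let m := (c₁ ⊗ₘ c₂) ≫ μ[G]
  have hT : IsIrreducible (Set.range m.left) := by
    rw [← Set.image_univ]
    exact (IrreducibleSpace.isIrreducible_univ _).image _ m.left.continuous.continuousOn
  have h1 : lift (𝟙 Z₁) (toUnit Z₁ ≫ z₂) ≫ m = c₁ := by
    simp only [m, lift_map_assoc, Category.id_comp, Category.assoc, hz₂]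
    exact _root_.mul_one c₁
  have h2 : lift (toUnit Z₂ ≫ z₁) (𝟙 Z₂) ≫ m = c₂ := by
    simp only [m, lift_map_assoc, Category.id_comp, Category.assoc, hz₁]
    exact _root_.one_mul c₂
  have hsub1 : C ⊆ Set.range m.left := by
    rw [← hr₁, ← h1, Over.comp_left]; rintro _ ⟨a, rfl⟩; exact ⟨_, rfl⟩
  have hsub2 : D ⊆ Set.range m.left := by
    rw [← hr₂, ← h2, Over.comp_left]; rintro _ ⟨a, rfl⟩; exact ⟨_, rfl⟩
  exact (hsub1.antisymm (hC.2 hT hsub1)).trans (hsub2.antisymm (hD.2 hT hsub2)).symm

/-- Maximal points of a flat cover lie over maximal points. -/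
lemma exists_isMax_lift {X X' : Scheme.{u}} (p : X' ⟶ X) {x' : X'} {ξ : X} (hξ : IsMax ξ)
    (h : p x' = ξ) : ∃ ξ', x' ≤ ξ' ∧ IsMax ξ' ∧ p ξ' = ξ := by
  obtain ⟨ξ', h1, h2⟩ := exists_isMax_ge x'
  refine ⟨ξ', h1, h2, ?_⟩
  have h3 : ξ ≤ p ξ' := by
    rw [← h]
    exact Scheme.le_iff_specializes.mpr ((Scheme.le_iff_specializes.mp h1).map p.continuous)
  exact ((Scheme.le_iff_specializes.mp (hξ h3)).antisymm (Scheme.le_iff_specializes.mp h3)).eq.symm

lemma eq_of_closure_eq {X : Scheme.{u}} {a b : X} (h : closure {a} = closure ({b} : Set X)) : a = b :=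
  (inseparable_iff_closure_eq.mpr h).eq

/-- The unit of a base change lies over the unit. -/
lemma one_apply_fst (G : Over (Spec (CommRingCat.of K))) [GrpObj G] {L : Type u} [Field L]
    (g : Spec (CommRingCat.of L) ⟶ Spec (CommRingCat.of K)) :
    letI : GrpObj (Over.mk G.hom) := ‹GrpObj G›
    letI : GrpObj (Over.mk (pullback.snd G.hom g)) := Over.grpObjMkPullbackSnd
    pullback.fst G.hom g (η[Over.mk (pullback.snd G.hom g)].left (IsLocalRing.closedPoint L)) =
      η[G].left (IsLocalRing.closedPoint K) := by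
  let : GrpObj (Over.mk G.hom) := ‹GrpObj G›
  let : GrpObj (Over.mk (pullback.snd G.hom g)) := Over.grpObjMkPullbackSnd
  let p := pullback.fst G.hom g
  have he' : p (η[Over.mk (pullback.snd G.hom g)].left (IsLocalRing.closedPoint L)) = η[G].left (IsLocalRing.closedPoint K) := by
    have h : η[Over.mk (pullback.snd G.hom g)].left ≫ p = g ≫ η[G].left := by
      simp [p, Over.grpObjMkPullbackSnd_one]
      rw [pullback.lift_fst, ← pullback.condition_assoc, Category.id_comp]
    refine (Scheme.Hom.comp_apply _ _ _).symm.trans ((congrArg (fun φ : Spec (CommRingCat.of L) ⟶ G.left ↦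
      φ (IsLocalRing.closedPoint L)) h).trans ?_)
    show η[G].left (g (IsLocalRing.closedPoint L)) = _
    rw [Subsingleton.elim (g (IsLocalRing.closedPoint L)) (IsLocalRing.closedPoint K)]
  exact he'

lemma isPullback_map_fst (G : Over (Spec (CommRingCat.of K))) {Z Y : Scheme.{u}} (incl : Z ⟶ G.left)
    (g : Y ⟶ Spec (CommRingCat.of K)) :
    IsPullback (pullback.fst (incl ≫ G.hom) g)
      (pullback.map (incl ≫ G.hom) g G.hom g incl (𝟙 _) (𝟙 _) (by simp) (by simp)) incl (pullback.fst G.hom g) := by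
  refine IsPullback.of_bot ?_ (pullback.lift_fst _ _ _).symm (IsPullback.of_hasPullback G.hom g)
  rw [pullback.lift_snd, Category.comp_id]
  exact IsPullback.of_hasPullback (incl ≫ G.hom) g

/-- Over any field the unit lies on a single component, which is geometrically irreducible. -/
theorem isMax_unique_over_unit (G : Over (Spec (CommRingCat.of K))) [GrpObj G] {a b : G.left}
    (ha : IsMax a) (hb : IsMax b) (hae : η[G].left (IsLocalRing.closedPoint K) ≤ a)
    (hbe : η[G].left (IsLocalRing.closedPoint K) ≤ b) : a = b := by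
  let g := Spec.map (CommRingCat.ofHom (algebraMap K (AlgebraicClosure K)))
  have : IsIntegralHom g := IsIntegralHom.SpecMap_iff.mpr (algebraMap_isIntegral_iff.mpr inferInstance)
  let p := pullback.fst G.hom g
  let : GrpObj (Over.mk G.hom) := ‹GrpObj G›
  let : GrpObj (Over.mk (pullback.snd G.hom g)) := Over.grpObjMkPullbackSnd
  let e' : ↥(pullback G.hom g) :=
    η[Over.mk (pullback.snd G.hom g)].left (IsLocalRing.closedPoint (AlgebraicClosure K))
  have hfib := AlgGrp1.subsingleton_preimage_of_point G.hom g η[G].left (Over.w η[G])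
    (IsLocalRing.closedPoint K)
  have he' : p e' = η[G].left (IsLocalRing.closedPoint K) := one_apply_fst G g
  have hlift : ∀ {ξ : G.left}, IsMax ξ → η[G].left (IsLocalRing.closedPoint K) ≤ ξ →
      ∃ ξ', IsMax ξ' ∧ p ξ' = ξ ∧ e' ≤ ξ' := by
    intro ξ hξ hle
    obtain ⟨x', hx'⟩ := p.surjective ξ
    obtain ⟨ξ', -, hmax, hpξ⟩ := exists_isMax_lift p hξ hx'
    refine ⟨ξ', hmax, hpξ, ?_⟩
    have hmem : η[G].left (IsLocalRing.closedPoint K) ∈ p '' closure {ξ'} := by
      have hcl : IsClosed (p '' closure {ξ'}) := p.isClosedMap _ isClosed_closure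
      exact (Scheme.le_iff_specializes.mp hle).mem_closed hcl ⟨ξ', subset_closure rfl, hpξ⟩
    obtain ⟨w, hw, hwe⟩ := hmem
    rw [hfib hwe he'] at hw
    exact Scheme.le_iff_specializes.mpr (specializes_iff_mem_closure.mpr hw)
  obtain ⟨a', ha', hpa, hea⟩ := hlift ha hae
  obtain ⟨b', hb', hpb, heb⟩ := hlift hb hbe
  have := component_unique_of_isAlgClosed (Over.mk (pullback.snd G.hom g))
    (closure_mem_irreducibleComponents ha') (closure_mem_irreducibleComponents hb')
    (specializes_iff_mem_closure.mp (Scheme.le_iff_specializes.mp hea))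
    (specializes_iff_mem_closure.mp (Scheme.le_iff_specializes.mp heb))
  rw [← hpa, ← hpb, eq_of_closure_eq this]

/-- Left translation by a section. -/
noncomputable def translate {S : Scheme.{u}} (G : Over S) [GrpObj G] (x : 𝟙_ (Over S) ⟶ G) : G ≅ G where
  hom := (toUnit G ≫ x) * 𝟙 G
  inv := (toUnit G ≫ x)⁻¹ * 𝟙 G
  hom_inv_id := by simp [MonObj.comp_mul, GrpObj.comp_inv]
  inv_hom_id := by simp [MonObj.comp_mul]

lemma one_comp_translate {S : Scheme.{u}} (G : Over S) [GrpObj G] (x : 𝟙_ (Over S) ⟶ G) :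
    η[G] ≫ (translate G x).hom = x := by
  simp [translate, MonObj.comp_mul, ← MonObj.one_eq_one]

lemma isMax_homeomorph {X : Scheme.{u}} (φ : X ≃ₜ X) {a : X} (ha : IsMax a) : IsMax (φ a) := fun z hz ↦ by
  have h1 := (Scheme.le_iff_specializes.mp hz).map φ.symm.continuous
  rw [φ.symm_apply_apply] at h1
  have h2 := (Scheme.le_iff_specializes.mp (ha (Scheme.le_iff_specializes.mpr h1))).map φ.continuous
  rw [φ.apply_symm_apply] at h2
  exact Scheme.le_iff_specializes.mpr h2

/-- A point specializes from a single maximal point. -/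
theorem isMax_unique (G : Over (Spec (CommRingCat.of K))) [GrpObj G] {a b x : G.left}
    (ha : IsMax a) (hb : IsMax b) (hxa : x ≤ a) (hxb : x ≤ b) : a = b := by
  let L : Type u := G.left.residueField x
  let t : Spec (CommRingCat.of L) ⟶ Spec (CommRingCat.of K) := G.left.fromSpecResidueField x ≫ G.hom
  let p := pullback.fst G.hom t
  let : GrpObj (Over.mk G.hom) := ‹GrpObj G›
  let : GrpObj (Over.mk (pullback.snd G.hom t)) := Over.grpObjMkPullbackSnd
  let x'' : 𝟙_ (Over (Spec (CommRingCat.of L))) ⟶ Over.mk (pullback.snd G.hom t) :=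
    Over.homMk (pullback.lift (G.left.fromSpecResidueField x) (𝟙 (Spec (CommRingCat.of L))) (Category.id_comp _).symm)
      (pullback.lift_snd _ _ _)
  let x' : ↥(pullback G.hom t) := x''.left (IsLocalRing.closedPoint L)
  have hx' : p x' = x := by
    refine (Scheme.Hom.comp_apply x''.left p _).symm.trans ?_
    have : x''.left ≫ p = G.left.fromSpecResidueField x := pullback.lift_fst _ _ _
    rw [this]
    exact Scheme.fromSpecResidueField_apply _ _
  let φ := leftHomeo (translate (Over.mk (pullback.snd G.hom t)) x'')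
  have hφ : φ (η[Over.mk (pullback.snd G.hom t)].left (IsLocalRing.closedPoint L)) = x' :=
    (Scheme.Hom.comp_apply _ _ _).symm.trans (congrArg (fun ψ : 𝟙_ (Over (Spec (CommRingCat.of L))) ⟶ _ ↦
      ψ.left (IsLocalRing.closedPoint L)) (one_comp_translate (Over.mk (pullback.snd G.hom t)) x''))
  have hlift : ∀ {ξ : G.left}, IsMax ξ → x ≤ ξ → ∃ ξ' : ↥(pullback G.hom t), IsMax ξ' ∧ p ξ' = ξ ∧
      x' ≤ ξ' := by
    intro ξ hξ hle
    have hgen : GeneralizingMap p := Flat.generalizingMap p
    have hsp : ξ ⤳ p x' := hx'.symm ▸ Scheme.le_iff_specializes.mp hle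
    obtain ⟨y, hy, hpy⟩ := hgen hsp
    obtain ⟨ξ₁, hyξ, hmax, hpξ⟩ := exists_isMax_lift p hξ hpy
    exact ⟨ξ₁, hmax, hpξ, (Scheme.le_iff_specializes.mpr hy).trans hyξ⟩
  obtain ⟨a', ha', hpa, hxa'⟩ := hlift ha hxa
  obtain ⟨b', hb', hpb, hxb'⟩ := hlift hb hxb
  have hle : ∀ {c : ↥(pullback G.hom t)}, x' ≤ c →
      η[Over.mk (pullback.snd G.hom t)].left (IsLocalRing.closedPoint L) ≤ φ.symm c := fun hc ↦ by
    have h := (Scheme.le_iff_specializes.mp hc).map φ.symm.continuous
    rw [← hφ, φ.symm_apply_apply] at h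
    exact Scheme.le_iff_specializes.mpr h
  have := isMax_unique_over_unit (Over.mk (pullback.snd G.hom t)) (isMax_homeomorph φ.symm ha')
    (isMax_homeomorph φ.symm hb') (hle hxa') (hle hxb')
  rw [← hpa, ← hpb, φ.symm.injective this]

/-- The closure of a maximal point is geometrically irreducible when it contains the unit. -/
theorem geometricallyIrreducible_component_unit (G : Over (Spec (CommRingCat.of K))) [GrpObj G]
    {Z : Scheme.{u}} (incl : Z ⟶ G.left) [IsClosedImmersion incl] [IrreducibleSpace Z]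
    (hZ : Set.range incl ∈ irreducibleComponents G.left)
    (he : η[G].left (IsLocalRing.closedPoint K) ∈ Set.range incl) :
    GeometricallyIrreducible (incl ≫ G.hom) := by
  let g := Spec.map (CommRingCat.ofHom (algebraMap K (AlgebraicClosure K)))
  have : IsIntegralHom g := IsIntegralHom.SpecMap_iff.mpr (algebraMap_isIntegral_iff.mpr inferInstance)
  have : Surjective g := inferInstance
  suffices hirr : IrreducibleSpace ↥(pullback (incl ≫ G.hom) g) by
    have h := geometricallyIrreducible_of_isSepClosed (pullback.snd (incl ≫ G.hom) g)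
    rw [geometricallyIrreducible_iff] at h ⊢
    exact Flatmor4.geometrically_of_surjective_base_change (P := fun S ↦ IrreducibleSpace S)
      Flatmor4.irreducibleSpace_of_surjective (IsPullback.of_hasPullback _ _) h
  let p := pullback.fst G.hom g
  let : GrpObj (Over.mk G.hom) := ‹GrpObj G›
  let : GrpObj (Over.mk (pullback.snd G.hom g)) := Over.grpObjMkPullbackSnd
  let j : pullback (incl ≫ G.hom) g ⟶ pullback G.hom g :=
    pullback.map _ _ _ _ incl (𝟙 _) (𝟙 _) (by simp) (by simp)
  have hrange : Set.range j = p ⁻¹' Set.range incl := by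
    rw [Scheme.Pullback.range_map]
    simp [p]
  let e' : ↥(pullback G.hom g) :=
    η[Over.mk (pullback.snd G.hom g)].left (IsLocalRing.closedPoint (AlgebraicClosure K))
  have hfib := AlgGrp1.subsingleton_preimage_of_point G.hom g η[G].left (Over.w η[G])
    (IsLocalRing.closedPoint K)
  have he' : p e' = η[G].left (IsLocalRing.closedPoint K) := one_apply_fst G g
  obtain ⟨ξ, hξ⟩ := QuasiSober.sober hZ.1 (isClosed_of_mem_irreducibleComponents _ hZ)
  have hξmax : IsMax ξ := fun z hz ↦ by
    have h1 : Set.range incl ⊆ closure {z} := by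
      rw [← hξ]
      exact closure_minimal (Set.singleton_subset_iff.mpr
        ((Scheme.le_iff_specializes.mp hz).mem_closed isClosed_closure (subset_closure rfl))) isClosed_closure
    exact Scheme.le_iff_specializes.mpr (hξ.specializes
      (hZ.2 isIrreducible_singleton.closure h1 (subset_closure rfl)))
  -- the maximal points over `ξ` have the unit in their closure
  have hmax_e : ∀ {ξ'}, IsMax ξ' → p ξ' = ξ → e' ≤ ξ' := by
    intro ξ' _ hp
    have hmem : η[G].left (IsLocalRing.closedPoint K) ∈ p '' closure {ξ'} :=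
      (hξ.specializes he).mem_closed (p.isClosedMap _ isClosed_closure) ⟨ξ', subset_closure rfl, hp⟩
    obtain ⟨w, hw, hwe⟩ := hmem
    rw [hfib hwe he'] at hw
    exact Scheme.le_iff_specializes.mpr (specializes_iff_mem_closure.mpr hw)
  have hall : ∀ y ∈ Set.range j, ∃ ξ', IsMax ξ' ∧ p ξ' = ξ ∧ y ≤ ξ' := by
    intro y hy
    rw [hrange] at hy
    have hgen : GeneralizingMap p := Flat.generalizingMap p
    obtain ⟨y', hy', hpy'⟩ := hgen (hξ.specializes hy)
    obtain ⟨ξ', hyξ, hmax, hpξ⟩ := exists_isMax_lift p hξmax hpy'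
    exact ⟨ξ', hmax, hpξ, (Scheme.le_iff_specializes.mpr hy').trans hyξ⟩
  have hne : Nonempty ↥(pullback (incl ≫ G.hom) g) := by
    obtain ⟨z, hz⟩ := he
    obtain ⟨w, -⟩ := (pullback.fst (incl ≫ G.hom) g).surjective z
    exact ⟨w⟩
  obtain ⟨y₀⟩ := hne
  obtain ⟨W, hW, hpW, -⟩ := hall (j y₀) ⟨y₀, rfl⟩
  have huniq : ∀ y ∈ Set.range j, y ≤ W := fun y hy ↦ by
    obtain ⟨ξ', hmax, hpξ, hle⟩ := hall y hy
    rwa [← isMax_unique_over_unit (Over.mk (pullback.snd G.hom g)) hmax hW (hmax_e hmax hpξ)
      (hmax_e hW hpW)]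
  obtain ⟨w, hw⟩ : W ∈ Set.range j := by
    rw [hrange]
    show p W ∈ Set.range incl
    rw [hpW]
    exact hξ.mem
  have : IsClosedImmersion j := MorphismProperty.of_isPullback
    (P := @IsClosedImmersion) (isPullback_map_fst G incl g) inferInstance
  have : closure ({w} : Set ↥(pullback (incl ≫ G.hom) g)) = Set.univ := by
    refine Set.eq_univ_of_forall fun y ↦ ?_
    rw [← specializes_iff_mem_closure, ← j.isClosedEmbedding.isInducing.specializes_iff, hw]
    exact Scheme.le_iff_specializes.mp (huniq _ ⟨y, rfl⟩)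
  rw [irreducibleSpace_def]
  refine ⟨⟨y₀, trivial⟩, ?_⟩
  show IsPreirreducible (Set.univ : Set ↥(pullback (incl ≫ G.hom) g))
  rw [← this]
  exact isPreirreducible_singleton.closure

end Groth.GrpschAbsch
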