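import Groth.Agent.GrpschAbsch.H0General

set_option autoImplicit false

/-!
The rigidity lemma over an arbitrary base: if `ξ_* O_X = O_S` and `ξ` is proper then the collapsed
locus of a morphism is open and the morphism descends over it; it is closed for `ξ` flat, finitely
presented and separated target.
-/

universe u

open CategoryTheory CategoryTheory.Limits AlgebraicGeometry
open Groth.GrpschAbsch

namespace Groth.GrpschAbsch.RigidGen

variable {X Y S : Scheme.{u}}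

theorem ext_of_affine (ξ : X ⟶ S) [IsAffine Y] (hinj : Function.Injective ξ.appTop.hom)
    (a b : S ⟶ Y) (h : ξ ≫ a = ξ ≫ b) : a = b := by
  refine ext_of_isAffine (CommRingCat.hom_ext (RingHom.ext fun r ↦ hinj ?_))
  have h' := congrArg (fun φ : X ⟶ Y ↦ φ.appTop) h
  simp only [Scheme.Hom.comp_appTop] at h'
  exact DFunLike.congr_fun (congrArg CommRingCat.Hom.hom h') r

theorem ext_of_app_injective (ξ : X ⟶ S) [Surjective ξ]
    (hinj : ∀ U : S.Opens, Function.Injective (ξ.app U).hom)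
    (a b : S ⟶ Y) (h : ξ ≫ a = ξ ≫ b) : a = b := by
  have hpt : ∀ t, a t = b t := fun t ↦ by
    obtain ⟨x, rfl⟩ := ξ.surjective t
    rw [← Scheme.Hom.comp_apply, h, Scheme.Hom.comp_apply]
  refine Scheme.hom_ext_of_forall _ _ fun t ↦ ?_
  obtain ⟨_, ⟨V', hV, rfl⟩, htV, -⟩ :=
    Y.isBasis_affineOpens.exists_subset_of_mem_open (Set.mem_univ (a t)) isOpen_univ
  let V : Y.Opens := V'
  have : IsAffine V.toScheme := hV
  let U := a ⁻¹ᵁ V
  have hb : U ≤ b ⁻¹ᵁ V := fun x hx ↦ by show b x ∈ V; rw [← hpt]; exact hx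
  refine ⟨U, htV, ?_⟩
  have hi : Function.Injective (ξ ∣_ U).appTop.hom := by
    rw [morphismRestrict_appTop]
    intro r r' hr
    have hb := (ConcreteCategory.bijective_of_isIso
      (X.presheaf.map (eqToHom (image_morphismRestrict_preimage ξ U ⊤)).op)).1
    have he := @hb ((ξ.app (U.ι ''ᵁ ⊤)).hom r) ((ξ.app (U.ι ''ᵁ ⊤)).hom r') hr
    exact hinj _ he
  have he := ext_of_affine (ξ ∣_ U) hi (a.resLE V U le_rfl) (b.resLE V U hb) (by
    rw [← cancel_mono V.ι]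
    simp only [Category.assoc, Scheme.Hom.resLE_comp_ι, morphismRestrict_ι_assoc, h])
  have := congrArg (fun φ ↦ φ ≫ V.ι) he
  simpa only [Scheme.Hom.resLE_comp_ι] using this

/-- `σ` descends `f` over `W`. -/
def IsDesc (ξ : X ⟶ S) (f : X ⟶ Y) (W : S.Opens) (σ : W.toScheme ⟶ Y) : Prop :=
  (ξ ∣_ W) ≫ σ = (ξ ⁻¹ᵁ W).ι ≫ f

theorem IsDesc.mono {ξ : X ⟶ S} {f : X ⟶ Y} {W W' : S.Opens} {σ : W.toScheme ⟶ Y}
    (h : IsDesc ξ f W σ) (le : W' ≤ W) : IsDesc ξ f W' (S.homOfLE le ≫ σ) := by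
  have : (ξ ∣_ W') ≫ S.homOfLE le = X.homOfLE ((TopologicalSpace.Opens.map ξ.base).map (homOfLE le)).le ≫ (ξ ∣_ W) := by
    rw [← cancel_mono W.ι]
    simp
  unfold IsDesc at *
  rw [reassoc_of% this, h, Scheme.homOfLE_ι_assoc]

variable (ξ : X ⟶ S) [Surjective ξ] (h0 : ∀ U : S.Opens, Function.Bijective (ξ.app U).hom)

include h0 in
theorem IsDesc.unique {f : X ⟶ Y} {W : S.Opens} {σ σ' : W.toScheme ⟶ Y}
    (h : IsDesc ξ f W σ) (h' : IsDesc ξ f W σ') : σ = σ' := by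
  have : Surjective (ξ ∣_ W) := IsZariskiLocalAtTarget.restrict (P := @Surjective) ‹_› W
  refine ext_of_app_injective (ξ ∣_ W) (fun U ↦ ?_) σ σ' (h.trans h'.symm)
  rw [morphismRestrict_app]
  exact (ConcreteCategory.bijective_of_isIso (X.presheaf.map _)).1.comp (h0 _).1

omit [Surjective ξ] in
/-- A descent forces the fibres to be collapsed. -/
theorem IsDesc.subset_collapseSet {f : X ⟶ Y} {W : S.Opens} {σ : W.toScheme ⟶ Y} (h : IsDesc ξ f W σ) :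
    (W : Set S) ⊆ Rigid.collapseSet ξ f := by
  intro t ht
  suffices H : ∀ x, ξ x = t → f x = σ ⟨t, ht⟩ by
    rintro _ ⟨x₁, hx₁, rfl⟩ _ ⟨x₂, hx₂, rfl⟩
    rw [H x₁ hx₁, H x₂ hx₂]
  intro x hx
  have hxW : x ∈ ξ ⁻¹ᵁ W := show ξ x ∈ W by rw [hx]; exact ht
  have := congrArg (fun φ : (ξ ⁻¹ᵁ W).toScheme ⟶ Y ↦ φ ⟨x, hxW⟩) h
  simp only [Scheme.Hom.comp_apply] at this
  rw [show (ξ ∣_ W) ⟨x, hxW⟩ = ⟨t, ht⟩ from Subtype.ext (by
    refine (congrArg (fun φ : (ξ ⁻¹ᵁ W).toScheme ⟶ S ↦ φ ⟨x, hxW⟩) (morphismRestrict_ι ξ W)).trans ?_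
    exact hx)] at this
  exact this.symm

include h0 in
theorem exists_desc_nhd [UniversallyClosed ξ] (f : X ⟶ Y) {s : S}
    (hs : s ∈ Rigid.collapseSet ξ f) :
    ∃ (W : S.Opens) (σ : W.toScheme ⟶ Y), s ∈ W ∧ IsDesc ξ f W σ := by
  obtain ⟨x₀, hx₀⟩ := ξ.surjective s
  let y := f x₀
  have hy : ∀ x : X, ξ x = s → f x = y := fun x hx ↦ hs ⟨x, hx, rfl⟩ ⟨x₀, hx₀, rfl⟩
  obtain ⟨_, ⟨V', hV, rfl⟩, hyV, -⟩ :=
    Y.isBasis_affineOpens.exists_subset_of_mem_open (Set.mem_univ y) isOpen_univ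
  let V : Y.Opens := V'
  have : IsAffine V.toScheme := hV
  let W : S.Opens := ⟨(ξ '' ((f ⁻¹ᵁ V : X.Opens) : Set X)ᶜ)ᶜ,
    (ξ.isClosedMap _ (f ⁻¹ᵁ V).isOpen.isClosed_compl).isOpen_compl⟩
  have hsW : s ∈ W := fun ⟨x, hx, hxs⟩ ↦ hx (by show f x ∈ V; rw [hy x hxs]; exact hyV)
  have hle : ξ ⁻¹ᵁ W ≤ f ⁻¹ᵁ V := fun x hx ↦ by_contra fun h ↦ hx ⟨x, h, rfl⟩
  let g := f.resLE V (ξ ⁻¹ᵁ W) hle
  have : IsIso (ξ ∣_ W).appTop := by
    rw [ConcreteCategory.isIso_iff_bijective, morphismRestrict_appTop]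
    exact (ConcreteCategory.bijective_of_isIso (X.presheaf.map _)).comp (h0 _)
  refine ⟨W, W.toScheme.toSpecΓ ≫ Spec.map (g.appTop ≫ inv (ξ ∣_ W).appTop) ≫
    V.toScheme.isoSpec.inv ≫ V.ι, hsW, ?_⟩
  unfold IsDesc
  rw [Scheme.toSpecΓ_naturality_assoc, ← Spec.map_comp_assoc, Category.assoc, IsIso.inv_hom_id,
    Category.comp_id, ← Scheme.toSpecΓ_naturality_assoc, Scheme.toSpecΓ_isoSpec_inv_assoc,
    Scheme.Hom.resLE_comp_ι]

include h0 in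
theorem isOpen_collapseSet [UniversallyClosed ξ] (f : X ⟶ Y) : IsOpen (Rigid.collapseSet ξ f) := by
  refine isOpen_iff_forall_mem_open.mpr fun s hs ↦ ?_
  obtain ⟨W, σ, hsW, hσ⟩ := exists_desc_nhd ξ h0 f hs
  exact ⟨W, hσ.subset_collapseSet ξ, W.isOpen, hsW⟩

include h0 in
/-- The morphism descends over every open of collapsed fibres. -/
theorem exists_desc [UniversallyClosed ξ] (f : X ⟶ Y) (O₀ : S.Opens) (hO₀ : (O₀ : Set S) ⊆ Rigid.collapseSet ξ f) :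
    ∃ σ : O₀.toScheme ⟶ Y, IsDesc ξ f O₀ σ := by
  choose W σ hsW hσ using fun s : O₀ ↦ exists_desc_nhd ξ h0 f (hO₀ s.2)
  let 𝒰 := Scheme.Opens.iSupOpenCover W
  let O : S.Opens := ⨆ i, W i
  let ς : O.toScheme ⟶ Y := 𝒰.glueMorphisms σ fun i j ↦ by
    let p : pullback (S.homOfLE (le_iSup W i)) (S.homOfLE (le_iSup W j)) ⟶ S := pullback.fst _ _ ≫ (W i).ι
    have hp : p = pullback.snd (S.homOfLE (le_iSup W i)) (S.homOfLE (le_iSup W j)) ≫ (W j).ι := by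
      simp only [p, ← Scheme.homOfLE_ι S (le_iSup W i), ← Scheme.homOfLE_ι S (le_iSup W j)]
      exact pullback.condition_assoc _
    let l := IsOpenImmersion.lift (W i ⊓ W j).ι p (by
      rw [Scheme.Opens.range_ι]
      rintro _ ⟨z, rfl⟩
      refine ⟨(pullback.fst (S.homOfLE (le_iSup W i)) (S.homOfLE (le_iSup W j)) z).2, ?_⟩
      rw [hp]
      exact (pullback.snd (S.homOfLE (le_iSup W i)) (S.homOfLE (le_iSup W j)) z).2)
    have h1 : pullback.fst (S.homOfLE (le_iSup W i)) (S.homOfLE (le_iSup W j)) = l ≫ S.homOfLE inf_le_left := by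
      rw [← cancel_mono (W i).ι, Category.assoc, Scheme.homOfLE_ι, IsOpenImmersion.lift_fac]
    have h2 : pullback.snd (S.homOfLE (le_iSup W i)) (S.homOfLE (le_iSup W j)) = l ≫ S.homOfLE inf_le_right := by
      rw [← cancel_mono (W j).ι, Category.assoc, Scheme.homOfLE_ι, IsOpenImmersion.lift_fac, hp]
    show pullback.fst (S.homOfLE (le_iSup W i)) (S.homOfLE (le_iSup W j)) ≫ σ i =
      pullback.snd (S.homOfLE (le_iSup W i)) (S.homOfLE (le_iSup W j)) ≫ σ j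
    rw [h1, h2, Category.assoc, Category.assoc, ((hσ i).mono inf_le_left).unique ξ h0 ((hσ j).mono inf_le_right)]
  have hς : IsDesc ξ f O ς := by
    refine Scheme.hom_ext_of_forall _ _ fun x ↦ ?_
    obtain ⟨i, hi⟩ := TopologicalSpace.Opens.mem_iSup.mp (show ξ x.1 ∈ O from x.2)
    refine ⟨(ξ ⁻¹ᵁ O).ι ⁻¹ᵁ (ξ ⁻¹ᵁ W i), hi, ?_⟩
    let l := IsOpenImmersion.lift (ξ ⁻¹ᵁ W i).ι (((ξ ⁻¹ᵁ O).ι ⁻¹ᵁ (ξ ⁻¹ᵁ W i)).ι ≫ (ξ ⁻¹ᵁ O).ι) (by
      rw [Scheme.Opens.range_ι]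
      rintro _ ⟨⟨z, hz⟩, rfl⟩
      exact hz)
    have hl : ((ξ ⁻¹ᵁ O).ι ⁻¹ᵁ (ξ ⁻¹ᵁ W i)).ι ≫ (ξ ∣_ O) = l ≫ (ξ ∣_ W i) ≫ S.homOfLE (le_iSup W i) := by
      rw [← cancel_mono O.ι]
      simp [l, O, IsOpenImmersion.lift_fac_assoc]
    have hi' : S.homOfLE (le_iSup W i) ≫ ς = σ i := 𝒰.ι_glueMorphisms _ _ i
    rw [reassoc_of% hl, hi', hσ i, IsOpenImmersion.lift_fac_assoc, Category.assoc]
  have hle : O₀ ≤ O := fun s hs ↦ TopologicalSpace.Opens.mem_iSup.mpr ⟨⟨s, hs⟩, hsW _⟩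
  exact ⟨_, hς.mono hle⟩

include h0 in
/-- If all fibres are collapsed the morphism descends. -/
theorem exists_desc_top [UniversallyClosed ξ] (f : X ⟶ Y) (hs : ∀ s, s ∈ Rigid.collapseSet ξ f) :
    ∃ σ : S ⟶ Y, ξ ≫ σ = f := by
  obtain ⟨σ, hσ⟩ := exists_desc ξ h0 f ⊤ fun s _ ↦ hs s
  refine ⟨S.topIso.inv ≫ σ, ?_⟩
  have : IsIso (ξ ⁻¹ᵁ (⊤ : S.Opens)).ι := by
    rw [Scheme.Hom.preimage_top, ← Scheme.topIso_hom]; infer_instance
  rw [← cancel_epi (ξ ⁻¹ᵁ (⊤ : S.Opens)).ι]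
  unfold IsDesc at hσ
  rw [← hσ, ← morphismRestrict_ι_assoc, ← Scheme.topIso_hom, Iso.hom_inv_id_assoc]

include h0 in
/-- The collapsed locus is closed for a separated target. -/
theorem isClosed_collapseSet [UniversallyClosed ξ] [Flat ξ] [LocallyOfFinitePresentation ξ]
    (f : X ⟶ Y) {B : Scheme.{u}} (v : Y ⟶ B) [IsSeparated v] (u : S ⟶ B) (hf : f ≫ v = ξ ≫ u) :
    IsClosed (Rigid.collapseSet ξ f) := by
  let q : pullback ξ ξ ⟶ pullback v v := pullback.lift (pullback.fst ξ ξ ≫ f) (pullback.snd ξ ξ ≫ f)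
    (by rw [Category.assoc, Category.assoc, hf, pullback.condition_assoc])
  let E : Set ↥(pullback ξ ξ) := Set.range (pullback.fst q (pullback.diagonal v))
  have hEc : IsClosed E := (pullback.fst q (pullback.diagonal v)).isClosedMap.isClosed_range
  have hopen : IsOpenMap (pullback.fst ξ ξ ≫ ξ) := (pullback.fst ξ ξ ≫ ξ).isOpenMap
  suffices Rigid.collapseSet ξ f = ((pullback.fst ξ ξ ≫ ξ) '' Eᶜ)ᶜ by
    rw [this]
    exact (hopen _ hEc.isOpen_compl).isClosed_compl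
  refine Set.ext fun s ↦ ⟨fun hs ↦ ?_, fun hs ↦ ?_⟩
  · rintro ⟨z, hz, hzs⟩
    obtain ⟨W, σ, hsW, hσ⟩ := exists_desc_nhd ξ h0 f hs
    let O : (pullback ξ ξ).Opens := (pullback.fst ξ ξ ≫ ξ) ⁻¹ᵁ W
    have key : ∀ a : O.toScheme ⟶ X, a ≫ ξ = O.ι ≫ pullback.fst ξ ξ ≫ ξ →
        ∃ t : O.toScheme ⟶ W.toScheme, t ≫ W.ι = O.ι ≫ pullback.fst ξ ξ ≫ ξ ∧ a ≫ f = t ≫ σ := by
      intro a ha
      let a' := IsOpenImmersion.lift (ξ ⁻¹ᵁ W).ι a (by
        rw [Scheme.Opens.range_ι]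
        rintro _ ⟨w, rfl⟩
        show ξ (a w) ∈ W
        rw [← Scheme.Hom.comp_apply, ha]
        exact w.2)
      refine ⟨a' ≫ (ξ ∣_ W), by rw [Category.assoc, morphismRestrict_ι, IsOpenImmersion.lift_fac_assoc, ha], ?_⟩
      rw [Category.assoc, hσ, IsOpenImmersion.lift_fac_assoc]
    obtain ⟨t₁, ht₁, he₁⟩ := key (O.ι ≫ pullback.fst ξ ξ) (Category.assoc _ _ _)
    obtain ⟨t₂, ht₂, he₂⟩ := key (O.ι ≫ pullback.snd ξ ξ) (by rw [Category.assoc, ← pullback.condition])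
    obtain rfl : t₁ = t₂ := (cancel_mono W.ι).mp (ht₁.trans ht₂.symm)
    have heq : O.ι ≫ pullback.fst ξ ξ ≫ f = O.ι ≫ pullback.snd ξ ξ ≫ f := by
      rw [← Category.assoc, he₁, ← Category.assoc, he₂]
    have hzO : z ∈ O := show (pullback.fst ξ ξ ≫ ξ) z ∈ W by rw [hzs]; exact hsW
    refine hz ⟨(pullback.lift O.ι (O.ι ≫ pullback.fst ξ ξ ≫ f) ?_ : O.toScheme ⟶ _) ⟨z, hzO⟩, ?_⟩
    · apply pullback.hom_ext
      · simp only [q, Category.assoc, pullback.lift_fst, pullback.diagonal_fst, Category.comp_id]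
      · simp only [q, Category.assoc, pullback.lift_snd, pullback.diagonal_snd, Category.comp_id, heq]
    · rw [← Scheme.Hom.comp_apply, pullback.lift_fst]
      rfl
  · rintro _ ⟨x₁, hx₁, rfl⟩ _ ⟨x₂, hx₂, rfl⟩
    obtain ⟨z, hz₁, hz₂⟩ := Scheme.Pullback.exists_preimage_pullback x₁ x₂ (f := ξ) (g := ξ) (hx₁.trans hx₂.symm)
    obtain ⟨w, hw⟩ : z ∈ E := by
      by_contra hzE
      refine hs ⟨z, hzE, ?_⟩
      rw [Scheme.Hom.comp_apply, hz₁]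
      exact hx₁
    have h1 := congrArg (· ≫ pullback.fst v v) (pullback.condition (f := q) (g := pullback.diagonal v))
    have h2 := congrArg (· ≫ pullback.snd v v) (pullback.condition (f := q) (g := pullback.diagonal v))
    simp only [q, Category.assoc, pullback.lift_fst, pullback.lift_snd, pullback.diagonal_fst,
      pullback.diagonal_snd, Category.comp_id] at h1 h2
    have h3 := congrArg (fun φ : pullback q (pullback.diagonal v) ⟶ Y ↦ φ w) (h1.trans h2.symm)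
    simp only [Scheme.Hom.comp_apply] at h3
    rw [hw, hz₁, hz₂] at h3
    exact h3

end Groth.GrpschAbsch.RigidGen
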