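import Mathlib
import Groth.Agent.GrpschAbsch.RigidityGen
import Groth.Agent.Flatmor4.FibreIsoLocus
import Groth.Agent.Abvar.AlgClosedAux
import Groth.Agent.GrpschAbsch.FieldComp
import Groth.Agent.AlgSp3.ImmersionImage

/-!
# Unital multiplications on proper flat schemes with geometrically integral fibres
-/

set_option autoImplicit false

universe u

open CategoryTheory CategoryTheory.Limits AlgebraicGeometry
open MonoidalCategory CartesianMonoidalCategory

noncomputable section

namespace Groth.GrpschAbsch.UnitalMul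

open Groth.GrpschAbsch

variable {S : Scheme.{u}}

theorem isPullback_lift_section (A B : Over S) (e : 𝟙_ (Over S) ⟶ A) :
    IsPullback (lift (toUnit B ≫ e) (𝟙 B)).left B.hom (fst A B).left e.left := by
  let i : B ⟶ A ⊗ B := lift (toUnit B ≫ e) (𝟙 B)
  have he : e.left ≫ A.hom = 𝟙 S := Over.w e
  show IsPullback i.left B.hom (pullback.fst A.hom B.hom) e.left
  refine IsPullback.of_right ?_ ?_ (IsPullback.of_hasPullback A.hom B.hom).flip
  · have hi : i.left ≫ pullback.snd A.hom B.hom = 𝟙 B.left :=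
      congr(($(lift_snd (toUnit B ≫ e) (𝟙 B))).left)
    rw [hi, he]
    exact IsPullback.of_horiz_isIso ⟨by simp⟩
  · exact congr(($(lift_fst (toUnit B ≫ e) (𝟙 B))).left)

/-- Rigidity: a morphism collapsing one slice factors through the projection. -/
theorem eq_fst_comp_of_slice (A B Y : Over S) [GeometricallyConnected A.hom]
    [IsProper B.hom] [Flat B.hom] [LocallyOfFinitePresentation B.hom]
    [GeometricallyReduced B.hom] [GeometricallyConnected B.hom] [IsSeparated Y.hom]
    (a : 𝟙_ (Over S) ⟶ A) (b : 𝟙_ (Over S) ⟶ B) (y : 𝟙_ (Over S) ⟶ Y) (d : A ⊗ B ⟶ Y)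
    (h₁ : lift (toUnit B ≫ a) (𝟙 B) ≫ d = toUnit B ≫ y) :
    d = fst A B ≫ lift (𝟙 A) (toUnit A ≫ b) ≫ d := by
  let ξ : (A ⊗ B).left ⟶ A.left := (fst A B).left
  have : IsProper ξ := inferInstanceAs (IsProper (pullback.fst A.hom B.hom))
  have : Flat ξ := inferInstanceAs (Flat (pullback.fst A.hom B.hom))
  have : LocallyOfFinitePresentation ξ := inferInstanceAs (LocallyOfFinitePresentation (pullback.fst A.hom B.hom))
  have : GeometricallyReduced ξ := inferInstanceAs (GeometricallyReduced (pullback.fst A.hom B.hom))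
  have : GeometricallyConnected ξ := MorphismProperty.pullback_fst (P := @GeometricallyConnected) A.hom B.hom ‹_›
  have h0 := H0General.app_bijective ξ
  have hd : d.left ≫ Y.hom = ξ ≫ A.hom := by rw [Over.w d, Over.w (fst A B)]
  let i : B ⟶ A ⊗ B := lift (toUnit B ≫ a) (𝟙 B)
  have ha : a.left ≫ A.hom = 𝟙 S := Over.w a
  have sq : IsPullback i.left B.hom ξ a.left := isPullback_lift_section A B a
  have hcol : ∀ s, a.left s ∈ Rigid.collapseSet ξ d.left := by
    intro s
    have hpt : ∀ z, ξ z = a.left s → d.left z = y.left s := by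
      intro z hz
      obtain ⟨w, hw₁, hw₂⟩ := Scheme.Pullback.exists_preimage_pullback z s (f := ξ) (g := a.left) hz
      have h : d.left (i.left (sq.isoPullback.inv w)) = (toUnit B ≫ y).left (sq.isoPullback.inv w) :=
        (Scheme.Hom.comp_apply i.left d.left _).symm.trans congr(($h₁).left (sq.isoPullback.inv w))
      rw [← Scheme.Hom.comp_apply sq.isoPullback.inv i.left, sq.isoPullback_inv_fst, hw₁] at h
      refine h.trans ?_
      show y.left (B.hom (sq.isoPullback.inv w)) = _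
      rw [← Scheme.Hom.comp_apply sq.isoPullback.inv, sq.isoPullback_inv_snd, hw₂]
    rintro _ ⟨z₁, hz₁, rfl⟩ _ ⟨z₂, hz₂, rfl⟩
    rw [hpt z₁ hz₁, hpt z₂ hz₂]
  have hop := RigidGen.isOpen_collapseSet ξ h0 d.left
  have hcl := RigidGen.isClosed_collapseSet ξ h0 d.left Y.hom A.hom hd
  have hall : ∀ p, p ∈ Rigid.collapseSet ξ d.left := by
    intro p
    have hconn : _root_.IsPreconnected (A.hom ⁻¹' {A.hom p}) :=
      (A.hom.isConnected_preimage_singleton (A.hom p)).isPreconnected
    have hmem : a.left (A.hom p) ∈ A.hom ⁻¹' {A.hom p} := by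
      show A.hom (a.left (A.hom p)) = A.hom p
      rw [← Scheme.Hom.comp_apply, ha]
      rfl
    exact hconn.subset_isClopen ⟨hcl, hop⟩ ⟨_, hmem, hcol _⟩ rfl
  obtain ⟨σ, hσ⟩ := RigidGen.exists_desc_top ξ h0 d.left hall
  have hσ1 : σ = (lift (𝟙 A) (toUnit A ≫ b) ≫ d).left := by
    have h3 : (lift (𝟙 A) (toUnit A ≫ b)).left ≫ ξ = 𝟙 A.left :=
      congr(($(lift_fst (𝟙 A) (toUnit A ≫ b))).left)
    rw [Over.comp_left, ← hσ, reassoc_of% h3]
  refine Over.OverMorphism.ext ?_
  rw [← hσ, hσ1]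
  rfl

theorem geometricallyConnected_of_geometricallyIrreducible {X Y : Scheme.{u}} (f : X ⟶ Y)
    [GeometricallyIrreducible f] : GeometricallyConnected f :=
  ⟨fun K _ y P p q sq => by
    have : IrreducibleSpace P := GeometricallyIrreducible.geometrically_irreducibleSpace (f := f) y p q sq
    infer_instance⟩

/-- Being an isomorphism on the fibre over a point can be tested over any field valued point. -/
theorem isIso_iff_isIso_fiberMap {Z X W : Scheme.{u}} (g : Z ⟶ X) (σ : Z ⟶ Z) (hσ : σ ≫ g = g)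
    {K : Type u} [Field K] (p : Spec (CommRingCat.of K) ⟶ X) (j : W ⟶ Z) (q : W ⟶ Spec (CommRingCat.of K))
    (sq : IsPullback j q g p) (l : W ⟶ W) (hl : l ≫ q = q) (hlj : l ≫ j = j ≫ σ) :
    IsIso l ↔ IsIso (MoreMor.fiberMap σ g (p (IsLocalRing.closedPoint K))) := by
  let x := p (IsLocalRing.closedPoint K)
  let ι : Spec (CommRingCat.of K) ⟶ Spec (X.residueField x) :=
    Spec.map (Scheme.descResidueField (Scheme.stalkClosedPointTo p))
  have hι : ι ≫ X.fromSpecResidueField x = p := X.descResidueField_stalkClosedPointTo_fromSpecResidueField K p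
  have sq1 : IsPullback j q (σ ≫ g) p := hσ.symm ▸ sq
  let r₁ : W ⟶ pullback (σ ≫ g) (X.fromSpecResidueField x) := pullback.lift j (q ≫ ι) (by rw [Category.assoc, hι]; exact sq1.w)
  let r₂ : W ⟶ pullback g (X.fromSpecResidueField x) := pullback.lift j (q ≫ ι) (by rw [Category.assoc, hι]; exact sq.w)
  let φ : pullback (σ ≫ g) (X.fromSpecResidueField x) ⟶ pullback g (X.fromSpecResidueField x) :=
    MoreMor.fiberMap σ g x
  have hφ₂ : φ ≫ pullback.snd g (X.fromSpecResidueField x) = pullback.snd (σ ≫ g) _ := pullback.lift_snd _ _ _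
  have hφ₁ : φ ≫ pullback.fst g (X.fromSpecResidueField x) = pullback.fst (σ ≫ g) _ ≫ σ := pullback.lift_fst _ _ _
  have P₁ : IsPullback r₁ q (pullback.snd (σ ≫ g) (X.fromSpecResidueField x)) ι := by
    refine IsPullback.of_right ?_ (pullback.lift_snd _ _ _) (IsPullback.of_hasPullback _ _)
    rw [pullback.lift_fst, hι]
    exact sq1
  have P₂ : IsPullback r₂ q (pullback.snd g (X.fromSpecResidueField x)) ι := by
    refine IsPullback.of_right ?_ (pullback.lift_snd _ _ _) (IsPullback.of_hasPullback _ _)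
    rw [pullback.lift_fst, hι]
    exact sq
  have hw : r₁ ≫ φ = l ≫ r₂ := by
    refine pullback.hom_ext ?_ ?_
    · rw [Category.assoc, hφ₁, pullback.lift_fst_assoc, Category.assoc, pullback.lift_fst, hlj]
    · rw [Category.assoc, hφ₂, pullback.lift_snd, Category.assoc, pullback.lift_snd, reassoc_of% hl]
  have P₃ : IsPullback r₁ l φ r₂ := by
    refine IsPullback.of_bot ?_ hw P₂
    rw [hφ₂, hl]
    exact P₁
  constructor
  · intro hiso
    have hr : (@Surjective ⊓ @Flat ⊓ @QuasiCompact : MorphismProperty Scheme.{u}) r₂ := by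
      have h1 : (@Surjective ⊓ @Flat ⊓ @QuasiCompact : MorphismProperty Scheme.{u}) ι := by
        refine ⟨⟨⟨fun t => ⟨IsLocalRing.closedPoint K, ?_⟩⟩, ?_⟩, inferInstance⟩
        · exact Subsingleton.elim _ _
        · exact (HasRingHomProperty.Spec_iff (P := @Flat)).2 (by
            letI := (Scheme.descResidueField (Scheme.stalkClosedPointTo p)).hom.toAlgebra
            exact RingHom.flat_algebraMap_iff.2 inferInstance)
      exact ⟨⟨MorphismProperty.of_isPullback P₂.flip h1.1.1, MorphismProperty.of_isPullback P₂.flip h1.1.2⟩,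
        MorphismProperty.of_isPullback P₂.flip h1.2⟩
    exact MorphismProperty.of_isPullback_of_descendsAlong (P := MorphismProperty.isomorphisms Scheme.{u})
      P₃.flip hr (show IsIso l from hiso)
  · intro hiso
    exact MorphismProperty.of_isPullback (P := MorphismProperty.isomorphisms Scheme.{u}) P₃
      (show IsIso φ from hiso)

section Mul

variable {X : Over S}

/-- Translation by a point. -/
def transl (m : X ⊗ X ⟶ X) (a : 𝟙_ (Over S) ⟶ X) : X ⟶ X := lift (toUnit X ≫ a) (𝟙 X) ≫ m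

/-- The shear morphism. -/
def shear (m : X ⊗ X ⟶ X) : X ⊗ X ⟶ X ⊗ X := lift (fst X X) m

theorem shear_left_fst (m : X ⊗ X ⟶ X) : (shear m).left ≫ (fst X X).left = (fst X X).left :=
  congr(($(lift_fst (fst X X) m)).left)

theorem lift_shear {T : Over S} (m : X ⊗ X ⟶ X) (f g : T ⟶ X) :
    lift f g ≫ shear m = lift f (lift f g ≫ m) := by
  rw [shear, comp_lift, lift_fst]

theorem transl_comp_lift (m : X ⊗ X ⟶ X) (a : 𝟙_ (Over S) ⟶ X) :
    transl m a ≫ lift (toUnit X ≫ a) (𝟙 X) = lift (toUnit X ≫ a) (𝟙 X) ≫ shear m := by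
  rw [comp_lift, lift_shear, ← Category.assoc, toUnit_unique (transl m a ≫ toUnit X) (toUnit X),
    Category.comp_id]
  rfl

theorem comp_transl (m : X ⊗ X ⟶ X) (a : 𝟙_ (Over S) ⟶ X) {T : Over S} (g : T ⟶ X) :
    g ≫ transl m a = lift (toUnit T ≫ a) g ≫ m := by
  rw [transl, ← Category.assoc, comp_lift, Category.comp_id, ← Category.assoc,
    toUnit_unique (g ≫ toUnit X) (toUnit T)]

end Mul

section Field

open IsLocalRing

variable {k : Type u} [Field k] [IsAlgClosed k]

local notation "Sk" => Spec (CommRingCat.of k)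

theorem ext_point {X : Over (Sk)} [LocallyOfFiniteType X.hom] {a b : 𝟙_ (Over (Sk)) ⟶ X}
    (h : a.left (closedPoint k) = b.left (closedPoint k)) : a = b :=
  Over.OverMorphism.ext (ext_of_apply_closedPoint_eq X.hom (Over.w a) (Over.w b) h)

/-- All translations of a proper variety with a unital multiplication are automorphisms. -/
theorem isIso_transl (X : Over (Sk)) [IsProper X.hom] [GeometricallyIntegral X.hom]
    (e : 𝟙_ (Over (Sk)) ⟶ X) (m : X ⊗ X ⟶ X)
    (h₁ : lift (𝟙 X) (toUnit X ≫ e) ≫ m = 𝟙 X) (h₂ : lift (toUnit X ≫ e) (𝟙 X) ≫ m = 𝟙 X)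
    (a : 𝟙_ (Over (Sk)) ⟶ X) : IsIso (transl m a) := by
  have := LocallyOfFiniteType.isLocallyNoetherian X.hom
  have hint : IsIntegral X.left := GeometricallyIntegral.isIntegral_of_subsingleton X.hom
  have : JacobsonSpace X.left := LocallyOfFiniteType.jacobsonSpace X.hom
  let g : (X ⊗ X).left ⟶ X.left := (fst X X).left
  let σ : (X ⊗ X).left ⟶ (X ⊗ X).left := (shear m).left
  have hσ : σ ≫ g = g := shear_left_fst m
  have : IsProper g := inferInstanceAs (IsProper (pullback.fst X.hom X.hom))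
  have : Flat g := inferInstanceAs (Flat (pullback.fst X.hom X.hom))
  have : LocallyOfFinitePresentation g := inferInstanceAs (LocallyOfFinitePresentation (pullback.fst X.hom X.hom))
  obtain ⟨U, hU, hUiso⟩ := @Groth.Flatmor4.exists_open_fibreIso _ _ _ σ g (hσ.symm ▸ inferInstance)
    (hσ.symm ▸ inferInstance) (hσ.symm ▸ inferInstance) inferInstance inferInstance
  have hcrit : ∀ b : 𝟙_ (Over (Sk)) ⟶ X, IsIso (transl m b) ↔ b.left (closedPoint k) ∈ U := by
    intro b
    rw [hU]
    refine Iff.trans ?_ (isIso_iff_isIso_fiberMap g σ hσ b.left (lift (toUnit X ≫ b) (𝟙 X)).left X.hom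
      (isPullback_lift_section X X b) (transl m b).left (Over.w _) congr(($(transl_comp_lift m b)).left))
    exact (isIso_iff_of_reflects_iso _ (Over.forget _)).symm
  have htre : transl m e = 𝟙 X := h₂
  have heU : e.left (closedPoint k) ∈ U := (hcrit e).1 (by rw [htre]; infer_instance)
  -- the graph of the inversion over `U`
  let Uo : Over (Sk) := Over.mk (U.ι ≫ X.hom)
  let ιU : Uo ⟶ X := Over.homMk U.ι rfl
  let t₀ : Uo ⟶ X ⊗ X := lift ιU (toUnit Uo ≫ e)
  have ht₀ : t₀.left ≫ g = U.ι := congr(($(lift_fst ιU (toUnit Uo ≫ e))).left)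
  let j : U.toScheme ⟶ (g ⁻¹ᵁ U).toScheme := IsOpenImmersion.lift (g ⁻¹ᵁ U).ι t₀.left (by
    rw [Scheme.Opens.range_ι]
    rintro _ ⟨w, rfl⟩
    show g (t₀.left w) ∈ U
    rw [← Scheme.Hom.comp_apply, ht₀]
    exact w.2)
  have hj : j ≫ (g ⁻¹ᵁ U).ι = t₀.left := IsOpenImmersion.lift_fac _ _ _
  let c₀ : U.toScheme ⟶ (X ⊗ X).left := j ≫ inv (σ ∣_ (g ⁻¹ᵁ U)) ≫ (σ ⁻¹ᵁ (g ⁻¹ᵁ U)).ι
  have hc₀σ : c₀ ≫ σ = t₀.left := by
    simp only [c₀, Category.assoc, ← morphismRestrict_ι, IsIso.inv_hom_id_assoc, hj]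
  let c : Uo ⟶ X ⊗ X := Over.homMk c₀ (by
    rw [← Over.w (shear m), ← Category.assoc]
    show (c₀ ≫ σ) ≫ _ = _
    rw [hc₀σ]
    exact Over.w t₀)
  have hcσ : c ≫ shear m = t₀ := Over.OverMorphism.ext hc₀σ
  have hc1 : c ≫ fst X X = ιU := by
    have := congrArg (· ≫ fst X X) hcσ
    simpa only [Category.assoc, shear, t₀, lift_fst] using this
  have hc2 : c ≫ m = toUnit Uo ≫ e := by
    have := congrArg (· ≫ snd X X) hcσ
    simpa only [Category.assoc, shear, t₀, lift_snd] using this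
  -- its closure
  let Γ : Over (Sk) := Over.mk (c.left.imageι ≫ (X ⊗ X).hom)
  let cl : Γ ⟶ X ⊗ X := Over.homMk c.left.imageι rfl
  let γ : Uo ⟶ Γ := Over.homMk c.left.toImage (by
    show c.left.toImage ≫ c.left.imageι ≫ _ = _
    rw [Scheme.Hom.toImage_imageι_assoc]
    exact Over.w c)
  have hγ : γ ≫ cl = c := Over.OverMorphism.ext c.left.toImage_imageι
  have : IsProper (X ⊗ X).hom := inferInstanceAs (IsProper (pullback.fst X.hom X.hom ≫ X.hom))
  have : IsClosedImmersion cl.left := inferInstanceAs (IsClosedImmersion c.left.imageι)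
  have : IsProper Γ.hom := inferInstanceAs (IsProper (c.left.imageι ≫ (X ⊗ X).hom))
  have : IsLocallyNoetherian U.toScheme := isLocallyNoetherian_of_isOpenImmersion U.ι
  have : CompactSpace X.left := QuasiCompact.compactSpace_of_compactSpace X.hom
  have : IsNoetherian X.left := {}
  have : QuasiCompact (c.left ≫ (X ⊗ X).hom) := by
    rw [Over.w c]; exact inferInstanceAs (QuasiCompact (U.ι ≫ X.hom))
  have : QuasiCompact c.left := QuasiCompact.of_comp c.left (X ⊗ X).hom
  have hred : IsReduced Γ.left := @Groth.AlgSp3.isReduced_image _ _ c.left (inferInstanceAs (IsReduced U.toScheme))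
  have : Nonempty U.toScheme := ⟨⟨_, heU⟩⟩
  have : IsIntegral U.toScheme := isIntegral_of_isOpenImmersion U.ι
  have : IrreducibleSpace U.toScheme := inferInstance
  have hdom : IsDominant γ.left := inferInstanceAs (IsDominant c.left.toImage)
  have hirr : IrreducibleSpace Γ.left := by
    have h := (IrreducibleSpace.isIrreducible_univ U.toScheme).image γ.left γ.left.continuous.continuousOn
    rw [Set.image_univ] at h
    have h' := h.closure
    rw [hdom.denseRange.closure_range] at h'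
    exact { toPreirreducibleSpace := ⟨h'.2⟩, toNonempty := h'.1.to_type }
  have hΓm : cl ≫ m = toUnit Γ ≫ e :=
    Over.OverMorphism.ext (ext_of_isDominant_of_isSeparated X.hom
      (by rw [Over.w, Over.w]) γ.left
      congr(($(show γ ≫ cl ≫ m = γ ≫ toUnit Γ ≫ e by
        rw [reassoc_of% hγ, hc2, ← Category.assoc, toUnit_unique (γ ≫ toUnit Γ) (toUnit Uo)])).left))
  -- a point of the graph over a point of `U`
  have hlift : ∀ b : 𝟙_ (Over (Sk)) ⟶ X, b.left (closedPoint k) ∈ U →
      ∃ bΓ : 𝟙_ (Over (Sk)) ⟶ Γ, bΓ ≫ cl ≫ fst X X = b := by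
    intro b hb
    let b' : Sk ⟶ U.toScheme := IsOpenImmersion.lift U.ι b.left (by
      rw [Scheme.Opens.range_ι]
      rintro _ ⟨w, rfl⟩
      rw [Subsingleton.elim w (closedPoint k)]
      exact hb)
    have hb' : b' ≫ U.ι = b.left := IsOpenImmersion.lift_fac _ _ _
    let bU : 𝟙_ (Over (Sk)) ⟶ Uo := Over.homMk b' (by
      show b' ≫ U.ι ≫ X.hom = _
      rw [reassoc_of% hb']
      exact Over.w b)
    refine ⟨bU ≫ γ, ?_⟩
    rw [Category.assoc, reassoc_of% hγ, hc1]
    exact Over.OverMorphism.ext hb'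
  -- the rigidity identity
  have : Flat Γ.hom := inferInstance
  have : LocallyOfFinitePresentation Γ.hom := inferInstance
  have : GeometricallyReduced Γ.hom := Groth.Abvar.geometricallyReduced_of_isAlgClosed Γ
  have : GeometricallyIrreducible Γ.hom := geometricallyIrreducible_of_isSepClosed Γ.hom
  have : GeometricallyConnected Γ.hom := geometricallyConnected_of_geometricallyIrreducible Γ.hom
  have : GeometricallyConnected X.hom := geometricallyConnected_of_geometricallyIrreducible X.hom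
  obtain ⟨b₀, hb₀⟩ := hlift e heU
  have hb₀' : b₀ ≫ cl ≫ snd X X = e := by
    have h : b₀ ≫ cl ≫ m = e := by
      rw [hΓm, ← Category.assoc, toUnit_unique (b₀ ≫ toUnit Γ) (𝟙 _), Category.id_comp]
    have h' : b₀ ≫ cl = lift (toUnit _ ≫ e) (b₀ ≫ cl ≫ snd X X) := by
      ext1
      · rw [lift_fst, Category.assoc, hb₀, toUnit_unique (toUnit _) (𝟙 _), Category.id_comp]
      · rw [lift_snd, Category.assoc]
    rw [← Category.assoc, h', ← comp_transl, htre, Category.comp_id] at h
    exact h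
  let φ : X ⊗ Γ ⟶ X := lift (snd X Γ ≫ cl ≫ fst X X) (lift (snd X Γ ≫ cl ≫ snd X X) (fst X Γ) ≫ m) ≫ m
  have hφ : ∀ b : 𝟙_ (Over (Sk)) ⟶ Γ, lift (𝟙 X) (toUnit X ≫ b) ≫ φ =
      transl m (b ≫ cl ≫ snd X X) ≫ transl m (b ≫ cl ≫ fst X X) := by
    intro b
    rw [comp_transl]
    simp only [φ, transl, comp_lift_assoc, lift_snd_assoc, lift_fst, Category.assoc]
  have hax : lift (toUnit Γ ≫ e) (𝟙 Γ) ≫ φ = toUnit Γ ≫ e := by
    conv_rhs => rw [← hΓm]
    simp only [φ, comp_lift_assoc, lift_snd_assoc, lift_fst, Category.id_comp]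
    have h : lift (cl ≫ snd X X) (toUnit Γ ≫ e) ≫ m = cl ≫ snd X X := by
      have := congrArg ((cl ≫ snd X X) ≫ ·) h₁
      rw [comp_lift_assoc, Category.comp_id, ← Category.assoc _ (toUnit X),
        toUnit_unique ((cl ≫ snd X X) ≫ toUnit X) (toUnit Γ)] at this
      exact this
    rw [h, ← comp_lift, lift_fst_snd, Category.comp_id]
  have hid : ∀ b : 𝟙_ (Over (Sk)) ⟶ Γ,
      transl m (b ≫ cl ≫ snd X X) ≫ transl m (b ≫ cl ≫ fst X X) = 𝟙 X := by
    intro b
    have h := eq_fst_comp_of_slice X Γ X e b₀ e φ hax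
    rw [← hφ b, h, lift_fst_assoc, Category.id_comp, hφ b₀, hb₀, hb₀', htre, Category.comp_id]
  -- both projections of the graph are surjective on points
  have hpts : ∀ pr : X ⊗ X ⟶ X, IsProper pr.left →
      (∀ b : 𝟙_ (Over (Sk)) ⟶ X, b.left (closedPoint k) ∈ U → ∃ bΓ, bΓ ≫ cl ≫ pr = b) →
      ∀ b : 𝟙_ (Over (Sk)) ⟶ X, ∃ bΓ, bΓ ≫ cl ≫ pr = b := by
    intro pr hpr hUpr b
    let q : Γ.left ⟶ X.left := (cl ≫ pr).left
    have : IsProper q := inferInstanceAs (IsProper (cl.left ≫ pr.left))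
    have hcl : IsClosed (Set.range q) := q.isClosedMap.isClosed_range
    have hsub : (U : Set X.left) ∩ closedPoints X.left ⊆ Set.range q := by
      rintro x ⟨hxU, hx⟩
      obtain ⟨s, hs⟩ := Groth.Abvar.exists_rationalPoint X hx
      obtain ⟨sΓ, hsΓ⟩ := hUpr s (hs.symm ▸ hxU)
      exact ⟨sΓ.left (closedPoint k), (congr(($hsΓ).left (closedPoint k))).trans hs⟩
    have hdense : Dense ((U : Set X.left) ∩ closedPoints X.left) :=
      (U.isOpen.dense ⟨_, heU⟩).inter_of_isOpen_left
        (dense_iff_closure_eq.2 closure_closedPoints) U.isOpen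
    have huniv : Set.range q = Set.univ := Set.univ_subset_iff.1
      (hdense.closure_eq ▸ hcl.closure_subset_iff.2 hsub)
    have : JacobsonSpace Γ.left := LocallyOfFiniteType.jacobsonSpace Γ.hom
    have hxcl : IsClosed ({b.left (closedPoint k)} : Set X.left) :=
      (pointEquivClosedPoint X.hom ⟨b.left, Over.w b⟩).2
    obtain ⟨y, hy⟩ : b.left (closedPoint k) ∈ Set.range q := huniv ▸ Set.mem_univ _
    obtain ⟨z, hz, hzc⟩ := nonempty_inter_closedPoints (Z := q ⁻¹' {b.left (closedPoint k)}) ⟨y, hy⟩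
      (hxcl.preimage q.continuous).isLocallyClosed
    obtain ⟨s, hs⟩ := Groth.Abvar.exists_rationalPoint Γ hzc
    refine ⟨s, ext_point ?_⟩
    show q (s.left (closedPoint k)) = _
    rw [hs]
    exact hz
  have hfst : IsProper (fst X X).left := inferInstanceAs (IsProper g)
  have hsnd : IsProper (snd X X).left := inferInstanceAs (IsProper (pullback.snd X.hom X.hom))
  obtain ⟨bΓ, hb⟩ := hpts _ hfst hlift a
  obtain ⟨bΓ', hb'⟩ := hpts _ hsnd (fun b hbU => by
    obtain ⟨β, hβ⟩ := hlift b hbU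
    have h1 := hid β
    rw [hβ] at h1
    have := (hcrit b).2 hbU
    have h2 : transl m (β ≫ cl ≫ snd X X) = inv (transl m b) := IsIso.eq_inv_of_inv_hom_id h1
    have h3 : IsIso (transl m (β ≫ cl ≫ snd X X)) := by rw [h2]; infer_instance
    obtain ⟨β', hβ'⟩ := hlift _ ((hcrit _).1 h3)
    refine ⟨β', ?_⟩
    have h4 := hid β'
    rw [hβ', h2, IsIso.comp_inv_eq, Category.id_comp] at h4
    have he : ∀ x : 𝟙_ (Over (Sk)) ⟶ X, e ≫ transl m x = x := fun x => by
      rw [comp_transl]
      have := congrArg (x ≫ ·) h₁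
      rw [comp_lift_assoc, Category.comp_id, ← Category.assoc _ (toUnit X),
        toUnit_unique (x ≫ toUnit X) (𝟙 _), Category.id_comp] at this
      rwa [toUnit_unique (toUnit _) (𝟙 _), Category.id_comp]
    have h5 := congrArg (e ≫ ·) h4
    rwa [he, he] at h5) a
  have r₁ := hid bΓ
  rw [hb] at r₁
  have r₂ := hid bΓ'
  rw [hb'] at r₂
  refine ⟨transl m (bΓ' ≫ cl ≫ fst X X), r₂, ?_⟩
  have : transl m (bΓ' ≫ cl ≫ fst X X) = transl m (bΓ ≫ cl ≫ snd X X) := by
    have h := congrArg (transl m (bΓ ≫ cl ≫ snd X X) ≫ ·) r₂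
    simp only [reassoc_of% r₁, Category.comp_id] at h
    exact h
  rw [this]
  exact r₁

end Field

section Global

variable {X : Over S} [IsProper X.hom] [Flat X.hom] [LocallyOfFinitePresentation X.hom]
  [GeometricallyIntegral X.hom] (e : 𝟙_ (Over S) ⟶ X) (m : X ⊗ X ⟶ X)
  (h₁ : lift (𝟙 X) (toUnit X ≫ e) ≫ m = 𝟙 X) (h₂ : lift (toUnit X ≫ e) (𝟙 X) ≫ m = 𝟙 X)

open Functor in
include h₁ h₂ in
/-- The shear morphism of a unital multiplication is an isomorphism. -/
theorem isIso_shear : IsIso (shear m) := by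
  let g : (X ⊗ X).left ⟶ X.left := (fst X X).left
  let σ : (X ⊗ X).left ⟶ (X ⊗ X).left := (shear m).left
  have hσ : σ ≫ g = g := shear_left_fst m
  have : IsProper g := inferInstanceAs (IsProper (pullback.fst X.hom X.hom))
  have : Flat g := inferInstanceAs (Flat (pullback.fst X.hom X.hom))
  have : LocallyOfFinitePresentation g := inferInstanceAs (LocallyOfFinitePresentation (pullback.fst X.hom X.hom))
  obtain ⟨U, hU, hUiso⟩ := @Groth.Flatmor4.exists_open_fibreIso _ _ _ σ g (hσ.symm ▸ inferInstance)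
    (hσ.symm ▸ inferInstance) (hσ.symm ▸ inferInstance) inferInstance inferInstance
  have htop : U = ⊤ := by
    refine top_unique fun x _ => ?_
    let K := AlgebraicClosure (X.left.residueField x)
    let p : Spec (CommRingCat.of K) ⟶ X.left :=
      Spec.map (CommRingCat.ofHom (algebraMap (X.left.residueField x) K)) ≫ X.left.fromSpecResidueField x
    have hpx : p (IsLocalRing.closedPoint K) = x := Scheme.fromSpecResidueField_apply x _
    let q := p ≫ X.hom
    let F := Over.pullback q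
    let Xk : Over (Spec (CommRingCat.of K)) := F.obj X
    haveI : IsProper Xk.hom := inferInstanceAs (IsProper (pullback.snd X.hom q))
    haveI : GeometricallyIntegral Xk.hom := inferInstanceAs (GeometricallyIntegral (pullback.snd X.hom q))
    let mk' : Xk ⊗ Xk ⟶ Xk := LaxMonoidal.μ F X X ≫ F.map m
    let ek : 𝟙_ (Over (Spec (CommRingCat.of K))) ⟶ Xk := LaxMonoidal.ε F ≫ F.map e
    have hek : toUnit Xk ≫ ek = F.map (toUnit X ≫ e) := by
      rw [F.map_comp, ← Category.assoc]
      congr 1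
      rw [← cancel_mono (Monoidal.εIso F).inv]
      exact toUnit_unique _ _
    have hk₁ : lift (𝟙 Xk) (toUnit Xk ≫ ek) ≫ mk' = 𝟙 Xk := by
      rw [hek, ← F.map_id, ← Category.assoc, Monoidal.lift_μ, ← F.map_comp, h₁]
    have hk₂ : lift (toUnit Xk ≫ ek) (𝟙 Xk) ≫ mk' = 𝟙 Xk := by
      rw [hek, ← F.map_id, ← Category.assoc, Monoidal.lift_μ, ← F.map_comp, h₂]
    let ak : 𝟙_ (Over (Spec (CommRingCat.of K))) ⟶ Xk :=
      Over.homMk (pullback.lift p (𝟙 _) (by rw [Category.id_comp])) (pullback.lift_snd _ _ _)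
    have hiso := isIso_transl Xk ek mk' hk₁ hk₂ ak
    let J : Xk.left ⟶ (X ⊗ X).left :=
      pullback.lift (pullback.snd X.hom q ≫ p) (pullback.fst X.hom q)
        (by rw [Category.assoc, pullback.condition])
    have sq : IsPullback J (pullback.snd X.hom q) g p := by
      refine IsPullback.of_right ?_ (pullback.lift_fst _ _ _) (IsPullback.of_hasPullback X.hom X.hom).flip
      rw [pullback.lift_snd]
      exact IsPullback.of_hasPullback X.hom q
    have hJ : (lift (toUnit Xk ≫ ak) (𝟙 Xk)).left ≫ (LaxMonoidal.μ F X X).left ≫ pullback.fst (X ⊗ X).hom q = J := by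
      refine pullback.hom_ext ?_ ?_
      · rw [Category.assoc, Category.assoc]
        erw [Over.μ_pullback_left_fst_fst]
        erw [← Category.assoc, show (lift (toUnit Xk ≫ ak) (𝟙 Xk)).left ≫ pullback.fst Xk.hom Xk.hom =
          (toUnit Xk ≫ ak).left from congr(($(lift_fst (toUnit Xk ≫ ak) (𝟙 Xk))).left), pullback.lift_fst]
        show (pullback.snd X.hom q ≫ pullback.lift p (𝟙 _) _) ≫ pullback.fst X.hom q = _
        rw [Category.assoc, pullback.lift_fst]
      · rw [Category.assoc, Category.assoc]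
        erw [Over.μ_pullback_left_fst_snd]
        erw [← Category.assoc, show (lift (toUnit Xk ≫ ak) (𝟙 Xk)).left ≫ pullback.snd Xk.hom Xk.hom =
          (𝟙 Xk : Xk ⟶ Xk).left from congr(($(lift_snd (toUnit Xk ≫ ak) (𝟙 Xk))).left), pullback.lift_snd]
        exact Category.id_comp _
    have hlj : (transl mk' ak).left ≫ J = J ≫ σ := by
      refine pullback.hom_ext ?_ ?_
      · rw [Category.assoc, Category.assoc, pullback.lift_fst]
        erw [shear_left_fst, pullback.lift_fst, ← Category.assoc, Over.w (transl mk' ak)]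
        rfl
      · rw [Category.assoc, Category.assoc, pullback.lift_snd]
        have hm : σ ≫ pullback.snd X.hom X.hom = m.left := congr(($(lift_snd (fst X X) m)).left)
        rw [hm, ← hJ, transl, Over.comp_left, Over.comp_left, Category.assoc, Category.assoc]
        erw [pullback.lift_fst]
        simp only [Category.assoc]
    have h := (isIso_iff_isIso_fiberMap g σ hσ p J (pullback.snd X.hom q) sq (transl mk' ak).left
      (Over.w (transl mk' ak)) hlj).1 ((isIso_iff_of_reflects_iso _ (Over.forget _)).2 hiso)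
    rw [← hU, hpx] at h
    exact h
  subst htop
  haveI : IsIso (g ⁻¹ᵁ (⊤ : X.left.Opens)).ι := (Scheme.topIso _).isIso_hom
  haveI : IsIso (σ ⁻¹ᵁ (g ⁻¹ᵁ (⊤ : X.left.Opens))).ι := (Scheme.topIso _).isIso_hom
  haveI : IsIso σ := by
    have h := morphismRestrict_ι σ (g ⁻¹ᵁ (⊤ : X.left.Opens))
    have : σ = inv (σ ⁻¹ᵁ (g ⁻¹ᵁ (⊤ : X.left.Opens))).ι ≫ (σ ∣_ _) ≫ (g ⁻¹ᵁ (⊤ : X.left.Opens)).ι := by
      rw [h, IsIso.inv_hom_id_assoc]
    rw [this]; infer_instance
  exact (isIso_iff_of_reflects_iso _ (Over.forget _)).1 (inferInstanceAs (IsIso σ))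

include h₁ h₂ in
/-- A unital multiplication is associative. -/
theorem mul_assoc' {T : Over S} (x y z : T ⟶ X) :
    lift (lift x y ≫ m) z ≫ m = lift x (lift y z ≫ m) ≫ m := by
  haveI := isIso_shear e m h₁ h₂
  haveI : GeometricallyConnected X.hom := geometricallyConnected_of_geometricallyIrreducible X.hom
  haveI : GeometricallyConnected (X ⊗ X).hom :=
    GeometricallyConnected.comp (pullback.fst X.hom X.hom) X.hom
  let Y' : (X ⊗ X) ⊗ X ⟶ X := fst (X ⊗ X) X ≫ fst X X
  let Z' : (X ⊗ X) ⊗ X ⟶ X := fst (X ⊗ X) X ≫ snd X X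
  let d : (X ⊗ X) ⊗ X ⟶ X := lift (snd (X ⊗ X) X) (lift (lift (snd (X ⊗ X) X) Y' ≫ m) Z' ≫ m) ≫ inv (shear m) ≫ snd X X
  have hr : ∀ {T : Over S} (f : T ⟶ X), lift f (toUnit T ≫ e) ≫ m = f := fun {T} f => by
    have := congrArg (f ≫ ·) h₁
    rwa [comp_lift_assoc, Category.comp_id, ← Category.assoc _ (toUnit X), toUnit_unique (f ≫ toUnit X) (toUnit T)] at this
  have hl : ∀ {T : Over S} (f : T ⟶ X), lift (toUnit T ≫ e) f ≫ m = f := fun {T} f => by
    have := congrArg (f ≫ ·) h₂
    rwa [comp_lift_assoc, Category.comp_id, ← Category.assoc _ (toUnit X), toUnit_unique (f ≫ toUnit X) (toUnit T)] at this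
  have hinv : ∀ {T : Over S} (u v : T ⟶ X), lift u v ≫ shear m = lift u (lift u v ≫ m) := fun u v =>
    lift_shear m u v
  have hax : lift (toUnit X ≫ lift e e) (𝟙 X) ≫ d = toUnit X ≫ e := by
    simp only [d, Y', Z', comp_lift_assoc, comp_lift, lift_snd, lift_snd_assoc, lift_fst_assoc, Category.assoc,
      lift_fst]
    rw [hr, hr]
    have : lift (𝟙 X) (𝟙 X) = lift (𝟙 X) (toUnit X ≫ e) ≫ shear m := by rw [hinv, hr]
    rw [this, Category.assoc, IsIso.hom_inv_id_assoc, lift_snd]
  have hd : d = fst (X ⊗ X) X ≫ m := by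
    rw [eq_fst_comp_of_slice (X ⊗ X) X X (lift e e) e e d hax]
    congr 1
    simp only [d, Y', Z', comp_lift_assoc, comp_lift, lift_snd, lift_fst_assoc, Category.id_comp,
      lift_fst]
    rw [hl]
    have : lift (toUnit (X ⊗ X) ≫ e) (lift (fst X X) (snd X X) ≫ m) = lift (toUnit (X ⊗ X) ≫ e) m ≫ shear m := by
      rw [hinv, hl, lift_fst_snd, Category.id_comp]
    rw [this, Category.assoc, IsIso.hom_inv_id_assoc, lift_snd]
  have key : lift (lift (snd (X ⊗ X) X) Y' ≫ m) Z' ≫ m = lift (snd (X ⊗ X) X) (fst (X ⊗ X) X ≫ m) ≫ m := by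
    have h := congrArg (fun φ => lift (snd (X ⊗ X) X) φ ≫ shear m ≫ snd X X) hd
    have hlift : lift (snd (X ⊗ X) X) d = lift (snd (X ⊗ X) X) (lift (lift (snd (X ⊗ X) X) Y' ≫ m) Z' ≫ m) ≫ inv (shear m) := by
      ext1
      · rw [lift_fst, Category.assoc, show inv (shear m) ≫ fst X X = fst X X by
          rw [IsIso.inv_comp_eq, shear, lift_fst], lift_fst]
      · rw [lift_snd, Category.assoc]
    simp only [hlift, Category.assoc, IsIso.inv_hom_id_assoc, lift_snd] at h
    rw [h, ← Category.assoc, hinv, lift_snd]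
  have h := congrArg (lift (lift y z) x ≫ ·) key
  simpa only [Y', Z', comp_lift_assoc, comp_lift, lift_snd, lift_fst_assoc, lift_fst, Category.assoc] using h

end Global

end Groth.GrpschAbsch.UnitalMul

end
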