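import Groth.Agent.GrpschAbsch.RigidityBase
import Groth.Agent.VarietyBC.GlobalField
import Groth.Agent.AlgGrp1.Basic
import Mathlib.AlgebraicGeometry.Morphisms.FinitePresentation
import Mathlib.AlgebraicGeometry.Morphisms.UniversallyOpen

/-!
Rigidity over a locally Noetherian base.
-/

universe u

open CategoryTheory CategoryTheory.Limits AlgebraicGeometry TopologicalSpace

namespace Groth.GrpschAbsch.Rigid

variable {X Y S : Scheme.{u}}

/-- Only constant functions on the fibre over `s`. -/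
def ConstFibre (f : X ⟶ S) (s : S) : Prop :=
  Function.Surjective ((Scheme.ΓSpecIso (S.residueField s)).inv ≫ (f.fiberToSpecResidueField s).appTop).hom

theorem constFibre_of_geometrically (f : X ⟶ S) [IsProper f] [GeometricallyReduced f]
    [GeometricallyConnected f] (s : S) : ConstFibre f s := by
  have : IsProper (f.fiberToSpecResidueField s) := inferInstanceAs (IsProper (pullback.snd f (S.fromSpecResidueField s)))
  have : GeometricallyReduced (f.fiberToSpecResidueField s) := inferInstanceAs (GeometricallyReduced (pullback.snd f (S.fromSpecResidueField s)))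
  have : GeometricallyConnected (f.fiberToSpecResidueField s) := inferInstanceAs (GeometricallyConnected (pullback.snd f (S.fromSpecResidueField s)))
  have hb := Groth.VarietyBC.GlobalField.appTop_bijective (K := S.residueField s) (f.fiberToSpecResidueField s)
  intro c
  obtain ⟨a, ha⟩ := hb.2 c
  refine ⟨(Scheme.ΓSpecIso (S.residueField s)).hom a, ?_⟩
  rw [← ha]
  exact congrArg (f.fiberToSpecResidueField s).appTop.hom (Iso.hom_inv_id_apply (Scheme.ΓSpecIso (S.residueField s)) a)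

/-- Agreement on a neighbourhood of every point of a set gives agreement on an open containing it. -/
theorem exists_open_eq {P : Scheme.{u}} (a b : P ⟶ Y) (Z : Set P)
    (h : ∀ z ∈ Z, ∃ O : P.Opens, z ∈ O ∧ O.ι ≫ a = O.ι ≫ b) :
    ∃ O : P.Opens, Z ⊆ O ∧ O.ι ≫ a = O.ι ≫ b := by
  let 𝒮 := {O : P.Opens // O.ι ≫ a = O.ι ≫ b}
  refine ⟨⨆ O : 𝒮, O.1, fun z hz ↦ ?_, Scheme.hom_ext_of_forall _ _ fun x ↦ ?_⟩
  · obtain ⟨O, hzO, hO⟩ := h z hz
    exact Opens.mem_iSup.mpr ⟨⟨O, hO⟩, hzO⟩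
  · obtain ⟨O, hO⟩ := Opens.mem_iSup.mp x.2
    refine ⟨(⨆ O : 𝒮, O.1).ι ⁻¹ᵁ O.1, hO, ?_⟩
    let l : ((⨆ O : 𝒮, O.1).ι ⁻¹ᵁ O.1).toScheme ⟶ O.1.toScheme :=
      IsOpenImmersion.lift O.1.ι (((⨆ O : 𝒮, O.1).ι ⁻¹ᵁ O.1).ι ≫ (⨆ O : 𝒮, O.1).ι) (by
        rw [Scheme.Opens.range_ι]
        rintro _ ⟨⟨z, hz⟩, rfl⟩
        exact hz)
    have hl : l ≫ O.1.ι = ((⨆ O : 𝒮, O.1).ι ⁻¹ᵁ O.1).ι ≫ (⨆ O : 𝒮, O.1).ι := IsOpenImmersion.lift_fac _ _ _
    rw [← reassoc_of% hl, ← reassoc_of% hl, O.2]

section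

variable (f : X ⟶ S) (π : X ⟶ Y)

/-- The set of points over which `π` collapses the fibre. -/
def collapseSet : Set S := {s | (π '' (f ⁻¹' {s})).Subsingleton}

theorem mem_collapseSet_of_open {W : Set S} {s : S} (hs : s ∈ W) (O : (pullback f f).Opens)
    (hO : (pullback.fst f f ≫ f) ⁻¹' W ⊆ O) (heq : O.ι ≫ pullback.fst f f ≫ π = O.ι ≫ pullback.snd f f ≫ π) :
    s ∈ collapseSet f π := by
  rintro _ ⟨x₁, hx₁, rfl⟩ _ ⟨x₂, hx₂, rfl⟩
  obtain ⟨z, hz₁, hz₂⟩ := Scheme.Pullback.exists_preimage_pullback x₁ x₂ (f := f) (g := f) (hx₁.trans hx₂.symm)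
  have hzO : z ∈ O := hO (by
    show (pullback.fst f f ≫ f) z ∈ W
    rw [Scheme.Hom.comp_apply, hz₁, show f x₁ = s from hx₁]
    exact hs)
  have := congrArg (fun φ : O.toScheme ⟶ Y ↦ φ ⟨z, hzO⟩) heq
  simp only [Scheme.Hom.comp_apply] at this
  rw [show O.ι ⟨z, hzO⟩ = z from rfl, hz₁, hz₂] at this
  exact this

variable [IsLocallyNoetherian S] [Flat f]

/-- Near a collapsed fibre with only constant functions the two projections agree after composing. -/
theorem exists_open_of_collapse [LocallyOfFiniteType f] (U : Set S) (hU : U ⊆ collapseSet f π)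
    (hc : ∀ s ∈ U, ConstFibre f s) :
    ∃ O : (pullback f f).Opens, (pullback.fst f f ≫ f) ⁻¹' U ⊆ O ∧
      O.ι ≫ pullback.fst f f ≫ π = O.ι ≫ pullback.snd f f ≫ π := by
  have : IsLocallyNoetherian (pullback f f) :=
    LocallyOfFiniteType.isLocallyNoetherian (pullback.fst f f ≫ f)
  refine exists_open_eq _ _ _ fun z hz ↦ ?_
  exact exists_nhd_comp_eq f π (pullback.fst f f ≫ f) (pullback.fst f f) (pullback.snd f f) rfl
    pullback.condition.symm z (hc _ hz) (hU hz)

variable [IsProper f]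

/-- The projections agree over an open neighbourhood of a collapsed fibre. -/
theorem exists_nhd_of_collapse {s : S} (hs : s ∈ collapseSet f π) (hc : ConstFibre f s) :
    ∃ W : S.Opens, s ∈ W ∧ ((pullback.fst f f ≫ f) ⁻¹ᵁ W).ι ≫ pullback.fst f f ≫ π =
      ((pullback.fst f f ≫ f) ⁻¹ᵁ W).ι ≫ pullback.snd f f ≫ π := by
  obtain ⟨O, hO, heq⟩ := exists_open_of_collapse f π {s} (Set.singleton_subset_iff.mpr hs)
    (by rintro _ rfl; exact hc)
  let h := pullback.fst f f ≫ f
  let W : S.Opens := ⟨(h '' (O : Set ↥(pullback f f))ᶜ)ᶜ, (h.isClosedMap _ O.isOpen.isClosed_compl).isOpen_compl⟩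
  refine ⟨W, fun ⟨z, hz, hzs⟩ ↦ hz (hO hzs), ?_⟩
  have hle : h ⁻¹ᵁ W ≤ O := fun z hz ↦ by_contra fun hzO ↦ hz ⟨z, hzO, rfl⟩
  rw [← Scheme.homOfLE_ι (pullback f f) hle, Category.assoc, Category.assoc, heq]

theorem isOpen_collapseSet (hc : ∀ s, ConstFibre f s) : IsOpen (collapseSet f π) := by
  refine isOpen_iff_forall_mem_open.mpr fun s hs ↦ ?_
  obtain ⟨W, hsW, hW⟩ := exists_nhd_of_collapse f π hs (hc s)
  exact ⟨W, fun t ht ↦ mem_collapseSet_of_open f π (W := W) ht _ le_rfl hW, W.isOpen, hsW⟩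

/-- For a separated target the collapsed locus is closed. -/
theorem isClosed_collapseSet (v : Y ⟶ S) [IsSeparated v] (hv : π ≫ v = f)
    (hc : ∀ s, ConstFibre f s) : IsClosed (collapseSet f π) := by
  let q : pullback f f ⟶ pullback v v := pullback.lift (pullback.fst f f ≫ π) (pullback.snd f f ≫ π)
    (by rw [Category.assoc, Category.assoc, hv, pullback.condition])
  let E : Set ↥(pullback f f) := Set.range (pullback.fst q (pullback.diagonal v))
  have hEc : IsClosed E := (pullback.fst q (pullback.diagonal v)).isClosedMap.isClosed_range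
  have hopen : IsOpenMap (pullback.fst f f ≫ f) := (pullback.fst f f ≫ f).isOpenMap
  suffices collapseSet f π = ((pullback.fst f f ≫ f) '' Eᶜ)ᶜ by
    rw [this]
    exact (hopen _ hEc.isOpen_compl).isClosed_compl
  refine Set.ext fun s ↦ ⟨fun hs ↦ ?_, fun hs ↦ ?_⟩
  · rintro ⟨z, hz, hzs⟩
    obtain ⟨O, hO, heq⟩ := exists_open_of_collapse f π {s} (Set.singleton_subset_iff.mpr hs)
      (by rintro _ rfl; exact hc _)
    refine hz ⟨(pullback.lift O.ι (O.ι ≫ pullback.fst f f ≫ π) ?_ : O.toScheme ⟶ _) ⟨z, hO hzs⟩, ?_⟩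
    · apply pullback.hom_ext
      · simp only [q, Category.assoc, pullback.lift_fst, pullback.diagonal_fst, Category.comp_id]
      · simp only [q, Category.assoc, pullback.lift_snd, pullback.diagonal_snd, Category.comp_id, heq]
    · rw [← Scheme.Hom.comp_apply, pullback.lift_fst]
      rfl
  · rintro _ ⟨x₁, hx₁, rfl⟩ _ ⟨x₂, hx₂, rfl⟩
    obtain ⟨z, hz₁, hz₂⟩ := Scheme.Pullback.exists_preimage_pullback x₁ x₂ (f := f) (g := f) (hx₁.trans hx₂.symm)
    obtain ⟨w, hw⟩ : z ∈ E := by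
      by_contra hzE
      refine hs ⟨z, hzE, ?_⟩
      rw [Scheme.Hom.comp_apply, hz₁]
      exact hx₁
    have h1 := congrArg (· ≫ pullback.fst v v) (pullback.condition (f := q) (g := pullback.diagonal v))
    have h2 := congrArg (· ≫ pullback.snd v v) (pullback.condition (f := q) (g := pullback.diagonal v))
    simp only [q, Category.assoc, pullback.lift_fst, pullback.lift_snd, pullback.diagonal_fst,
      pullback.diagonal_snd, Category.comp_id] at h1 h2
    have h3 := congrArg (fun φ : pullback q (pullback.diagonal v) ⟶ Y ↦ φ w) (h1.trans h2.symm)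
    simp only [Scheme.Hom.comp_apply] at h3
    rw [hw, hz₁, hz₂] at h3
    exact h3

end

/-- Descent along a faithfully flat morphism. -/
theorem exists_desc_of_comp_eq (g : X ⟶ S) [Flat g] [Surjective g] [LocallyOfFinitePresentation g] (π : X ⟶ Y)
    (h : pullback.fst g g ≫ π = pullback.snd g g ≫ π) : ∃ k : S ⟶ Y, g ≫ k = π := by
  have : EffectiveEpi g := inferInstance
  refine ⟨EffectiveEpi.desc g π fun a b hab ↦ ?_, EffectiveEpi.fac g π _⟩
  rw [← pullback.lift_fst a b hab, Category.assoc, h, pullback.lift_snd_assoc]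

/-- A morphism collapsing all fibres of a proper flat family with constant fibre functions is constant. -/
theorem exists_desc_of_collapse [IsLocallyNoetherian S] (f : X ⟶ S) [Flat f] [LocallyOfFiniteType f]
    [Surjective f] (π : X ⟶ Y) (hs : ∀ s, s ∈ collapseSet f π) (hc : ∀ s, ConstFibre f s) :
    ∃ σ : S ⟶ Y, f ≫ σ = π := by
  obtain ⟨O, hO, heq⟩ := exists_open_of_collapse f π Set.univ (fun s _ ↦ hs s) fun s _ ↦ hc s
  refine exists_desc_of_comp_eq f π ?_
  have : O = ⊤ := top_le_iff.mp fun z _ ↦ hO trivial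
  subst this
  have : IsIso (Scheme.Opens.ι (⊤ : (pullback f f).Opens)) := by rw [← Scheme.topIso_hom]; infer_instance
  exact (cancel_epi (Scheme.Opens.ι (⊤ : (pullback f f).Opens))).mp heq

end Groth.GrpschAbsch.Rigid
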