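import Groth.Agent.GrpschAbsch.FlatStage
import Groth.Agent.GrpschAbsch.RigidityGlobal
import Groth.Agent.SpectralTopology.CanDescend
import Groth.Agent.SpectralTopology.SpreadProper
import Groth.Agent.ModelsGraphs.GlobalFunctions
import Groth.Agent.Agf.SmoothRed
import Mathlib.AlgebraicGeometry.AffineSpace

set_option autoImplicit false
set_option backward.isDefEq.respectTransparency false

/-!
`f_* O_X = O_S` for proper flat finitely presented morphisms with geometrically reduced and
geometrically connected fibres, over an arbitrary base (Noetherian approximation).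
-/

universe u

open CategoryTheory CategoryTheory.Limits AlgebraicGeometry Groth.SpectralTopology
open Groth.GrpschAbsch

namespace Groth.GrpschAbsch.H0General

theorem flat_pullback_fst_iff {X S T : Scheme.{u}} (f : X ⟶ S) (a : T ⟶ S) :
    Flat (pullback.fst a f) ↔ Flat (pullback.snd f a) := by
  rw [← pullbackSymmetry_hom_comp_fst f a]
  exact (MorphismProperty.cancel_left_of_respectsIso (P := @Flat) _ _).symm

theorem isProper_pullback_fst {X S T : Scheme.{u}} (f : X ⟶ S) (a : T ⟶ S)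
    (h : IsProper (pullback.snd f a)) : IsProper (pullback.fst a f) := by
  rw [← pullbackSymmetry_hom_comp_fst f a] at h
  exact (MorphismProperty.cancel_left_of_respectsIso (P := @IsProper) _ _).mp h

/-- A flat stage of a model over the finitely generated subrings. -/
theorem exists_flat_fgStage {A : CommRingCat.{u}} {X₀ : Scheme.{u}} {i : (FGSub A)ᵒᵖ}
    (f₀ : X₀ ⟶ (fgSchemes A).obj i) [LocallyOfFinitePresentation f₀] [CompactSpace X₀]
    (h : Flat (pullback.snd f₀ ((fgCone A).π.app i))) :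
    ∃ (j : (FGSub A)ᵒᵖ) (φ : j ⟶ i), Flat (pullback.snd f₀ ((fgSchemes A).map φ)) := by
  let s := i.unop
  let ι : Type u := {t : FGSub A // s ≤ t}
  have : Nonempty ι := ⟨⟨s, le_rfl⟩⟩
  have : IsDirectedOrder ι := ⟨fun t t' ↦ by
    obtain ⟨r, hr, hr'⟩ := exists_ge_ge t.1 t'.1
    exact ⟨⟨r, t.2.trans hr⟩, hr, hr'⟩⟩
  let (t : ι) : Algebra s.1 t.1.1 := (Subalgebra.inclusion (show s.1 ≤ t.1.1 from t.2)).toRingHom.toAlgebra
  let g : ∀ t t' : ι, t ≤ t' → t.1.1 →ₐ[s.1] t'.1.1 := fun t t' h ↦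
    { (Subalgebra.inclusion (show t.1.1 ≤ t'.1.1 from h)).toRingHom with commutes' := fun _ ↦ rfl }
  let can : ∀ t : ι, t.1.1 →ₐ[s.1] (A : Type u) := fun t ↦
    { t.1.1.val.toRingHom with commutes' := fun _ ↦ rfl }
  have : LocallyOfFinitePresentation (Y := Spec (CommRingCat.of s.1)) f₀ := ‹_›
  have : Flat (pullback.snd (Z := Spec (CommRingCat.of s.1)) f₀
      (FlatStage.toBase (R₀ := s.1) (A : Type u))) := h
  obtain ⟨t, ht⟩ := FlatStage.exists_flat_stage (R₀ := s.1) (A := (A : Type u)) g can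
    (fun _ _ _ ↦ rfl)
    (fun a ↦ by
      let r : FGSub A := ⟨s.1 ⊔ Algebra.adjoin ℤ {(a : (A : Type u))}, s.2.sup
        (Subalgebra.fg_def.2 ⟨_, Set.finite_singleton _, rfl⟩)⟩
      exact ⟨⟨r, show s.1 ≤ r.1 from le_sup_left⟩, ⟨a, (le_sup_right : _ ≤ s.1 ⊔ _)
        (Algebra.self_mem_adjoin_singleton (A := (A : Type u)) ℤ a)⟩, rfl⟩)
    (fun t x hx ↦ ⟨t, le_rfl, Subtype.ext hx⟩) (X₀ := X₀) f₀
  exact ⟨Opposite.op t.1, (homOfLE (show s ≤ t.1 from t.2)).op, ht⟩

/-- A proper flat finitely presented scheme over an affine base, together with a function,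
comes from a proper flat one over a Noetherian ring. -/
theorem exists_model {A : CommRingCat.{u}} {X : Scheme.{u}} (f : X ⟶ Spec A)
    [IsProper f] [Flat f] [LocallyOfFinitePresentation f] (a : Γ(X, ⊤)) :
    ∃ (S₀ X₀ : Scheme.{u}) (_ : IsLocallyNoetherian S₀) (q : Spec A ⟶ S₀) (f₀ : X₀ ⟶ S₀)
      (p : X ⟶ X₀), IsPullback p f f₀ q ∧ IsProper f₀ ∧ Flat f₀ ∧
      ∃ a₀ : Γ(X₀, ⊤), p.appTop a₀ = a := by
  let c := fgCone A
  have hc := isLimitFgCone A
  let f' : X ⟶ c.pt := f
  have : IsProper f' := ‹_›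
  have : Flat f' := ‹_›
  have : LocallyOfFinitePresentation f' := ‹_›
  obtain ⟨i, ⟨M⟩⟩ := exists_stageModel hc f'
  have hsnd : M.sq.isoPullback.inv ≫ f' = pullback.snd M.hom (c.π.app i) := M.sq.isoPullback_inv_snd
  obtain ⟨j, φ, hj⟩ := baseSpreads_isProper (fgSchemes A) c hc M.hom (by
    rw [← hsnd]; infer_instance)
  have := QuasiCompact.compactSpace_of_compactSpace M.hom
  obtain ⟨k, χ, hk⟩ := exists_flat_fgStage (X₀ := M.obj) M.hom (by rw [← hsnd]; infer_instance)
  obtain ⟨l, α, β, hαβ⟩ : ∃ (l : (FGSub A)ᵒᵖ) (α : l ⟶ j) (β : l ⟶ k), α ≫ φ = β ≫ χ :=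
    ⟨IsCofiltered.min j k, IsCofiltered.minToLeft j k, IsCofiltered.minToRight j k,
      Subsingleton.elim _ _⟩
  let N := M.pull (α ≫ φ)
  have hN1 : IsProper N.hom := by
    refine isProper_pullback_fst M.hom _ ?_
    rw [Functor.map_comp, ← pullbackLeftPullbackSndIso_inv_snd_snd M.hom ((fgSchemes A).map φ) ((fgSchemes A).map α)]
    have : IsProper (pullback.snd M.hom ((fgSchemes A).map φ)) := hj
    infer_instance
  have hN2 : Flat N.hom := by
    refine (flat_pullback_fst_iff M.hom _).mpr ?_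
    rw [hαβ, Functor.map_comp]
    have : Flat (pullback.snd M.hom ((fgSchemes A).map χ)) := hk
    exact FlatStage.flat_snd_of_comp _ _ _
  let P := Groth.Limits.pullbackDiagram (fgSchemes A) l N.hom
  have hcs : ∀ m : Over l, CompactSpace (P.obj m) := fun m ↦ N.compactSpace_diagram m
  have hqs : ∀ m : Over l, QuasiSeparatedSpace (P.obj m) := fun m ↦ N.quasiSeparatedSpace_diagram m
  let e : X ≅ pullback (c.π.app l) N.hom := N.sq.flip.isoPullback
  obtain ⟨m, t, ht⟩ := exists_appTop_π_eq_of_isLimit P (Groth.Limits.pullbackCone (fgSchemes A) l N.hom c)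
    (Groth.Limits.isLimitPullbackCone (fgSchemes A) l N.hom hc) (e.inv.appTop a)
  let N' := N.pull m.hom
  have hp : e.hom ≫ (Groth.Limits.pullbackCone (fgSchemes A) l N.hom c).π.app m = N'.map :=
    N.isoPullback_π m
  refine ⟨_, N'.obj, inferInstance, c.π.app m.left, N'.hom, N'.map, N'.sq,
    MorphismProperty.pullback_fst _ _ hN1, MorphismProperty.pullback_fst _ _ hN2, t, ?_⟩
  rw [← hp, Scheme.Hom.comp_appTop, CommRingCat.comp_apply]
  refine (congrArg e.hom.appTop ht.symm).trans ?_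
  rw [← CommRingCat.comp_apply, ← Scheme.Hom.comp_appTop, e.hom_inv_id, Scheme.Hom.id_appTop]
  rfl

/-- The coordinate line. -/
noncomputable abbrev Line : Scheme.{u} := Spec (CommRingCat.of (MvPolynomial PUnit.{u + 1} (ULift.{u} ℤ)))

/-- A function as a morphism to the line. -/
noncomputable def lineHom {X : Scheme.{u}} (a : Γ(X, ⊤)) : X ⟶ Line.{u} :=
  (AffineSpace.toSpecMvPolyIntEquiv PUnit.{u + 1}).symm fun _ ↦ a

theorem comp_lineHom {X Y : Scheme.{u}} (g : X ⟶ Y) (a : Γ(Y, ⊤)) :
    g ≫ lineHom a = lineHom (g.appTop a) := by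
  apply (AffineSpace.toSpecMvPolyIntEquiv PUnit.{u + 1}).injective
  funext i
  rw [AffineSpace.toSpecMvPolyIntEquiv_comp]
  simp [lineHom]

theorem lineHom_injective {X : Scheme.{u}} : Function.Injective (lineHom (X := X)) := fun a b h ↦
  congrFun ((AffineSpace.toSpecMvPolyIntEquiv PUnit.{u + 1}).symm.injective h) PUnit.unit

/-- Constant fibre functions descend along field extensions. -/
theorem constFibre_of_isPullback {X X₀ S S₀ : Scheme.{u}} {p : X ⟶ X₀} {f : X ⟶ S} {f₀ : X₀ ⟶ S₀}
    {q : S ⟶ S₀} (H : IsPullback p f f₀ q) [QuasiCompact f₀] (s : S)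
    (hc : Rigid.ConstFibre f s) : Rigid.ConstFibre f₀ (q s) := by
  let k : Spec (S.residueField s) ⟶ Spec (S₀.residueField (q s)) := Spec.map (q.residueFieldMap s)
  have hk : k ≫ S₀.fromSpecResidueField (q s) = S.fromSpecResidueField s ≫ q :=
    q.SpecMap_residueFieldMap_fromSpecResidueField s
  have sq₀ : IsPullback (f₀.fiberι (q s)) (f₀.fiberToSpecResidueField (q s)) f₀
      (S₀.fromSpecResidueField (q s)) := IsPullback.of_hasPullback _ _
  have big : IsPullback (f.fiberι s ≫ p) (f.fiberToSpecResidueField s) f₀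
      (k ≫ S₀.fromSpecResidueField (q s)) := by
    rw [hk]
    exact (IsPullback.of_hasPullback f (S.fromSpecResidueField s)).paste_horiz H
  let l : f.fiber s ⟶ f₀.fiber (q s) := sq₀.lift (f.fiberι s ≫ p) (f.fiberToSpecResidueField s ≫ k)
    (by rw [big.w, Category.assoc])
  have hl : IsPullback l (f.fiberToSpecResidueField s) (f₀.fiberToSpecResidueField (q s)) k :=
    IsPullback.of_right (by rw [sq₀.lift_fst]; exact big) (sq₀.lift_snd _ _ _) sq₀
  have hfield : IsField Γ(Spec (S₀.residueField (q s)), ⊤) :=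
    (Scheme.ΓSpecIso (S₀.residueField (q s))).commRingCatIsoToRingEquiv.toMulEquiv.isField
      (Field.toIsField (S₀.residueField (q s)))
  have : Flat k := (HasRingHomProperty.Spec_iff (P := @Flat)).mpr (by
    let : Algebra (S₀.residueField (q s)) (S.residueField s) := (q.residueFieldMap s).hom.toAlgebra
    exact (inferInstance : Module.Flat (S₀.residueField (q s)) (S.residueField s)))
  have : CompactSpace ↥(f₀.fiber (q s)) :=
    QuasiCompact.compactSpace_of_compactSpace (pullback.snd f₀ (S₀.fromSpecResidueField (q s)))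
  intro x
  obtain ⟨r, hr⟩ := hc (l.appTop x)
  obtain ⟨c, hcx⟩ := Groth.ModelsGraphs.GlobalFun.mem_range_of_baseChange hl hfield x
    ((Scheme.ΓSpecIso (S.residueField s)).inv r) hr.symm
  refine ⟨(Scheme.ΓSpecIso (S₀.residueField (q s))).hom c, ?_⟩
  rw [← hcx]
  exact congrArg (f₀.fiberToSpecResidueField (q s)).appTop
    (Iso.hom_inv_id_apply (Scheme.ΓSpecIso (S₀.residueField (q s))) c)

/-- Functions on a proper flat family with constant fibre functions come from the affine base. -/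
theorem appTop_surjective {A : CommRingCat.{u}} {X : Scheme.{u}} (f : X ⟶ Spec A)
    [IsProper f] [Flat f] [LocallyOfFinitePresentation f] [Surjective f]
    (hc : ∀ s, Rigid.ConstFibre f s) : Function.Surjective f.appTop.hom := by
  intro a
  obtain ⟨S₀, X₀, _, q, f₀, p, H, _, _, a₀, ha₀⟩ := exists_model f a
  let U : Set S₀ := Set.range q
  have hconst : ∀ s ∈ U, Rigid.ConstFibre f₀ s := by
    rintro _ ⟨s, rfl⟩
    exact constFibre_of_isPullback H s (hc s)
  have hU : U ⊆ Rigid.collapseSet f₀ (lineHom a₀) := by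
    intro s hs
    obtain ⟨c, hc'⟩ := hconst s hs ((f₀.fiberι s).appTop a₀)
    have hfac : f₀.fiberι s ≫ lineHom a₀ =
        f₀.fiberToSpecResidueField s ≫ lineHom ((Scheme.ΓSpecIso (S₀.residueField s)).inv c) := by
      rw [comp_lineHom, comp_lineHom]
      exact congrArg lineHom hc'.symm
    rintro _ ⟨x₁, hx₁, rfl⟩ _ ⟨x₂, hx₂, rfl⟩
    rw [← Scheme.Hom.range_fiberι] at hx₁ hx₂
    obtain ⟨w₁, rfl⟩ := hx₁
    obtain ⟨w₂, rfl⟩ := hx₂
    rw [← Scheme.Hom.comp_apply, ← Scheme.Hom.comp_apply, hfac, Scheme.Hom.comp_apply, Scheme.Hom.comp_apply]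
    exact congrArg _ (Subsingleton.elim _ _)
  obtain ⟨O, hO, heq⟩ := Rigid.exists_open_of_collapse f₀ (lineHom a₀) U hU hconst
  let m : pullback f f ⟶ pullback f₀ f₀ := pullback.map f f f₀ f₀ p p q H.w.symm H.w.symm
  have hm₁ : m ≫ pullback.fst f₀ f₀ = pullback.fst f f ≫ p := pullback.lift_fst _ _ _
  have hm₂ : m ≫ pullback.snd f₀ f₀ = pullback.snd f f ≫ p := pullback.lift_snd _ _ _
  let m' := IsOpenImmersion.lift O.ι m (by
    rw [Scheme.Opens.range_ι]
    rintro _ ⟨z, rfl⟩
    refine hO ?_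
    show (pullback.fst f₀ f₀ ≫ f₀) (m z) ∈ U
    rw [← Scheme.Hom.comp_apply, reassoc_of% hm₁, H.w]
    exact ⟨_, rfl⟩)
  have heq' := congrArg (m' ≫ ·) heq
  simp only [m', IsOpenImmersion.lift_fac_assoc, reassoc_of% hm₁, reassoc_of% hm₂] at heq'
  rw [comp_lineHom p, ha₀] at heq'
  obtain ⟨k, hk⟩ := Rigid.exists_desc_of_comp_eq f (lineHom a) heq' 
  refine ⟨AffineSpace.toSpecMvPolyIntEquiv PUnit.{u + 1} k PUnit.unit, ?_⟩
  rw [← AffineSpace.toSpecMvPolyIntEquiv_comp, hk]
  simp [lineHom]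

theorem appTop_injective {X S : Scheme.{u}} (f : X ⟶ S) [Flat f] [Surjective f] :
    Function.Injective f.appTop.hom := fun a b h ↦ by
  have := Flat.epi_of_flat_of_surjective f
  refine lineHom_injective ((cancel_epi f).mp ?_)
  rw [comp_lineHom, comp_lineHom]
  exact congrArg lineHom h

/-- Reduced and connected geometric fibres give geometrically reduced and connected. -/
theorem geometrically_of_algClosed {X S : Scheme.{u}} (f : X ⟶ S)
    (h : ∀ (K : Type u) [Field K] [IsAlgClosed K] (g : Spec (CommRingCat.of K) ⟶ S),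
      IsReduced (pullback f g) ∧ ConnectedSpace ↥(pullback f g)) :
    GeometricallyReduced f ∧ GeometricallyConnected f := by
  suffices key : ∀ (K : Type u) [Field K] (y : Spec (CommRingCat.of K) ⟶ S) (P : Scheme.{u}) (fst : P ⟶ X)
      (snd : P ⟶ Spec (CommRingCat.of K)), IsPullback fst snd f y → IsReduced P ∧ ConnectedSpace ↥P by
    exact ⟨⟨fun K _ y P a b hP ↦ (key K y P a b hP).1⟩, ⟨fun K _ y P a b hP ↦ (key K y P a b hP).2⟩⟩
  intro K _ y P fst snd hP
  let E := AlgebraicClosure K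
  let k : Spec (CommRingCat.of E) ⟶ Spec (CommRingCat.of K) :=
    Spec.map (CommRingCat.ofHom (algebraMap K E))
  have : Flat k := (HasRingHomProperty.Spec_iff (P := @Flat)).mpr
    (RingHom.flat_algebraMap_iff.mpr inferInstance)
  have : Surjective k := ⟨fun y ↦ ⟨Classical.arbitrary _, Subsingleton.elim _ _⟩⟩
  obtain ⟨hr, hco⟩ := h E (k ≫ y)
  let l : pullback f (k ≫ y) ⟶ P := hP.lift (pullback.fst _ _) (pullback.snd _ _ ≫ k)
    (by rw [pullback.condition, Category.assoc])
  have hl : IsPullback l (pullback.snd f (k ≫ y)) snd k :=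
    IsPullback.of_right (by rw [hP.lift_fst]; exact IsPullback.of_hasPullback _ _) (hP.lift_snd _ _ _) hP
  have : Flat l := MorphismProperty.of_isPullback hl.flip ‹_›
  have : Surjective l := MorphismProperty.of_isPullback hl.flip ‹_›
  exact ⟨Groth.Agf.isReduced_of_flat_surjective l, l.surjective.connectedSpace l.continuous⟩

variable {X S : Scheme.{u}} (f : X ⟶ S) [IsProper f] [Flat f] [LocallyOfFinitePresentation f]
  [GeometricallyReduced f] [GeometricallyConnected f]

theorem appTop_bijective : Function.Bijective f.appTop.hom := by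
  refine ⟨appTop_injective f, fun a ↦ ?_⟩
  obtain ⟨k, hk⟩ := Rigid.exists_desc_of_comp_eq f (lineHom a) (Scheme.hom_ext_of_forall _ _ fun z ↦ by
    let h := pullback.fst f f ≫ f
    obtain ⟨_, ⟨V', hV, rfl⟩, hzV, -⟩ :=
      S.isBasis_affineOpens.exists_subset_of_mem_open (Set.mem_univ (h z)) isOpen_univ
    let V : S.Opens := V'
    have hV : IsAffineOpen V := hV
    let O : (pullback f f).Opens := h ⁻¹ᵁ V
    let t : O.toScheme ⟶ Spec Γ(S, V) := IsOpenImmersion.lift hV.fromSpec (O.ι ≫ h) (by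
      rw [hV.range_fromSpec]
      rintro _ ⟨⟨w, hw⟩, rfl⟩
      exact hw)
    have ht : t ≫ hV.fromSpec = O.ι ≫ h := IsOpenImmersion.lift_fac _ _ _
    obtain ⟨c, hc⟩ := appTop_surjective (pullback.snd f hV.fromSpec)
      (fun s ↦ Rigid.constFibre_of_geometrically _ s) ((pullback.fst f hV.fromSpec).appTop a)
    have key : pullback.fst f hV.fromSpec ≫ lineHom a = pullback.snd f hV.fromSpec ≫ lineHom c := by
      rw [comp_lineHom, comp_lineHom]
      exact congrArg lineHom hc.symm
    let u₁ : O.toScheme ⟶ pullback f hV.fromSpec := pullback.lift (O.ι ≫ pullback.fst f f) t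
      (by rw [Category.assoc, ht])
    let u₂ : O.toScheme ⟶ pullback f hV.fromSpec := pullback.lift (O.ι ≫ pullback.snd f f) t
      (by rw [Category.assoc, ht, ← pullback.condition])
    refine ⟨O, hzV, ?_⟩
    have e₁ := congrArg (u₁ ≫ ·) key
    have e₂ := congrArg (u₂ ≫ ·) key
    simp only [u₁, u₂, pullback.lift_fst_assoc, pullback.lift_snd_assoc, Category.assoc] at e₁ e₂
    rw [e₁, e₂])
  refine ⟨AffineSpace.toSpecMvPolyIntEquiv PUnit.{u + 1} k PUnit.unit, ?_⟩
  rw [← AffineSpace.toSpecMvPolyIntEquiv_comp, hk]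
  simp [lineHom]

/-- `f_* O_X = O_S`. -/
theorem app_bijective (V : S.Opens) : Function.Bijective (f.app V).hom := by
  have sq := (isPullback_morphismRestrict f V).flip
  have : GeometricallyReduced (f ∣_ V) := MorphismProperty.of_isPullback sq ‹_›
  have : GeometricallyConnected (f ∣_ V) := MorphismProperty.of_isPullback sq ‹_›
  have : Flat (f ∣_ V) := MorphismProperty.of_isPullback sq ‹_›
  have : LocallyOfFinitePresentation (f ∣_ V) := MorphismProperty.of_isPullback sq ‹_›
  have : IsProper (f ∣_ V) := MorphismProperty.of_isPullback sq ‹_›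
  have hb := appTop_bijective (f ∣_ V)
  have hiso : IsIso (f ∣_ V).appTop := (ConcreteCategory.isIso_iff_bijective _).mpr hb
  rw [morphismRestrict_appTop] at hiso
  have : IsIso (f.app (V.ι ''ᵁ ⊤)) := IsIso.of_isIso_comp_right _
    (X.presheaf.map (eqToHom (image_morphismRestrict_preimage f V ⊤)).op)
  have h : ∀ W : S.Opens, W = V.ι ''ᵁ ⊤ → IsIso (f.app W) := fun W hW ↦ by subst hW; assumption
  have := h V (Scheme.Opens.ι_image_top V).symm
  exact ConcreteCategory.bijective_of_isIso (f.app V)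

end Groth.GrpschAbsch.H0General
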