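import Mathlib.RingTheory.Nilpotent.GeometricallyReduced
import Mathlib.RingTheory.Trace.Basic
import Mathlib.RingTheory.TensorProduct.Finite
import Mathlib.LinearAlgebra.Trace
import Mathlib.FieldTheory.Perfect
import Mathlib.RingTheory.IntegralClosure.Algebra.Basic

/-!
Reduced algebras over perfect fields are geometrically reduced (trace form argument).
-/

universe u

open TensorProduct Matrix

namespace Groth.GrpschAbsch

variable {k L A : Type*} [Field k] [Field L] [Algebra k L] [CommRing A] [Algebra k A]

lemma trace_one_tmul [FiniteDimensional k L] (l : L) :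
    Algebra.trace A (A ⊗[k] L) (1 ⊗ₜ l) = algebraMap k A (Algebra.trace k L l) := by
  rw [Algebra.trace_apply, Algebra.trace_apply, ← LinearMap.trace_baseChange (R := k)]
  congr 1
  ext x
  simp

/-- A reduced algebra stays reduced after a finite separable extension of the base field. -/
lemma isReduced_tensor_of_isSeparable [FiniteDimensional k L] [Algebra.IsSeparable k L]
    [IsReduced A] : IsReduced (A ⊗[k] L) := by
  classical
  let b := Module.finBasis k L
  let b' := Algebra.TensorProduct.basis A b
  have hM : Algebra.traceMatrix A (b' : _ → A ⊗[k] L) =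
      (Algebra.traceMatrix k (b : _ → L)).map (algebraMap k A) := by
    ext i j
    simp [Algebra.traceMatrix_apply, Algebra.traceForm_apply, b', trace_one_tmul]
  have hdet : IsUnit (Algebra.traceMatrix A (b' : _ → A ⊗[k] L)).det := by
    rw [hM, ← RingHom.mapMatrix_apply, ← RingHom.map_det, Algebra.traceMatrix_of_basis]
    exact (isUnit_iff_ne_zero.mpr (det_traceForm_ne_zero b)).map _
  refine ⟨fun z hz ↦ ?_⟩
  have h : Algebra.traceMatrix A (b' : _ → A ⊗[k] L) *ᵥ b'.equivFun z = 0 := by
    rw [Algebra.traceMatrix_of_basis_mulVec]
    ext i
    exact (Algebra.isNilpotent_trace_of_isNilpotent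
      ((Commute.all z (b' i)).isNilpotent_mul_right hz)).eq_zero
  refine b'.equivFun.injective ?_
  rw [map_zero]
  exact Matrix.mulVec_injective_of_isUnit
    ((Matrix.isUnit_iff_isUnit_det _).mpr hdet) (h.trans (Matrix.mulVec_zero _).symm)

/-- A reduced algebra over a perfect field is geometrically reduced. -/
theorem isGeometricallyReduced_of_perfectField (k A : Type*) [Field k] [PerfectField k]
    [CommRing A] [Algebra k A] [IsReduced A] : Algebra.IsGeometricallyReduced k A := by
  rw [Algebra.isGeometricallyReduced_field_iff]
  have : IsReduced (A ⊗[k] AlgebraicClosure k) := by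
    refine IsReduced.tensorProduct_of_flat_of_forall_fg fun B hB ↦ ?_
    have : Algebra.IsIntegral k B := Algebra.IsIntegral.of_injective B.val Subtype.val_injective
    have : Algebra.FiniteType k B := (B.fg_iff_finiteType).mp hB
    have : Module.Finite k B := Algebra.IsIntegral.finite
    let : Field B := (isField_of_isIntegral_of_isField' (R := k) (S := B) (Field.toIsField k)).toField
    exact isReduced_tensor_of_isSeparable
  exact isReduced_of_injective (Algebra.TensorProduct.comm k (AlgebraicClosure k) A)
    (Algebra.TensorProduct.comm k (AlgebraicClosure k) A).injective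

end Groth.GrpschAbsch
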