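import Mathlib.AlgebraicGeometry.AffineSpace
import Mathlib.AlgebraicGeometry.Morphisms.Flat
import Mathlib.AlgebraicGeometry.Morphisms.Smooth
import Mathlib.RingTheory.Smooth.Basic
import Mathlib.RingTheory.RingHom.Flat

/-!
Affine space: flatness of coordinate projections, smoothness.
-/

universe u

open CategoryTheory Limits AlgebraicGeometry AffineSpace

namespace Groth.GrpschAbsch

lemma flat_rename {A : Type u} [CommRing A] {m n : Type u} (i : m → n) (hi : Function.Injective i) :
    RingHom.Flat (MvPolynomial.rename (R := A) i).toRingHom := by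
  classical
  let c := {x : n // x ∉ Set.range i}
  let e : c ⊕ m ≃ n := ((Equiv.refl _).sumCongr (Equiv.ofInjective i hi)).trans
    ((Equiv.sumComm _ _).trans (Equiv.sumCompl (· ∈ Set.range i)))
  have he : i = e ∘ Sum.inr := rfl
  have h : (MvPolynomial.rename (R := A) i).toRingHom =
      ((MvPolynomial.renameEquiv A e).toRingHom.comp
        (MvPolynomial.sumAlgEquiv A c m).symm.toRingHom).comp
        (algebraMap (MvPolynomial m A) (MvPolynomial c (MvPolynomial m A))) := by
    ext q
    · simp
    · simp [he]
  rw [h]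
  refine RingHom.Flat.comp ?_ (RingHom.Flat.of_bijective ?_)
  · exact RingHom.flat_algebraMap_iff.mpr inferInstance
  · exact (MvPolynomial.renameEquiv A e).bijective.comp (MvPolynomial.sumAlgEquiv A c m).symm.bijective

/-- Dropping coordinates is flat. -/
lemma flat_reindex {m n : Type u} (i : m → n) (hi : Function.Injective i) (S : Scheme.{u}) :
    Flat (reindex i S) := by
  let T : Scheme.{u} := Spec (CommRingCat.of (ULift.{u} ℤ))
  let f : S ⟶ T := specULiftZIsTerminal.from S
  have hsq : IsPullback (map n f) (reindex i S) (reindex i T) (map m f) := by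
    refine IsPullback.of_bot (v₂₁ := 𝔸(m; S) ↘ S) (v₂₂ := 𝔸(m; T) ↘ T) (h₃₁ := f) ?_
      (map_reindex i f) (isPullback_map f)
    rw [reindex_over, reindex_over]
    exact isPullback_map f
  refine MorphismProperty.of_isPullback (P := @Flat) hsq ?_
  let A : CommRingCat.{u} := CommRingCat.of (ULift.{u} ℤ)
  let r : CommRingCat.of (MvPolynomial m A) ⟶ CommRingCat.of (MvPolynomial n A) :=
    CommRingCat.ofHom (MvPolynomial.rename (R := A) i).toRingHom
  have e : (SpecIso n A).inv ≫ reindex i (Spec A) = Spec.map r ≫ (SpecIso m A).inv := by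
    refine hom_ext ?_ fun j ↦ ?_
    · simp only [Category.assoc, reindex_over, SpecIso_inv_over, ← Spec.map_comp]
      congr 1
      exact CommRingCat.hom_ext (RingHom.ext fun b ↦ (MvPolynomial.rename_C i b).symm)
    · rw [Scheme.Hom.comp_appTop, CommRingCat.comp_apply, reindex_appTop_coord,
        SpecIso_inv_appTop_coord, Scheme.Hom.comp_appTop, CommRingCat.comp_apply,
        SpecIso_inv_appTop_coord]
      refine Eq.trans ?_ (congr($(Scheme.ΓSpecIso_inv_naturality r) (MvPolynomial.X j)))
      exact congrArg _ (MvPolynomial.rename_X i j).symm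
  have : Flat (Spec.map r) := (HasRingHomProperty.Spec_iff (P := @Flat)).mpr (flat_rename i hi)
  have h2 : Flat ((SpecIso n A).inv ≫ reindex i (Spec A)) := by rw [e]; infer_instance
  exact (MorphismProperty.cancel_left_of_respectsIso (P := @Flat) (SpecIso n A).inv _).mp h2

/-- Affine space is smooth. -/
lemma smooth_affineSpace (n : Type u) [Finite n] (S : Scheme.{u}) : Smooth (𝔸(n; S) ↘ S) := by
  let A : CommRingCat.{u} := CommRingCat.of (ULift.{u} ℤ)
  refine MorphismProperty.of_isPullback (P := @Smooth)
    (isPullback_map (n := n) (specULiftZIsTerminal.from S)) ?_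
  have h2 : Smooth ((SpecIso n A).inv ≫ 𝔸(n; Spec A) ↘ Spec A) := by
    rw [SpecIso_inv_over, HasRingHomProperty.Spec_iff (P := @Smooth)]
    show RingHom.Smooth (algebraMap A (MvPolynomial n A))
    exact RingHom.smooth_algebraMap.mpr ⟨inferInstance, inferInstance⟩
  exact (MorphismProperty.cancel_left_of_respectsIso (P := @Smooth) (SpecIso n A).inv _).mp h2

end Groth.GrpschAbsch
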