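import Groth.Agent.AlgGrp1.Rigidity
import Groth.Agent.AlgGrp1.Sub
import Groth.Agent.AlgGrp1.Geom
import Groth.Agent.AlgGrp1.Points
import Groth.Agent.AlgGrp1.AffineKernel
import Groth.Agent.VarietyBC.TensorGeom
import Groth.Agent.VarietyBC.Reduced
import Groth.Agent.DescentBase.TopDescent
import Groth.Agent.GrpschAbsch.H0General
import Groth.Agent.GrpschAbsch.IntegralDim
import Groth.Agent.FibreDim.OpenFibre
import Groth.Agent.FibreDim.BaseChange
import Groth.Agent.FibreDim.Equidim
import Mathlib.AlgebraicGeometry.AlgClosed.Basic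
import Mathlib.AlgebraicGeometry.Geometrically.Integral

/-!
Translations on an abelian variety carry connected pieces of fibres of a morphism into fibres.
-/

set_option autoImplicit false
universe u

open CategoryTheory CategoryTheory.Limits MonoidalCategory CartesianMonoidalCategory MonObj GrpObj
  AlgebraicGeometry TopologicalSpace

namespace Groth.GrpschAbsch.FibreTranslate

variable {k : Type u} [Field k] {X : Over (Spec (CommRingCat.of k))} [GrpObj X] [IsProper X.hom]
  [GeometricallyIntegral X.hom] {Y : Scheme.{u}} (q : Y ⟶ Spec (CommRingCat.of k)) [IsSeparated q]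
  (f : X.left ⟶ Y) (hf : f ≫ q = X.hom)

local instance : Subsingleton (𝟙_ (Over (Spec (CommRingCat.of k)))).left :=
  inferInstanceAs (Subsingleton (Spec (CommRingCat.of k)))

local instance : IsReduced (𝟙_ (Over (Spec (CommRingCat.of k)))).left :=
  inferInstanceAs (IsReduced (Spec (CommRingCat.of k)))

include hf in
/-- A morphism to a separated scheme sending a proper piece `D` with constant functions to a point
sends every translate of `D` to a point. -/
theorem image_translate {D : Over (Spec (CommRingCat.of k))} [IsProper D.hom] [IsReduced D.left]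
    (hD : Groth.AlgGrp1.HasConstFunctions D) (d₀ : 𝟙_ _ ⟶ D) (i : D ⟶ X)
    (hconst : ∀ d, f (i.left d) = f ((d₀ ≫ i).left (IsLocalRing.closedPoint k)))
    (v : 𝟙_ _ ⟶ X) (d : D.left) :
    f ((Groth.AlgGrp1.translIso v).hom.left (i.left d)) =
      f ((d₀ ≫ i ≫ (Groth.AlgGrp1.translIso v).hom).left (IsLocalRing.closedPoint k)) := by
  have := Groth.AlgGrp1.isLocallyNoetherian_left X
  have : IsIntegral X.left := GeometricallyIntegral.isIntegral_of_subsingleton X.hom
  let W : Over (Spec (CommRingCat.of k)) := Over.mk q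
  let fO : X ⟶ W := Over.homMk f hf
  let z₀ : 𝟙_ _ ⟶ W := d₀ ≫ i ≫ fO
  have : IsSeparated W.hom := ‹IsSeparated q›
  have : IsClosedImmersion z₀.left := by
    have : IsClosedImmersion (z₀.left ≫ W.hom) := by
      rw [Over.w]; exact inferInstanceAs (IsClosedImmersion (𝟙 (Spec (CommRingCat.of k))))
    exact IsClosedImmersion.of_comp z₀.left W.hom
  obtain ⟨c, hc⟩ := Groth.AlgGrp1.exists_factor_of_range_subset z₀ (i ≫ fO) (by
    rintro _ ⟨a, rfl⟩
    exact ⟨IsLocalRing.closedPoint k, (hconst a).symm⟩)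
  have e0 : toUnit D ≫ z₀ = i ≫ fO := by rw [← hc, toUnit_unique c (toUnit D)]
  let m : D ⊗ X ⟶ W := (snd D X * (fst D X ≫ i)) ≫ fO
  have key := Groth.AlgGrp1.eq_snd_comp_of_const hD d₀ (1 : 𝟙_ _ ⟶ X) z₀ m (by
    have e : (D ◁ (1 : 𝟙_ _ ⟶ X)) ≫ m = fst D (𝟙_ _) ≫ i ≫ fO := by
      show (D ◁ (1 : 𝟙_ _ ⟶ X)) ≫ (snd D X * (fst D X ≫ i)) ≫ fO = _
      rw [MonObj.comp_mul_assoc, whiskerLeft_snd, MonObj.comp_one, _root_.one_mul, whiskerLeft_fst_assoc,
        Category.assoc]
    rw [e, ← e0, ← Category.assoc]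
    congr 1)
  have h := congrArg (fun r => lift (𝟙 D) (toUnit D ≫ v) ≫ r) key
  have hl : lift (𝟙 D) (toUnit D ≫ v) ≫ m = i ≫ (Groth.AlgGrp1.translIso v).hom ≫ fO := by
    show lift (𝟙 D) (toUnit D ≫ v) ≫ (snd D X * (fst D X ≫ i)) ≫ fO =
      i ≫ ((toUnit X ≫ v) * 𝟙 X) ≫ fO
    rw [MonObj.comp_mul_assoc, MonObj.comp_mul_assoc, lift_snd, lift_fst_assoc, Category.id_comp,
      Category.comp_id, ← Category.assoc i, toUnit_unique (i ≫ toUnit X) (toUnit D)]
  rw [hl, lift_snd_assoc, Category.assoc] at h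
  have h' : i ≫ (Groth.AlgGrp1.translIso v).hom ≫ fO =
      toUnit D ≫ d₀ ≫ i ≫ (Groth.AlgGrp1.translIso v).hom ≫ fO := by
    rw [h, ← Category.assoc d₀, ← Category.assoc (toUnit D) (d₀ ≫ toUnit D),
      toUnit_unique (d₀ ≫ toUnit D) (𝟙 _), Category.comp_id]
  have e := congr(($h').left.base d)
  simp only [Over.comp_left, Scheme.Hom.comp_base, TopCat.comp_app] at e
  refine e.trans ?_
  rw [Subsingleton.elim ((toUnit D).left.base d) (IsLocalRing.closedPoint k)]
  rfl

include hf in
/-- The translation by `y * x⁻¹` maps the component of `z` into the fibre over `f y`. -/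
theorem translate_mem_fibre {x : 𝟙_ _ ⟶ X} (y : 𝟙_ _ ⟶ X) {T : Set X.left} (hT : IsClosed T)
    (hxT : x.left (IsLocalRing.closedPoint k) ∈ T)
    (hconst : ∀ t ∈ T, f t = f (x.left (IsLocalRing.closedPoint k)))
    (hgood : ∀ (D : Over (Spec (CommRingCat.of k))) (i : D ⟶ X), IsClosedImmersion i.left →
      Set.range i.left = T → IsReduced D.left → (𝟙_ _ ⟶ D) → Groth.AlgGrp1.HasConstFunctions D) :
    ∀ t ∈ T, f ((Groth.AlgGrp1.translIso (y * x⁻¹)).hom.left t) = f (y.left (IsLocalRing.closedPoint k)) := by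
  obtain ⟨T', c, _, hc⟩ := Groth.DescentBase.exists_closedImmersion_range hT
  obtain ⟨D, d, _, _, _⟩ := Groth.AlgGrp1.exists_reduced (Over.mk (c ≫ X.hom))
  let i : D ⟶ X := d ≫ (Over.homMk c : Over.mk (c ≫ X.hom) ⟶ X)
  have : IsClosedImmersion i.left := inferInstanceAs (IsClosedImmersion (d.left ≫ c))
  have hi : Set.range i.left = T := by
    show Set.range (c.base ∘ d.left.base) = T
    rw [Set.range_comp, d.left.surjective.range_eq, Set.image_univ]
    exact hc
  have : IsProper D.hom := by rw [← Over.w i]; infer_instance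
  obtain ⟨d₀, hd₀⟩ := Groth.AlgGrp1.exists_factor_of_range_subset i x (by
    rintro _ ⟨a, rfl⟩
    rw [Subsingleton.elim a (IsLocalRing.closedPoint k), hi]
    exact hxT)
  intro t ht
  obtain ⟨a, rfl⟩ := hi.ge ht
  refine (image_translate q f hf (hgood D i inferInstance hi inferInstance d₀) d₀ i
    (fun b => by rw [hd₀]; exact hconst _ (hi.le ⟨b, rfl⟩)) (y * x⁻¹) a).trans ?_
  congr 2
  have : x ≫ (Groth.AlgGrp1.translIso (y * x⁻¹)).hom = y := by
    show x ≫ ((toUnit X ≫ (y * x⁻¹)) * 𝟙 X) = y
    rw [MonObj.comp_mul, Category.comp_id, ← Category.assoc, toUnit_unique (x ≫ toUnit X) (𝟙 _),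
      Category.id_comp, inv_mul_cancel_right]
  rw [← Category.assoc, hd₀, this]

include hf in
theorem fibreDimAt_le_of_closed [IsAlgClosed k] [LocallyOfFiniteType f] {a b : X.left}
    (ha : IsClosed {a}) (hb : IsClosed {b}) : FlatMor.fibreDimAt f a ≤ FlatMor.fibreDimAt f b := by
  let x : 𝟙_ _ ⟶ X := Over.homMk _ ((pointEquivClosedPoint X.hom).symm ⟨a, ha⟩).2
  let y : 𝟙_ _ ⟶ X := Over.homMk _ ((pointEquivClosedPoint X.hom).symm ⟨b, hb⟩).2
  have hxa : x.left (IsLocalRing.closedPoint k) = a := by simp [x, pointEquivClosedPoint]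
  have hyb : y.left (IsLocalRing.closedPoint k) = b := by simp [y, pointEquivClosedPoint]
  obtain ⟨z, hz, hza, -, hzh⟩ := Groth.FibreDim.exists_maximal_fibre_point f a
  -- the fibre over a rational point is closed
  have hcl : ∀ p : 𝟙_ (Over (Spec (CommRingCat.of k))) ⟶ X,
      IsClosed ({f (p.left (IsLocalRing.closedPoint k))} : Set Y) := fun p => by
    have : IsClosedImmersion ((p.left ≫ f) ≫ q) := by
      rw [Category.assoc, hf, Over.w]; exact inferInstanceAs (IsClosedImmersion (𝟙 (Spec (CommRingCat.of k))))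
    have := IsClosedImmersion.of_comp (p.left ≫ f) q
    have e : ({f (p.left (IsLocalRing.closedPoint k))} : Set Y) = Set.range (p.left ≫ f) := by
      ext w
      refine ⟨fun hw => ⟨IsLocalRing.closedPoint k, hw.symm⟩, ?_⟩
      rintro ⟨t, rfl⟩
      rw [Subsingleton.elim t (IsLocalRing.closedPoint k)]
      rfl
    rw [e]
    exact (p.left ≫ f).isClosedEmbedding.isClosed_range
  have key := translate_mem_fibre q f hf y (x := x) (T := closure {z}) isClosed_closure
    (hxa ▸ specializes_iff_mem_closure.1 hza) (fun t ht => by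
      have : f.base '' closure {z} ⊆ {f a} := by
        refine (image_closure_subset_closure_image f.continuous).trans ?_
        rw [Set.image_singleton, hz]
        exact (hxa ▸ hcl x).closure_eq.le
      rw [hxa]
      exact this ⟨t, ht, rfl⟩) fun D i _ hi _ e => by
      have : IrreducibleSpace D.left := by
        have := i.left.isEmbedding
        have : PreirreducibleSpace D.left :=
          ⟨fun U V hU hV ⟨a, _, ha⟩ ⟨b, _, hb⟩ => by
            obtain ⟨U', hU', rfl⟩ := this.isInducing.isOpen_iff.1 hU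
            obtain ⟨V', hV', rfl⟩ := this.isInducing.isOpen_iff.1 hV
            obtain ⟨w, hw, hwU, hwV⟩ := ((isIrreducible_singleton (x := z)).closure).isPreirreducible U' V' hU' hV'
              ⟨_, hi.le ⟨a, rfl⟩, ha⟩ ⟨_, hi.le ⟨b, rfl⟩, hb⟩
            obtain ⟨c, rfl⟩ := hi.ge hw
            exact ⟨c, trivial, hwU, hwV⟩⟩
        exact { toNonempty := ⟨e.left (IsLocalRing.closedPoint k)⟩ }
      have : IsIntegral D.left := isIntegral_of_irreducibleSpace_of_isReduced D.left
      have : IsProper D.hom := by rw [← Over.w i]; infer_instance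
      exact Groth.AlgGrp1.hasConstFunctions_of_isIntegral e
  set φ := (Groth.AlgGrp1.translIso (y * x⁻¹)).hom.left with hφ
  have : IsIso φ := inferInstanceAs (IsIso ((Over.forget _).map (Groth.AlgGrp1.translIso (y * x⁻¹)).hom))
  have hφa : φ a = b := by
    have : x ≫ (Groth.AlgGrp1.translIso (y * x⁻¹)).hom = y := by
      show x ≫ ((toUnit X ≫ (y * x⁻¹)) * 𝟙 X) = y
      rw [MonObj.comp_mul, Category.comp_id, ← Category.assoc, toUnit_unique (x ≫ toUnit X) (𝟙 _),
        Category.id_comp, inv_mul_cancel_right]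
    rw [← hxa, ← hyb]
    exact congr(($this).left.base (IsLocalRing.closedPoint k))
  have hw : f (φ z) = f b := (key z (subset_closure rfl)).trans (congrArg f hyb)
  -- heights
  have hh : ∀ w : X.left, IsClosed ({f w} : Set Y) → Order.height w = Order.height (f.asFiber w) := by
    intro w hwc
    have : IsClosedImmersion (f.fiberι (f w)) := IsClosedImmersion.of_isPreimmersion _ (by
      rw [f.range_fiberι]; exact hwc.preimage f.continuous)
    conv_lhs => rw [← f.fiberι_asFiber w]
    exact Groth.GrpschAbsch.height_eq_of_isIntegralHom _ _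
  refine le_trans ?_ (Groth.FibreDim.fibreDimAt_le_of_specializes f (hφa ▸ hza.map φ.continuous))
  rw [← hzh, ← hh z (hz ▸ hxa ▸ hcl x), ← Groth.GrpschAbsch.height_eq_of_isIntegralHom φ z,
    hh (φ z) (hw ▸ hyb ▸ hcl y)]
  rw [Groth.FibreDim.fibreDimAt_eq_height_add]
  exact le_add_of_nonneg_right ringKrullDim_nonneg_of_nontrivial

include hf in
/-- All fibres are equidimensional of one dimension. -/
theorem exists_fibreDimAt_eq : ∃ d : ℕ, ∀ x, FlatMor.fibreDimAt f x = d := by
  have : LocallyOfFiniteType (f ≫ q) := by rw [hf]; infer_instance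
  have : LocallyOfFiniteType f := locallyOfFiniteType_of_comp f q
  let t : Spec (CommRingCat.of (AlgebraicClosure k)) ⟶ Spec (CommRingCat.of k) :=
    Spec.map (CommRingCat.ofHom (algebraMap k (AlgebraicClosure k)))
  have : Surjective t := ⟨fun r => ⟨IsLocalRing.closedPoint _, Subsingleton.elim _ _⟩⟩
  letI : GrpObj ((Over.pullback t).obj X) := Functor.grpObjObj
  have : IsProper ((Over.pullback t).obj X).hom := inferInstanceAs (IsProper (pullback.snd X.hom t))
  have : GeometricallyIntegral ((Over.pullback t).obj X).hom :=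
    inferInstanceAs (GeometricallyIntegral (pullback.snd X.hom t))
  let f' : pullback X.hom t ⟶ pullback q t :=
    pullback.lift (pullback.fst _ _ ≫ f) (pullback.snd _ _) (by rw [Category.assoc, hf, pullback.condition])
  have sq : IsPullback (pullback.fst X.hom t) f' f (pullback.fst q t) := by
    refine IsPullback.of_bot ?_ (pullback.lift_fst _ _ _).symm (IsPullback.of_hasPullback q t)
    rw [hf, pullback.lift_snd]
    exact IsPullback.of_hasPullback X.hom t
  have : LocallyOfFiniteType f' := MorphismProperty.of_isPullback sq inferInstance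
  have : JacobsonSpace ↥(pullback X.hom t) :=
    LocallyOfFiniteType.jacobsonSpace (pullback.snd X.hom t)
  have hne : Nonempty ↥(pullback X.hom t) :=
    ⟨η[(Over.pullback t).obj X].left (IsLocalRing.closedPoint (AlgebraicClosure k))⟩
  obtain ⟨a, -, ha⟩ := nonempty_inter_closedPoints (Z := (Set.univ : Set ↥(pullback X.hom t)))
    Set.univ_nonempty isOpen_univ.isLocallyClosed
  obtain ⟨d, hd⟩ := Groth.FibreDim.fibreDimAt_ne_top f' a
  have hall : ∀ b : ↥(pullback X.hom t), IsClosed {b} → FlatMor.fibreDimAt f' b = d := fun b hb =>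
    hd ▸ le_antisymm
      (fibreDimAt_le_of_closed (X := (Over.pullback t).obj X) (pullback.snd q t) f' (pullback.lift_snd _ _ _) hb ha)
      (fibreDimAt_le_of_closed (X := (Over.pullback t).obj X) (pullback.snd q t) f' (pullback.lift_snd _ _ _) ha hb)
  refine ⟨d, fun x => ?_⟩
  obtain ⟨p, rfl⟩ := (pullback.fst X.hom t).surjective x
  rw [← Groth.FibreDim.fibreDimAt_baseChange f (pullback.fst q t) f' (pullback.fst X.hom t) sq p]
  obtain ⟨n, hn⟩ := Groth.FibreDim.fibreDimAt_ne_top f' p
  rw [hn]
  rcases lt_trichotomy n d with hlt | heq | hgt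
  · obtain ⟨c, hcm, hc⟩ := nonempty_inter_closedPoints
      (Z := {w | FlatMor.fibreDimAt f' w ≤ (n : WithBot ℕ∞)}) ⟨p, hn.le⟩
      (Groth.FibreDim.isOpen_fibreDimAt_le f' n).isLocallyClosed
    rw [Set.mem_setOf_eq, hall c hc] at hcm
    exact absurd (by exact_mod_cast hcm) (not_le.2 hlt)
  · rw [heq]
  · obtain ⟨c, hcm, hc⟩ := nonempty_inter_closedPoints
      (Z := {w | FlatMor.fibreDimAt f' w ≤ (d : WithBot ℕ∞)}ᶜ)
      ⟨p, fun h : FlatMor.fibreDimAt f' p ≤ (d : WithBot ℕ∞) => by
        rw [hn] at h; exact absurd (by exact_mod_cast h) (not_le.2 hgt)⟩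
      (Groth.FibreDim.isOpen_fibreDimAt_le f' d).isClosed_compl.isLocallyClosed
    exact absurd (hall c hc).le hcm

/-- A reduced scheme over a perfect field is geometrically reduced. -/
theorem geometricallyReduced_of_perfectField [PerfectField k] (D : Over (Spec (CommRingCat.of k)))
    [IsReduced D.left] : GeometricallyReduced D.hom := by
  letI : D.left.Over (Spec (CommRingCat.of k)) := ⟨D.hom⟩
  refine (Groth.VarietyBC.geometricallyReduced_iff_forall (k := k) (X := D.left)).2 fun x => ?_
  rw [Groth.VarietyBC.isGeomReducedAt_iff]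
  letI := Curv2.stalkAlgebra k D.left x
  exact Groth.VarietyBC.isGeometricallyReduced_of_perfectField _

omit [GrpObj X] [IsProper X.hom] [GeometricallyIntegral X.hom] in
/-- Connected reduced proper schemes with a rational point over a perfect field have only constant
functions. -/
theorem hasConstFunctions_of_connected [PerfectField k] (D : Over (Spec (CommRingCat.of k)))
    [IsProper D.hom] [IsReduced D.left] [ConnectedSpace D.left] (e : 𝟙_ _ ⟶ D) :
    Groth.AlgGrp1.HasConstFunctions D := by
  have := geometricallyReduced_of_perfectField D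
  have := Groth.AlgGrp1.geometricallyConnected_of_point D.hom e.left (Over.w e)
  exact (Groth.GrpschAbsch.H0General.appTop_bijective D.hom).comp
    (ConcreteCategory.bijective_of_isIso (Scheme.ΓSpecIso (CommRingCat.of k)).inv)

end Groth.GrpschAbsch.FibreTranslate
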