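import Groth.Prelude.Def_Red2
import Mathlib.AlgebraicGeometry.AffineSpace
import Mathlib.AlgebraicGeometry.Properties
import Mathlib.RingTheory.Polynomial.Basic
import Mathlib.RingTheory.Nilpotent.Lemmas

/-!
Points of `Red.Ga S` and `Red.Gm S` through their coordinates.
-/

universe u

open CategoryTheory MonoidalCategory CartesianMonoidalCategory MonObj GrpObj AlgebraicGeometry Limits

namespace Groth.GrpschAbsch

/-- Global functions on a reduced scheme are equal if equal in all residue fields. -/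
lemma eq_of_residueField {Y : Scheme.{u}} [IsReduced Y] (a b : Γ(Y, ⊤))
    (h : ∀ y : Y, (Y.fromSpecResidueField y).appTop a = (Y.fromSpecResidueField y).appTop b) :
    a = b := by
  rw [← sub_eq_zero]
  refine eq_zero_of_basicOpen_eq_bot (a - b) ?_
  refine TopologicalSpace.Opens.ext (Set.eq_empty_iff_forall_notMem.mpr fun y hy ↦ ?_)
  have hc : (Y.fromSpecResidueField y) default ∈ Y.basicOpen (a - b) := by
    rwa [Scheme.fromSpecResidueField_apply]
  have : default ∈ (Y.fromSpecResidueField y) ⁻¹ᵁ Y.basicOpen (a - b) := hc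
  rw [Scheme.preimage_basicOpen_top, map_sub, h, sub_self, Scheme.basicOpen_zero] at this
  exact this

lemma appTop_specMap_inv {A B : CommRingCat.{u}} (φ : A ⟶ B) (a : A) :
    (Spec.map φ).appTop ((Scheme.ΓSpecIso A).inv a) = (Scheme.ΓSpecIso B).inv (φ a) :=
  congr($(Scheme.ΓSpecIso_inv_naturality φ) a).symm

lemma toSpecΓ_appTop_inv (Y : Scheme.{u}) (a : Γ(Y, ⊤)) :
    Y.toSpecΓ.appTop ((Scheme.ΓSpecIso _).inv a) = a := by
  rw [Scheme.toSpecΓ_appTop, ← CommRingCat.comp_apply, Iso.inv_hom_id]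
  rfl

variable {S : Scheme.{u}}

private lemma ext_specULiftZ {Y : Scheme.{u}} {B : CommRingCat.{u}} (f g : Y ⟶ Spec B)
    (h : ∀ b, f.appTop ((Scheme.ΓSpecIso B).inv b) = g.appTop ((Scheme.ΓSpecIso B).inv b)) :
    f = g := by
  refine ext_of_isAffine ?_
  ext x
  obtain ⟨b, rfl⟩ : ∃ b, (Scheme.ΓSpecIso B).inv b = x :=
    ⟨(Scheme.ΓSpecIso B).hom x, by rw [← CommRingCat.comp_apply, Iso.hom_inv_id]; rfl⟩
  exact h b

/-- Points of the base change of `Spec B` from `Spec ℤ` are ring maps out of `B`. -/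
lemma bcZ_hom_ext {B : Type u} [CommRing B] [Algebra (ULift.{u} ℤ) B] {X : Over S}
    {x y : X ⟶ Red.bc (specULiftZIsTerminal.from S)
      ((Spec (CommRingCat.of B)).asOver (Spec (CommRingCat.of (ULift.{u} ℤ))))}
    (h : x.left ≫ pullback.fst _ _ = y.left ≫ pullback.fst _ _) : x = y :=
  Over.OverMorphism.ext (pullback.hom_ext h ((Over.w x).trans (Over.w y).symm))

lemma bcZ_exists {B : Type u} [CommRing B] [Algebra (ULift.{u} ℤ) B] (X : Over S)
    (f : X.left ⟶ Spec (CommRingCat.of B)) :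
    ∃ x : X ⟶ Red.bc (specULiftZIsTerminal.from S)
      ((Spec (CommRingCat.of B)).asOver (Spec (CommRingCat.of (ULift.{u} ℤ)))),
      x.left ≫ pullback.fst _ _ = f :=
  ⟨Over.homMk (pullback.lift f X.hom (specULiftZIsTerminal.hom_ext _ _))
    (pullback.lift_snd _ _ _), pullback.lift_fst _ _ _⟩

lemma ringHom_uliftInt_ext {B : Type*} [Semiring B] (f g : ULift.{u} ℤ →+* B) : f = g := by
  have h : f.comp ULift.ringEquiv.symm.toRingHom = g.comp ULift.ringEquiv.symm.toRingHom :=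
    RingHom.ext_int _ _
  ext x
  exact congr($h x.down)

lemma gaFn_injective {X : Over S} {x y : X ⟶ Red.Ga S} (h : Red.gaFn x = Red.gaFn y) : x = y := by
  refine bcZ_hom_ext (ext_specULiftZ _ _ fun b ↦ ?_)
  revert b
  rw [← funext_iff]
  set P := fun z : X ⟶ Red.Ga S ↦ (z.left ≫ pullback.fst _ _).appTop.hom.comp
    (Scheme.ΓSpecIso (CommRingCat.of (SymmetricAlgebra (ULift.{u} ℤ) (ULift.{u} ℤ)))).inv.hom
  show ⇑(P x) = ⇑(P y)
  funext b
  induction b using SymmetricAlgebra.induction with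
  | algebraMap r =>
    exact congr($(ringHom_uliftInt_ext ((P x).comp (algebraMap _ _)) ((P y).comp (algebraMap _ _))) r)
  | «ι» r =>
    have e : r = r.down • (1 : ULift.{u} ℤ) := by ext; simp
    rw [e, map_zsmul, map_zsmul, map_zsmul]
    exact congrArg (r.down • ·) h
  | mul c d hc hd => rw [map_mul, map_mul, hc, hd]
  | add c d hc hd => rw [map_add, map_add, hc, hd]

lemma gaFn_surjective (X : Over S) (a : Γ(X.left, ⊤)) : ∃ x : X ⟶ Red.Ga S, Red.gaFn x = a := by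
  let ψ : SymmetricAlgebra (ULift.{u} ℤ) (ULift.{u} ℤ) →+* Γ(X.left, ⊤) :=
    (Polynomial.eval₂RingHom ((Int.castRingHom Γ(X.left, ⊤)).comp ULift.ringEquiv.toRingHom) a).comp
      (SymmetricAlgebra.lift (LinearMap.toSpanSingleton (ULift.{u} ℤ)
        (Polynomial (ULift.{u} ℤ)) Polynomial.X)).toRingHom
  obtain ⟨x, hx⟩ := bcZ_exists (S := S) X
    (X.left.toSpecΓ ≫ Spec.map (CommRingCat.ofHom ψ))
  refine ⟨x, ?_⟩
  rw [Red.gaFn]
  erw [hx]
  show X.left.toSpecΓ.appTop ((Spec.map (CommRingCat.ofHom ψ)).appTop ((Scheme.ΓSpecIso _).inv _)) = a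
  rw [appTop_specMap_inv]
  refine (toSpecΓ_appTop_inv X.left _).trans ?_
  simp [ψ]

lemma gaFn_comp {X Y : Over S} (f : Y ⟶ X) (x : X ⟶ Red.Ga S) :
    Red.gaFn (f ≫ x) = f.left.appTop (Red.gaFn x) := by
  simp only [Red.gaFn, Over.comp_left, Category.assoc, Scheme.Hom.comp_appTop]
  rfl

lemma gmFn_comp {X Y : Over S} (f : Y ⟶ X) (x : X ⟶ Red.Gm S) :
    Red.gmFn (f ≫ x) = f.left.appTop (Red.gmFn x) := by
  simp only [Red.gmFn, Over.comp_left, Category.assoc, Scheme.Hom.comp_appTop]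
  rfl

/-- The unit point of a base change from `Spec ℤ`. -/
lemma bcZ_one_left_fst {B : Type u} [CommRing B] [HopfAlgebra (ULift.{u} ℤ) B] (X : Over S) :
    ∃ g : X.left ⟶ Spec (CommRingCat.of (ULift.{u} ℤ)),
      (1 : X ⟶ Red.bc (specULiftZIsTerminal.from S)
          ((Spec (CommRingCat.of B)).asOver (Spec (CommRingCat.of (ULift.{u} ℤ))))).left ≫
          pullback.fst _ _ =
        g ≫ Spec.map (CommRingCat.ofHom (Bialgebra.counitAlgHom (ULift.{u} ℤ) B).toRingHom) := by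
  refine ⟨((toUnit X).left ≫ (Functor.LaxMonoidal.ε (Over.pullback (specULiftZIsTerminal.from S))).left)
    ≫ pullback.fst _ _, ?_⟩
  rw [Hom.one_def, Over.comp_left]
  have e : (η[Red.bc (specULiftZIsTerminal.from S)
      ((Spec (CommRingCat.of B)).asOver (Spec (CommRingCat.of (ULift.{u} ℤ))))]).left ≫ pullback.fst _ _ =
      (Functor.LaxMonoidal.ε (Over.pullback (specULiftZIsTerminal.from S))).left ≫ pullback.fst _ _ ≫
        Spec.map (CommRingCat.ofHom (Bialgebra.counitAlgHom (ULift.{u} ℤ) B).toRingHom) := by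
    show ((Functor.LaxMonoidal.ε (Over.pullback (specULiftZIsTerminal.from S))).left ≫
      ((Over.pullback (specULiftZIsTerminal.from S)).map
        η[(Spec (CommRingCat.of B)).asOver (Spec (CommRingCat.of (ULift.{u} ℤ)))]).left) ≫
      pullback.fst _ _ = _
    rw [Category.assoc]
    erw [pullback.lift_fst, one_spec_asOver_spec_left]
    rfl
  simp only [Category.assoc]
  exact congrArg ((toUnit X).left ≫ ·) e

lemma gaFn_one (X : Over S) : Red.gaFn (1 : X ⟶ Red.Ga S) = 0 := by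
  obtain ⟨g, hg⟩ := bcZ_one_left_fst (S := S)
    (B := SymmetricAlgebra (ULift.{u} ℤ) (ULift.{u} ℤ)) X
  rw [Red.gaFn]
  erw [hg]
  show g.appTop ((Spec.map (CommRingCat.ofHom _)).appTop ((Scheme.ΓSpecIso _).inv _)) = 0
  rw [appTop_specMap_inv]
  simp [SymmetricAlgebra.algebraMapInv_ι]

lemma gmFn_one (X : Over S) : Red.gmFn (1 : X ⟶ Red.Gm S) = 1 := by
  obtain ⟨g, hg⟩ := bcZ_one_left_fst (S := S)
    (B := MonoidAlgebra (ULift.{u} ℤ) (Multiplicative ℤ)) X
  rw [Red.gmFn]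
  erw [hg]
  show g.appTop ((Spec.map (CommRingCat.ofHom _)).appTop ((Scheme.ΓSpecIso _).inv _)) = 1
  rw [appTop_specMap_inv]
  simp

lemma isUnit_gmFn {X : Over S} (x : X ⟶ Red.Gm S) : IsUnit (Red.gmFn x) := by
  refine IsUnit.map _ (IsUnit.map _ ?_)
  refine IsUnit.of_mul_eq_one (MonoidAlgebra.single (Multiplicative.ofAdd (-1 : ℤ)) 1) ?_
  rw [MonoidAlgebra.single_mul_single, _root_.mul_one, ← ofAdd_add, add_neg_cancel]
  rfl

lemma gmFn_injective {X : Over S} {x y : X ⟶ Red.Gm S} (h : Red.gmFn x = Red.gmFn y) : x = y := by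
  refine bcZ_hom_ext (ext_specULiftZ _ _ fun b ↦ ?_)
  revert b
  rw [← funext_iff]
  set P := fun z : X ⟶ Red.Gm S ↦ (z.left ≫ pullback.fst _ _).appTop.hom.comp
    (Scheme.ΓSpecIso (CommRingCat.of (MonoidAlgebra (ULift.{u} ℤ) (Multiplicative ℤ)))).inv.hom
  show ⇑(P x) = ⇑(P y)
  suffices P x = P y by rw [this]
  refine MonoidAlgebra.ringHom_ext (fun r ↦ ?_) (fun m ↦ ?_)
  · exact congr($(ringHom_uliftInt_ext ((P x).comp MonoidAlgebra.singleOneRingHom)
      ((P y).comp MonoidAlgebra.singleOneRingHom)) r)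
  · obtain ⟨n, rfl⟩ := Multiplicative.ofAdd.surjective m
    let Q := fun z : X ⟶ Red.Gm S ↦ (P z).toMonoidHom.comp
      (MonoidAlgebra.of (ULift.{u} ℤ) (Multiplicative ℤ))
    have hQ : Q x = Q y := MonoidHom.ext_mint h
    exact congr($hQ (Multiplicative.ofAdd n))

/-- On a reduced `S`-scheme, a morphism `𝔾ₐ ⟶ 𝔾ₘ` fixing the unit takes the value `1`. -/
lemma gmFn_point_comp_eq_one {Y : Over S} [IsReduced Y.left] (x : Y ⟶ Red.Ga S)
    (φ : Red.Ga S ⟶ Red.Gm S) (hφ : ∀ T : Over S, (1 : T ⟶ Red.Ga S) ≫ φ = 1) :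
    Red.gmFn (x ≫ φ) = 1 := by
  refine eq_of_residueField _ _ fun y ↦ ?_
  let K := Y.left.residueField y
  let R : CommRingCat.{u} := CommRingCat.of (Polynomial K)
  let s : Spec K ⟶ S := Y.left.fromSpecResidueField y ≫ Y.hom
  let T : Over S := Over.mk (Spec.map (CommRingCat.ofHom (Polynomial.C : K →+* Polynomial K)) ≫ s)
  let P : Over S := Over.mk s
  let i : P ⟶ Y := Over.homMk (Y.left.fromSpecResidueField y) rfl
  rw [map_one]
  show i.left.appTop (Red.gmFn (x ≫ φ)) = 1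
  rw [← gmFn_comp, ← Category.assoc]
  obtain ⟨t, ht⟩ := gaFn_surjective T ((Scheme.ΓSpecIso R).inv Polynomial.X)
  let ev : ∀ a : K, P ⟶ T := fun a ↦ Over.homMk
    (Spec.map (CommRingCat.ofHom (Polynomial.evalRingHom a))) (by
      show Spec.map _ ≫ Spec.map _ ≫ s = s
      have e : CommRingCat.ofHom (Polynomial.C : K →+* Polynomial K) ≫
          CommRingCat.ofHom (Polynomial.evalRingHom a) = 𝟙 K := by
        ext b; exact Polynomial.eval_C
      rw [← Spec.map_comp_assoc]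
      erw [e, Spec.map_id, Category.id_comp])
  have hev : ∀ (a : K) (g : Polynomial K), (ev a).left.appTop ((Scheme.ΓSpecIso R).inv g) =
      (Scheme.ΓSpecIso (CommRingCat.of K)).inv (g.eval a) := fun a g ↦ by
    have := Scheme.ΓSpecIso_inv_naturality (CommRingCat.ofHom (Polynomial.evalRingHom a : R →+* K))
    exact congr($this g).symm
  obtain ⟨g, hg⟩ : ∃ g, (Scheme.ΓSpecIso R).inv g = Red.gmFn (t ≫ φ) :=
    ⟨(Scheme.ΓSpecIso R).hom (Red.gmFn (t ≫ φ)), by
      rw [← CommRingCat.comp_apply, Iso.hom_inv_id]; rfl⟩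
  have hgu : IsUnit g := by
    have := (isUnit_gmFn (t ≫ φ)).map (Scheme.ΓSpecIso R).hom.hom
    rw [← hg] at this
    erw [← CommRingCat.comp_apply, Iso.inv_hom_id] at this
    exact this
  obtain ⟨c, -, rfl⟩ := Polynomial.isUnit_iff.mp hgu
  have hconst : ∀ a, Red.gmFn (ev a ≫ t ≫ φ) = (Scheme.ΓSpecIso (CommRingCat.of K)).inv c :=
    fun a ↦ by rw [gmFn_comp, ← hg, hev, Polynomial.eval_C]
  have hpt : ∀ a, Red.gaFn (ev a ≫ t) = (Scheme.ΓSpecIso (CommRingCat.of K)).inv a :=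
    fun a ↦ by rw [gaFn_comp, ht, hev, Polynomial.eval_X]
  have h0 : ev 0 ≫ t = 1 := gaFn_injective (by rw [hpt, map_zero, gaFn_one])
  have hc : (Scheme.ΓSpecIso (CommRingCat.of K)).inv c = 1 := by
    rw [← hconst 0, ← Category.assoc, h0, hφ, gmFn_one]
  obtain ⟨a, ha⟩ : ∃ a : K, (Scheme.ΓSpecIso (CommRingCat.of K)).inv a = Red.gaFn (i ≫ x) :=
    ⟨(Scheme.ΓSpecIso (CommRingCat.of K)).hom (Red.gaFn (i ≫ x)), by
      rw [← CommRingCat.comp_apply, Iso.hom_inv_id]; rfl⟩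
  rw [← gaFn_injective ((hpt a).trans ha), Category.assoc, hconst, hc]

end Groth.GrpschAbsch
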