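import Groth.Agent.GrpschAbsch.BcPoint
import Groth.Agent.GrpschAbsch.GaGm
import Mathlib.AlgebraicGeometry.Morphisms.FlatDescent
import Mathlib.AlgebraicGeometry.Group.Affine
import Mathlib.FieldTheory.IsAlgClosed.Basic

/-!
A group scheme of bounded exponent over a field contains no nontrivial torus.
-/

universe u

open CategoryTheory MonoidalCategory CartesianMonoidalCategory MonObj AlgebraicGeometry Limits

namespace Groth.GrpschAbsch

variable {U : Scheme.{u}}

/-- A split torus of positive rank has unbounded exponent at any field-valued point. -/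
lemma DS_not_killed {r : ℕ} (hr : 0 < r) {N : ℕ} (hN : 0 < N) (x : U) :
    (𝟙 (Red.DS U (Fin r → ℤ))) ^ N ≠ 1 := by
  intro h
  let K := AlgebraicClosure (U.residueField x)
  let g := specULiftZIsTerminal.from U
  let R := ULift.{u} ℤ
  letI : Algebra R K := ((Int.castRingHom K).comp ULift.ringEquiv.toRingHom).toAlgebra
  let Z : Over (Spec (CommRingCat.of R)) := (Spec (CommRingCat.of K)).asOver (Spec (CommRingCat.of R))
  let q : Spec (CommRingCat.of K) ⟶ U :=
    Spec.map (CommRingCat.ofHom (algebraMap (U.residueField x) K)) ≫ U.fromSpecResidueField x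
  let X : Over U := Over.mk q
  let j : Z ≅ Over.mk (X.hom ≫ g) := Over.isoMk (Iso.refl (Spec (CommRingCat.of K))) (specULiftZIsTerminal.hom_ext _ _)
  obtain ⟨c, hc⟩ : ∃ c : K, c ≠ 0 ∧ c ^ N ≠ 1 := by
    classical
    obtain ⟨c, hc⟩ := Infinite.exists_notMem_finset
      (insert (0 : K) (Polynomial.nthRoots N (1 : K)).toFinset)
    simp [Polynomial.mem_nthRoots hN] at hc
    exact ⟨c, hc.1, hc.2⟩
  let i₀ : Fin r := ⟨0, hr⟩
  let χ : Multiplicative (Fin r → ℤ) →* Kˣ :=
    { toFun := fun v ↦ Units.mk0 c hc.1 ^ (Multiplicative.toAdd v i₀)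
      map_one' := by simp
      map_mul' := fun a b ↦ by simp [zpow_add] }
  let φ : MonoidAlgebra R (Multiplicative (Fin r → ℤ)) →ₐ[R] K :=
    MonoidAlgebra.lift R K (Multiplicative (Fin r → ℤ)) ((Units.coeHom K).comp χ)
  let e := Spec.mapMulEquiv (R := R) (S := MonoidAlgebra R (Multiplicative (Fin r → ℤ))) (T := K)
  obtain ⟨y, hy⟩ := bcPt_exists g (X := X) (j.inv ≫ e (WithConv.toConv φ))
  have h1 : y ^ N = 1 := by
    have := congrArg (y ≫ ·) h
    rw [MonObj.comp_pow, MonObj.comp_one] at this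
    erw [Category.comp_id] at this
    exact this
  have h2 : j.hom ≫ bcPt g (y ^ N) = e ((WithConv.toConv φ) ^ N) := by
    rw [bcPt_pow, MonObj.comp_pow, hy, Iso.hom_inv_id_assoc, map_pow]
  rw [h1, bcPt_one, MonObj.comp_one] at h2
  have h3 : (1 : WithConv (MonoidAlgebra R (Multiplicative (Fin r → ℤ)) →ₐ[R] K)) =
      (WithConv.toConv φ) ^ N := e.injective (by rw [← h2, map_one])
  let s : MonoidAlgebra R (Multiplicative (Fin r → ℤ)) :=
    MonoidAlgebra.single (Multiplicative.ofAdd (Pi.single i₀ 1)) 1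
  have hgl : ∀ f : WithConv (MonoidAlgebra R (Multiplicative (Fin r → ℤ)) →ₐ[R] K), ∀ n : ℕ,
      (f ^ n).ofConv s = f.ofConv s ^ n := by
    intro f n
    induction n with
    | zero => simp [s, AlgHom.convOne_def]
    | succ n ih =>
      rw [pow_succ, pow_succ, ← ih]
      simp [s, AlgHom.convMul_def]
  have h4 := congr(($h3).ofConv s)
  rw [hgl] at h4
  have hs : φ s = c := by simp [φ, s, χ]; rw [Algebra.smul_def, map_one, _root_.one_mul]
  refine hc.2 ?_
  rw [← hs]
  refine h4.symm.trans ?_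
  simp [s, AlgHom.convOne_def]

/-- A split torus of rank zero is trivial. -/
lemma DS_zero_isIso : IsIso (Red.DS U (Fin 0 → ℤ)).hom := by
  refine MorphismProperty.pullback_snd (P := MorphismProperty.isomorphisms Scheme) _ _ ?_
  show IsIso (Spec.map (CommRingCat.ofHom
    (algebraMap (ULift.{u} ℤ) (MonoidAlgebra (ULift.{u} ℤ) (Multiplicative (Fin 0 → ℤ))))))
  have : IsIso (CommRingCat.ofHom
      (algebraMap (ULift.{u} ℤ) (MonoidAlgebra (ULift.{u} ℤ) (Multiplicative (Fin 0 → ℤ))))) := by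
    rw [ConcreteCategory.isIso_iff_bijective]
    refine ⟨fun a b hab ↦ by simpa using hab, fun z ↦ ?_⟩
    induction z using MonoidAlgebra.induction_on with
    | of m =>
      refine ⟨1, ?_⟩
      rw [Subsingleton.elim m 1]
      exact map_one _
    | add a b ha hb =>
      obtain ⟨a, rfl⟩ := ha
      obtain ⟨b, rfl⟩ := hb
      exact ⟨a + b, map_add _ _ _⟩
    | smul r a ha =>
      obtain ⟨a, rfl⟩ := ha
      exact ⟨r * a, (map_mul _ _ _).trans (Algebra.smul_def _ _).symm⟩
  infer_instance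

/-- Groups of bounded exponent contain no nontrivial torus. -/
lemma hasNoSubtorus_of_pow_eq_one {k : Type u} [Field k] (G : Over (Spec (CommRingCat.of k)))
    [GrpObj G] {N : ℕ} (hN : 0 < N) (hG : ∀ (X : Over (Spec (CommRingCat.of k))) (x : X ⟶ G), x ^ N = 1) :
    Red.HasNoSubtorus k G := by
  intro T _ j _ _ hT
  obtain ⟨S', f, -, hf, -, hloc⟩ := hT
  obtain ⟨s', -⟩ := hf.surj (IsLocalRing.closedPoint k : Spec (CommRingCat.of k))
  obtain ⟨U, hU, r, ⟨e⟩⟩ := hloc s'
  have hTN : (𝟙 T) ^ N = 1 := by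
    rw [← cancel_mono j, MonObj.pow_comp, Category.id_comp, MonObj.one_comp, hG]
  have hbc : (𝟙 (Red.bc (U.ι ≫ f) T)) ^ N = 1 := by
    have := congrArg ((Over.pullback (U.ι ≫ f)).homMonoidHom (X := T) (M := T)) hTN
    rw [map_pow, map_one] at this
    simpa [Functor.homMonoidHom] using this
  have hD : (𝟙 (Red.DS U.toScheme (Fin r → ℤ))) ^ N = 1 := by
    let a : Red.DS U.toScheme (Fin r → ℤ) ⟶ Red.bc (U.ι ≫ f) T := e.inv.hom.hom
    let b : Red.bc (U.ι ≫ f) T ⟶ Red.DS U.toScheme (Fin r → ℤ) := e.hom.hom.hom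
    have hab : a ≫ b = 𝟙 _ := congrArg (fun m ↦ m.hom.hom) e.inv_hom_id
    have : IsMonHom b := inferInstanceAs (IsMonHom e.hom.hom.hom)
    have h1 : (a ≫ 𝟙 _) ^ N = a ≫ (1 : Red.bc (U.ι ≫ f) T ⟶ Red.bc (U.ι ≫ f) T) := by
      rw [← MonObj.comp_pow, hbc]
    rw [Category.comp_id, MonObj.comp_one] at h1
    have h2 := congrArg (· ≫ b) h1
    simp only [MonObj.pow_comp, MonObj.one_comp, hab] at h2
    exact h2
  let x : U.toScheme := ⟨s', hU⟩
  have hr : r = 0 := Nat.eq_zero_of_not_pos fun hr ↦ DS_not_killed hr hN x hD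
  subst hr
  have h3 : IsIso (Red.bc (U.ι ≫ f) T).hom := by
    have h4 : IsIso ((Grp.forget _).mapIso e).hom.left :=
      ((Over.forget _).mapIso ((Grp.forget _).mapIso e)).isIso_hom
    have := DS_zero_isIso (U := U.toScheme)
    have h7 := IsIso.comp_isIso' h4 this
    erw [Over.w ((Grp.forget _).mapIso e).hom] at h7
    exact h7
  let q : Spec (U.toScheme.residueField x) ⟶ Spec (CommRingCat.of k) :=
    U.toScheme.fromSpecResidueField x ≫ U.ι ≫ f
  have : Surjective q := by
    refine ⟨fun y ↦ ⟨default, Subsingleton.elim (α := PrimeSpectrum k) _ _⟩⟩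
  have hq : (@Surjective ⊓ @Flat ⊓ @QuasiCompact : MorphismProperty Scheme.{u}) q := by
    refine ⟨⟨inferInstance, ?_⟩, inferInstance⟩
    exact inferInstance
  have h5 : IsIso (pullback.fst q T.hom) := by
    let W := U.toScheme.fromSpecResidueField x
    have hh : IsPullback (pullback.snd (pullback.snd T.hom (U.ι ≫ f)) W ≫ 𝟙 _)
        (pullback.fst (pullback.snd T.hom (U.ι ≫ f)) W ≫ pullback.fst T.hom (U.ι ≫ f)) q T.hom := by
      rw [Category.comp_id]
      exact ((IsPullback.of_hasPullback (pullback.snd T.hom (U.ι ≫ f)) W).paste_horiz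
        (IsPullback.of_hasPullback T.hom (U.ι ≫ f))).flip
    have : IsIso (pullback.snd T.hom (U.ι ≫ f)) := h3
    have h6 : IsIso (pullback.snd (pullback.snd T.hom (U.ι ≫ f)) W ≫ 𝟙 _) := inferInstance
    rw [← hh.isoPullback_hom_fst] at h6
    exact IsIso.of_isIso_comp_left hh.isoPullback.hom _
  exact MorphismProperty.of_pullback_fst_of_descendsAlong
    (P := MorphismProperty.isomorphisms Scheme.{u})
    (Q := @Surjective ⊓ @Flat ⊓ @QuasiCompact) hq h5

end Groth.GrpschAbsch
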