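import Groth.Agent.GrpschAbsch.ConnectedUnit
import Groth.Agent.Reductive.SubgroupObj

/-!
The neutral component of a group scheme over a field as a flat closed subgroup scheme.
-/

universe u

open CategoryTheory CategoryTheory.Limits MonoidalCategory CartesianMonoidalCategory MonObj GrpObj
  AlgebraicGeometry TopologicalSpace

noncomputable section

namespace Groth.GrpschAbsch

/-- The ideal sheaf cutting out the intersection of the clopen neighbourhoods of a point. -/
def clopenIdeal {X : Scheme.{u}} (e : X) : X.IdealSheafData :=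
  ⨆ W : {W : X.Opens // IsClosed (W : Set X) ∧ e ∈ W}, W.1.ι.ker

variable {X : Scheme.{u}} (e : X)

theorem quasiCompact_ι {W : X.Opens} (h : IsClosed (W : Set X)) : QuasiCompact W.ι := by
  have : IsClosedImmersion W.ι := IsClosedImmersion.of_isPreimmersion W.ι (by rwa [Scheme.Opens.range_ι])
  infer_instance

theorem range_clopenIdeal :
    Set.range (clopenIdeal e).subschemeι = {x | ∀ V : Set X, IsClopen V → e ∈ V → x ∈ V} := by
  rw [Scheme.IdealSheafData.range_subschemeι, clopenIdeal, Scheme.IdealSheafData.support_iSup]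
  ext x
  rw [TopologicalSpace.Closeds.coe_iInf, Set.mem_iInter]
  constructor
  · intro h V hV he
    have hW := h ⟨⟨V, hV.2⟩, hV.1, he⟩
    have := quasiCompact_ι (W := ⟨V, hV.2⟩) hV.1
    rw [Scheme.Hom.support_ker, Scheme.Opens.range_ι] at hW
    exact closure_minimal (fun y hy => hy) hV.1 hW
  · intro h W
    have := quasiCompact_ι W.2.1
    rw [Scheme.Hom.support_ker, Scheme.Opens.range_ι, W.2.1.closure_eq]
    exact h _ ⟨W.2.1, W.1.2⟩ W.2.2

theorem ideal_clopenIdeal (U : X.affineOpens) : (clopenIdeal e).ideal U =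
    ⨆ W : {W : X.Opens // IsClosed (W : Set X) ∧ e ∈ W}, W.1.ι.ker.ideal U := by
  rw [clopenIdeal, Scheme.IdealSheafData.ideal_iSup, iSup_apply]

theorem flat_subschemeι_clopenIdeal : Flat (clopenIdeal e).subschemeι := by
  let jc := (clopenIdeal e).subschemeι
  rw [Flat.iff_flat_stalkMap]
  intro x
  refine RingHom.Flat.of_bijective ⟨?_, jc.stalkMap_surjective x⟩
  rw [injective_iff_map_eq_zero]
  intro t ht
  obtain ⟨U, hxU, s, rfl⟩ := X.presheaf.exists_germ_eq t
  rw [Scheme.Hom.germ_stalkMap_apply] at ht
  rw [← map_zero ((clopenIdeal e).subscheme.presheaf.germ (jc ⁻¹ᵁ U) x hxU).hom] at ht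
  obtain ⟨W', hxW', iA, iB, hW'⟩ := (clopenIdeal e).subscheme.presheaf.germ_eq x hxU hxU _ _ ht
  rw [map_zero] at hW'
  obtain ⟨V, hV, hVW⟩ := jc.isClosedEmbedding.isInducing.isOpen_iff.mp W'.2
  obtain ⟨_, ⟨U', hU', rfl⟩, hzU', hU'sub⟩ := X.isBasis_affineOpens.exists_subset_of_mem_open
    (show jc x ∈ (U : Set X) ∩ V from ⟨hxU, show x ∈ jc ⁻¹' V by rw [hVW]; exact hxW'⟩) (U.2.inter hV)
  have hU'U : U' ≤ U := fun z hz => (hU'sub hz).1
  have hpre : jc ⁻¹ᵁ U' ≤ W' := fun z hz => by
    show z ∈ (W' : Set (clopenIdeal e).subscheme)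
    exact (Set.ext_iff.mp hVW z).mp (hU'sub hz).2
  let s' := X.presheaf.map (homOfLE hU'U).op s
  have hzero : jc.app U' s' = 0 := by
    show (X.presheaf.map (homOfLE hU'U).op ≫ jc.app U') s = 0
    rw [Scheme.Hom.naturality]
    show ((clopenIdeal e).subscheme.presheaf.map _) (jc.app U s) = 0
    refine (congrArg (fun φ => ((clopenIdeal e).subscheme.presheaf.map φ) (jc.app U s))
      (Subsingleton.elim _ (iA.op ≫ (homOfLE hpre).op))).trans ?_
    rw [Functor.map_comp, CommRingCat.comp_apply, hW', map_zero]
  have hmem : s' ∈ (clopenIdeal e).ideal ⟨U', hU'⟩ := by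
    rw [← (clopenIdeal e).ker_subschemeι_app ⟨U', hU'⟩]
    exact hzero
  have hker : (clopenIdeal e).ideal ⟨U', hU'⟩ ≤ RingHom.ker (X.presheaf.germ U' (jc x) hzU').hom := by
    rw [ideal_clopenIdeal]
    refine iSup_le fun W a ha => ?_
    have := quasiCompact_ι W.2.1
    rw [Scheme.Hom.ker_apply, RingHom.mem_ker] at ha
    have hxW : jc x ∈ W.1 := (range_clopenIdeal e ▸ Set.mem_range_self x : _) _ ⟨W.2.1, W.1.2⟩ W.2.2
    let w : W.1.toScheme := ⟨jc x, hxW⟩
    have hbij := ConcreteCategory.bijective_of_isIso (W.1.ι.stalkMap w)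
    have hgerm : W.1.ι.stalkMap w (X.presheaf.germ U' (W.1.ι w) hzU' a) = 0 := by
      rw [Scheme.Hom.germ_stalkMap_apply]
      exact (congrArg _ ha).trans (map_zero _)
    rw [← map_zero (W.1.ι.stalkMap w).hom] at hgerm
    rw [RingHom.mem_ker]
    exact hbij.1 hgerm
  have := hker hmem
  rw [RingHom.mem_ker] at this
  exact (X.presheaf.germ_res_apply (homOfLE hU'U) (jc x) hzU' s).symm.trans this

variable {K : Type u} [Field K] (G : Over (Spec (CommRingCat.of K))) [GrpObj G]

/-- The neutral component, as a scheme over the field. -/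
def neutralObj : Over (Spec (CommRingCat.of K)) :=
  Over.mk ((clopenIdeal (unitPt G)).subschemeι ≫ G.hom)

/-- The inclusion of the neutral component. -/
def neutralIncl : neutralObj G ⟶ G := Over.homMk (clopenIdeal (unitPt G)).subschemeι rfl

instance : IsClosedImmersion (neutralIncl G).left :=
  inferInstanceAs (IsClosedImmersion (clopenIdeal (unitPt G)).subschemeι)

instance : Flat (neutralIncl G).left := flat_subschemeι_clopenIdeal (unitPt G)

theorem range_neutralIncl : Set.range (neutralIncl G).left = connectedComponent (unitPt G) := by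
  show Set.range (clopenIdeal (unitPt G)).subschemeι = _
  rw [range_clopenIdeal]
  refine Set.Subset.antisymm (fun x hx => ?_) fun x hx V hV he => hV.connectedComponent_subset he hx
  by_contra h
  obtain ⟨V, hV, he, hxV⟩ := exists_isClopen_separating G h
  exact hxV (hx V hV he)

theorem exists_lift_neutralIncl {T : Over (Spec (CommRingCat.of K))} (f : T ⟶ G)
    (hf : Set.range f.left ⊆ connectedComponent (unitPt G)) :
    ∃ g : T ⟶ neutralObj G, g ≫ neutralIncl G = f := by
  haveI hci : IsClosedImmersion (clopenIdeal (unitPt G)).subschemeι :=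
    (inferInstance : IsClosedImmersion (neutralIncl G).left)
  have hle : (clopenIdeal (unitPt G)).subschemeι.ker ≤ f.left.ker := by
    rw [Scheme.IdealSheafData.ker_subschemeι, clopenIdeal]
    refine iSup_le fun W => ?_
    have hW : Set.range f.left ⊆ Set.range W.1.ι := by
      rw [Scheme.Opens.range_ι]
      exact hf.trans (IsClopen.connectedComponent_subset ⟨W.2.1, W.1.2⟩ W.2.2)
    rw [← IsOpenImmersion.lift_fac W.1.ι f.left hW]
    exact Scheme.Hom.le_ker_comp _ _
  obtain ⟨l, hl⟩ : ∃ l, l ≫ (clopenIdeal (unitPt G)).subschemeι = f.left :=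
    ⟨@IsClosedImmersion.lift _ _ _ _ f.left hci hle, @IsClosedImmersion.lift_fac _ _ _ _ f.left hci hle⟩
  refine ⟨Over.homMk l ?_, Over.OverMorphism.ext hl⟩
  show l ≫ (clopenIdeal (unitPt G)).subschemeι ≫ G.hom = _
  rw [reassoc_of% hl, Over.w f]

theorem geometricallyIrreducible_neutralObj : GeometricallyIrreducible (neutralObj G).hom := by
  obtain ⟨ξ, h1, h2⟩ := exists_isMax_ge (unitPt G)
  let jc := (clopenIdeal (unitPt G)).subschemeι
  have hr : Set.range jc = closure {ξ} := (range_neutralIncl G).trans (connectedComponent_one_eq G h2 h1)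
  have : IrreducibleSpace (clopenIdeal (unitPt G)).subscheme := by
    obtain ⟨z, hz⟩ : ξ ∈ Set.range jc := hr ▸ subset_closure rfl
    have hc : closure ({z} : Set (clopenIdeal (unitPt G)).subscheme) = Set.univ := Set.eq_univ_of_forall fun y => by
      rw [← specializes_iff_mem_closure, ← jc.isClosedEmbedding.isInducing.specializes_iff, hz,
        specializes_iff_mem_closure, ← hr]
      exact ⟨y, rfl⟩
    rw [irreducibleSpace_def]
    show IsIrreducible (Set.univ : Set (clopenIdeal (unitPt G)).subscheme)
    rw [← hc]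
    exact isIrreducible_singleton.closure
  exact geometricallyIrreducible_component_unit G jc (hr.symm ▸ closure_mem_irreducibleComponents h2)
    (by rw [hr]; exact specializes_iff_mem_closure.mp (Scheme.le_iff_specializes.mp h1))

theorem compactSpace_neutralObj : CompactSpace (neutralObj G).left := by
  have h := isCompact_connectedComponent_one G
  rw [← range_neutralIncl G, ← Set.image_univ] at h
  exact ⟨(neutralIncl G).left.isClosedEmbedding.isEmbedding.isCompact_iff.mpr h⟩

/-- The neutral component is a subgroup. -/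
theorem exists_grpObj_neutralObj : ∃ _ : GrpObj (neutralObj G), IsMonHom (neutralIncl G) := by
  have hgi := geometricallyIrreducible_neutralObj G
  have : IrreducibleSpace (neutralObj G).left :=
    GeometricallyIrreducible.irreducibleSpace_of_subsingleton (neutralObj G).hom
  have : IrreducibleSpace (neutralObj G ⊗ neutralObj G).left :=
    inferInstanceAs (IrreducibleSpace ↥(pullback (neutralObj G).hom (neutralObj G).hom))
  have : Mono (neutralIncl G) := (Over.forget _).mono_of_mono_map (inferInstanceAs (Mono (neutralIncl G).left))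
  obtain ⟨e, he⟩ : ∃ e, e ≫ neutralIncl G = (1 : 𝟙_ (Over (Spec (CommRingCat.of K))) ⟶ G) := exists_lift_neutralIncl G _ (by
    rintro _ ⟨t, rfl⟩
    rw [one_comp_left_apply]
    exact mem_connectedComponent)
  refine Groth.Reductive.exists_grpObj_of_mono (neutralIncl G) ⟨e, he⟩ ?_ ?_
  · refine exists_lift_neutralIncl G _ (IsPreconnected.subset_connectedComponent (isPreconnected_range (Scheme.Hom.continuous _))
      ⟨(lift e e).left (IsLocalRing.closedPoint K), ?_⟩)
    rw [← Scheme.Hom.comp_apply, ← Over.comp_left]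
    rw [show lift e e ≫ ((fst _ _ ≫ neutralIncl G) * (snd _ _ ≫ neutralIncl G)) = 1 by
      simp only [MonObj.comp_mul, lift_fst_assoc, lift_snd_assoc, he, _root_.mul_one]]
    exact one_comp_left_apply G _
  · refine exists_lift_neutralIncl G _ (IsPreconnected.subset_connectedComponent (isPreconnected_range (Scheme.Hom.continuous _))
      ⟨e.left (IsLocalRing.closedPoint K), ?_⟩)
    rw [← Scheme.Hom.comp_apply, ← Over.comp_left]
    rw [show e ≫ (neutralIncl G)⁻¹ = 1 by rw [GrpObj.comp_inv, he, inv_one]]
    exact one_comp_left_apply G _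

end Groth.GrpschAbsch

end
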