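import Groth.Agent.GrpschAbsch.GaGm
import Groth.Agent.GrpschAbsch.BcPoint
import Mathlib.AlgebraicGeometry.Group.Affine

/-!
`Red.gaFn` is additive.
-/

universe u

open CategoryTheory MonoidalCategory CartesianMonoidalCategory MonObj AlgebraicGeometry Limits
open scoped TensorProduct

namespace Groth.GrpschAbsch

variable {R B : Type u} [CommRing R] [CommRing B] [Bialgebra R B]

/-- The product of two points of `Spec B` on a primitive element. -/
lemma mul_left_appTop_of_primitive {X : Over (Spec (CommRingCat.of R))}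
    (x y : X ⟶ (Spec (CommRingCat.of B)).asOver (Spec (CommRingCat.of R))) (b : B)
    (hb : Coalgebra.comul (R := R) b = b ⊗ₜ[R] 1 + 1 ⊗ₜ[R] b) :
    (x * y).left.appTop ((Scheme.ΓSpecIso (CommRingCat.of B)).inv b) =
      x.left.appTop ((Scheme.ΓSpecIso (CommRingCat.of B)).inv b) +
        y.left.appTop ((Scheme.ΓSpecIso (CommRingCat.of B)).inv b) := by
  rw [Hom.mul_def, Over.comp_left, mul_spec_asOver_spec_left]
  let l := (lift x y).left
  let e := (pullbackSpecIso R B B).hom
  let il : CommRingCat.of B ⟶ CommRingCat.of (B ⊗[R] B) :=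
    CommRingCat.ofHom Algebra.TensorProduct.includeLeftRingHom
  let ir : CommRingCat.of B ⟶ CommRingCat.of (B ⊗[R] B) :=
    CommRingCat.ofHom (Algebra.TensorProduct.includeRight : B →ₐ[R] B ⊗[R] B).toRingHom
  have hx : (l ≫ e ≫ Spec.map il) = x.left := by
    show (lift x y).left ≫ _ = _
    erw [pullbackSpecIso_hom_fst]
    exact congrArg CommaMorphism.left (lift_fst x y)
  have hy : (l ≫ e ≫ Spec.map ir) = y.left := by
    show (lift x y).left ≫ _ = _
    erw [pullbackSpecIso_hom_snd]
    exact congrArg CommaMorphism.left (lift_snd x y)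
  show l.appTop (e.appTop ((Spec.map (CommRingCat.ofHom
    ((Bialgebra.comulAlgHom R B : B →ₐ[R] B ⊗[R] B) : B →+* B ⊗[R] B))).appTop _)) = _
  rw [appTop_specMap_inv, ← hx, ← hy]
  show l.appTop (e.appTop ((Scheme.ΓSpecIso (CommRingCat.of (B ⊗[R] B))).inv (Coalgebra.comul (R := R) b))) =
    l.appTop (e.appTop ((Spec.map il).appTop _)) + l.appTop (e.appTop ((Spec.map ir).appTop _))
  rw [appTop_specMap_inv, appTop_specMap_inv, hb]
  exact (congrArg l.appTop ((congrArg e.appTop (map_add _ _ _)).trans (map_add _ _ _))).trans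
    (map_add _ _ _)

variable {S : Scheme.{u}}

lemma gaFn_mul {X : Over S} (x y : X ⟶ Red.Ga S) :
    Red.gaFn (x * y) = Red.gaFn x + Red.gaFn y := by
  show (bcPt (specULiftZIsTerminal.from S) (x * y)).left.appTop Red.gaCoord = _
  rw [bcPt_mul]
  exact mul_left_appTop_of_primitive (R := ULift.{u} ℤ)
    (bcPt (specULiftZIsTerminal.from S) x) (bcPt (specULiftZIsTerminal.from S) y) _
    (SymmetricAlgebra.comul_ι _ _ _)

end Groth.GrpschAbsch
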