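import Groth.Agent.GrpschAbsch.TorusToAbelian
import Groth.Agent.Reductive.BaseChangeMT
import Groth.Agent.AbSchBiext.Main
import Groth.Prelude.Def_CGrpSh

/-!
The sheaf of homomorphisms from a torus to an abelian scheme is zero.
-/

set_option autoImplicit false
set_option linter.style.haveILetI false
set_option synthInstance.maxHeartbeats 200000
set_option maxHeartbeats 1000000
universe u

open CategoryTheory Limits MonoidalCategory CartesianMonoidalCategory MonObj GrpObj AlgebraicGeometry Opposite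

noncomputable section

namespace Groth.GrpschAbsch.TorusToAbelian

open Groth.Reductive.FreeDiag in
/-- Tori are stable under base change. -/
theorem isTorus_bc {S T : Scheme.{u}} {H : Over S} [GrpObj H] (hH : Red.IsTorus H) (g : T ⟶ S) :
    Red.IsTorus (Red.bc g H) := by
  obtain ⟨S', f, hflat, hsurj, hqc, hloc⟩ := hH
  let p := Limits.pullback.fst g f
  let q := Limits.pullback.snd g f
  refine ⟨Limits.pullback g f, p, MorphismProperty.pullback_fst _ _ hflat,
    MorphismProperty.pullback_fst _ _ hsurj, qcCover_pullback_fst f hqc g, fun x ↦ ?_⟩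
  obtain ⟨V, hV, r, ⟨e⟩⟩ := hloc (q.base x)
  refine ⟨q ⁻¹ᵁ V, hV, r, ?_⟩
  let e' : Red.DS (V : Scheme.{u}) (Fin r → ℤ) ≅ Red.bc (V.ι ≫ f) H := (Grp.forget _).mapIso e.symm
  haveI : IsMonHom e'.hom := inferInstanceAs (IsMonHom e.inv.hom.hom)
  obtain ⟨i, hi⟩ := exists_trivialisation_comp H (q ∣_ V) (V.ι ≫ f) e'
  obtain ⟨j, hj⟩ := exists_bc_comp_iso H ((q ⁻¹ᵁ V).ι ≫ p) g
  have heq : (q ∣_ V) ≫ V.ι ≫ f = ((q ⁻¹ᵁ V).ι ≫ p) ≫ g := by
    rw [morphismRestrict_ι_assoc, Category.assoc, Limits.pullback.condition]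
  revert i hi
  rw [heq]
  intro i hi
  haveI := hi
  haveI := hj
  haveI : IsMonHom (i ≪≫ j.symm).hom := by
    rw [Iso.trans_hom, Iso.symm_hom]
    infer_instance
  exact ⟨(Grp.mkIso' (i ≪≫ j.symm)).symm⟩

variable {S : Scheme.{u}}

/-- Natural additive maps, over a base `B`, from the points of a torus to those of an abelian scheme vanish. -/
theorem eq_one_of_points (T A : Over S) [GrpObj T] (hT : Red.IsTorus T) [GrpObj A] [Smooth A.hom] [IsProper A.hom]
    (hA : ∀ s : S, ConnectedSpace ↥(A.hom.fiber s)) (B : Over S)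
    (v : ∀ U : Over S, (U ⟶ B) → (U ⟶ T) → (U ⟶ A))
    (hmul : ∀ U f a b, v U f (a * b) = v U f a * v U f b)
    (hnat : ∀ {U V : Over S} (g : V ⟶ U) f a, g ≫ v U f a = v V (g ≫ f) (g ≫ a))
    (U : Over S) (f : U ⟶ B) (a : U ⟶ T) : v U f a = 1 := by
  let g := B.hom
  let eT := fun Y => Groth.Reductive.bcPointEquiv g T Y
  let eA := fun Y => Groth.Reductive.bcPointEquiv g A Y
  let str : ∀ Y : Over B.left, (Over.map g).obj Y ⟶ B := fun Y => Over.homMk Y.hom rfl
  let w : ∀ Y : Over B.left, (Y ⟶ Red.bc g T) → (Y ⟶ Red.bc g A) := fun Y y =>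
    (eA Y).symm (v _ (str Y) (eT Y y))
  have hw_mul : ∀ Y y z, w Y (y * z) = w Y y * w Y z := fun Y y z => by
    show (eA Y).symm _ = _
    rw [_root_.map_mul, hmul, _root_.map_mul]
  have hw_nat : ∀ {Y Z : Over B.left} (h : Z ⟶ Y) y, h ≫ w Y y = w Z (h ≫ y) := fun {Y Z} h y => by
    apply (eA Z).injective
    show Groth.Reductive.bcPointEquiv g A Z _ = _
    rw [Groth.Reductive.bcPointEquiv_comp]
    show (Over.map g).map h ≫ eA Y ((eA Y).symm _) = eA Z ((eA Z).symm _)
    rw [MulEquiv.apply_symm_apply, MulEquiv.apply_symm_apply, hnat]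
    congr 1
    · exact Over.OverMorphism.ext (Over.w h)
  have hw_one : ∀ Y, w Y 1 = 1 := fun Y => by
    have h := hw_mul Y 1 1
    rw [_root_.mul_one] at h
    exact _root_.mul_left_cancel (h.symm.trans (_root_.mul_one _).symm)
  let T' := Red.bc g T
  let A' := Red.bc g A
  let u : T' ⟶ A' := w T' (𝟙 T')
  have hu : ∀ {Y : Over B.left} (y : Y ⟶ T'), y ≫ u = w Y y := fun y => by
    rw [hw_nat, Category.comp_id]
  haveI : IsMonHom u :=
    { one_hom := by
        rw [hu, show η[T'] = (1 : 𝟙_ _ ⟶ T') by rw [Hom.one_def, toUnit_unique (toUnit _) (𝟙 _), Category.id_comp],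
          hw_one, Hom.one_def, toUnit_unique (toUnit _) (𝟙 _), Category.id_comp]
      mul_hom := by
        rw [hu, show μ[T'] = fst T' T' * snd T' T' by rw [Hom.mul_def, lift_fst_snd, Category.id_comp], hw_mul,
          ← hu, ← hu, Hom.mul_def]
        congr 1 }
  haveI : Smooth A'.hom := inferInstanceAs (Smooth (pullback.snd A.hom g))
  haveI : IsProper A'.hom := inferInstanceAs (IsProper (pullback.snd A.hom g))
  haveI := Groth.AbSchBiext.geometricallyConnected_of_unit A hA
  haveI : GeometricallyConnected A'.hom := inferInstanceAs (GeometricallyConnected (pullback.snd A.hom g))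
  have h1 := eq_one T' A' (isTorus_bc hT g) (fun s => inferInstance) u
  let Y : Over B.left := Over.mk f.left
  let c : U ⟶ (Over.map g).obj Y := Over.homMk (𝟙 _) ((Category.id_comp _).trans (Over.w f))
  let c' : (Over.map g).obj Y ⟶ U := Over.homMk (𝟙 _) ((Category.id_comp _).trans (Over.w f).symm)
  have hzero : w Y ((eT Y).symm (c' ≫ a)) = 1 := by rw [← hu, h1, MonObj.comp_one]
  have h2 : v _ (str Y) (c' ≫ a) = 1 := by
    have := congrArg (eA Y) hzero
    rw [_root_.map_one] at this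
    simpa only [w, MulEquiv.apply_symm_apply] using this
  have hcc : c ≫ c' = 𝟙 U := Over.OverMorphism.ext (Category.comp_id _)
  have hstr : str Y = c' ≫ f := Over.OverMorphism.ext (Category.id_comp _).symm
  rw [hstr, ← hnat] at h2
  rw [← Category.id_comp (v U f a), ← hcc, Category.assoc, h2, MonObj.comp_one]

open Groth.AbSchBiext in
/-- The sheaf of homomorphisms from a torus to an abelian scheme is zero. -/
theorem isZero_homSh (T A : Over S) [GrpObj T] [IsCommMonObj T] (hT : Red.IsTorus T) [GrpObj A] [IsCommMonObj A]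
    [Smooth A.hom] [IsProper A.hom] (hA : ∀ s : S, ConnectedSpace ↥(A.hom.fiber s)) (K : Precoverage Scheme.{u})
    [(QuotSh.J K S).Subcanonical] :
    IsZero (HomSh.homSh (QuotSh.J K S) (CGrpSh.pts K T) (CGrpSh.pts K A)) := by
  refine (IsZero.iff_id_eq_zero _).mpr (Sheaf.hom_ext (NatTrans.ext (funext fun B => AddCommGrpCat.ext fun φ => ?_)))
  refine val_ext (Q := CGrpSh.pts K T) (X := CGrpSh.pts K A) fun U f q => ?_
  let v : ∀ U : Over S, (U ⟶ unop B) → (U ⟶ T) → (U ⟶ A) := fun U f a =>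
    (val (φ : (CGrpSh.pts K T).over (unop B) ⟶ (CGrpSh.pts K A).over (unop B)) U f
      ⟨Additive.ofMul a⟩).down.toMul
  have hv := eq_one_of_points T A hT hA (unop B) v
    (fun U f a b => congrArg (fun z => z.down.toMul)
      (val_add (φ : (CGrpSh.pts K T).over (unop B) ⟶ (CGrpSh.pts K A).over (unop B)) U f
        ⟨Additive.ofMul a⟩ ⟨Additive.ofMul b⟩))
    (fun g f a => congrArg (fun z => z.down.toMul)
      (val_map (φ : (CGrpSh.pts K T).over (unop B) ⟶ (CGrpSh.pts K A).over (unop B)) g f ⟨Additive.ofMul a⟩))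
    U f q.down.toMul
  exact ULift.ext _ _ (congrArg Additive.ofMul hv)

end Groth.GrpschAbsch.TorusToAbelian
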