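/-
Products with the spectrum of a filtered union of split finite algebras.
-/
import Groth.Prelude.Def_FDesc
import Mathlib.AlgebraicGeometry.Pullbacks
import Mathlib.AlgebraicGeometry.AffineScheme
import Mathlib.RingTheory.TensorProduct.Basic
import Mathlib.Topology.Constructions

open CategoryTheory CategoryTheory.Limits AlgebraicGeometry TensorProduct Topology

universe u

set_option backward.isDefEq.respectTransparency false

namespace Groth.GrpschAbsch.ProfiniteProd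

variable {k : Type u} [Field k] {A : Type u} [CommRing A] [Algebra k A]
  (hA : ∀ s : Finset A, ∃ (B : Subalgebra k A) (n : ℕ), (↑s : Set A) ⊆ (B : Set A) ∧ Nonempty (B ≃ₐ[k] (Fin n → k)))
  {R : Type u} [CommRing R] [Algebra k R]

include hA

/-- Every element of `A` is congruent to a constant modulo every prime, uniformly on a clopen. -/
theorem exists_scalar (P : PrimeSpectrum A) (a : A) : ∃ c : k, a - algebraMap k A c ∈ P.asIdeal := by
  obtain ⟨B, n, hB, ⟨ε⟩⟩ := hA {a}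
  let b : B := ⟨a, hB (by simp)⟩
  let e : Fin n → B := fun i => ε.symm (Pi.single i 1)
  have h1 : (∑ i, (e i : A)) = 1 := by
    show (∑ i, B.val (e i)) = 1
    rw [← map_sum, ← map_sum, Finset.univ_sum_single]
    exact congrArg Subtype.val (map_one ε.symm)
  obtain ⟨i, hi⟩ : ∃ i, (e i : A) ∉ P.asIdeal := by
    by_contra h
    push Not at h
    exact P.2.ne_top ((Ideal.eq_top_iff_one _).2 (h1 ▸ P.asIdeal.sum_mem fun i _ => h i))
  have h2 : e i * (b - algebraMap k B (ε b i)) = 0 := by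
    apply ε.injective
    funext j
    simp only [map_mul, map_sub, AlgEquiv.commutes, e, AlgEquiv.apply_symm_apply, Pi.mul_apply, Pi.sub_apply,
      Pi.algebraMap_apply, Algebra.algebraMap_self, RingHom.id_apply, map_zero, Pi.zero_apply]
    rcases eq_or_ne j i with rfl | hne
    · simp
    · simp [Pi.single_eq_of_ne hne]
  refine ⟨ε b i, (P.2.mem_or_mem ?_).resolve_left hi⟩
  have : (e i : A) * (a - algebraMap k A (ε b i)) = 0 := congrArg Subtype.val h2
  rw [this]
  exact zero_mem _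

/-- An element of `A ⊗ R` is, near a given prime of `A`, a pure element of `R`. -/
theorem exists_local_constant (h : A ⊗[k] R) (P : PrimeSpectrum A) :
    ∃ (e : A) (r : R), e ∉ P.asIdeal ∧ (e ⊗ₜ[k] (1 : R)) * h = e ⊗ₜ[k] r := by
  suffices ∀ h : A ⊗[k] R, ∃ (s : Finset A), ∀ (B : Subalgebra k A) (n : ℕ), (↑s : Set A) ⊆ B →
      ∀ ε : B ≃ₐ[k] (Fin n → k), ∀ i, ∃ r : R,
        ((ε.symm (Pi.single i 1) : B) : A) ⊗ₜ[k] (1 : R) * h = ((ε.symm (Pi.single i 1) : B) : A) ⊗ₜ[k] r by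
    obtain ⟨s, hs⟩ := this h
    obtain ⟨B, n, hB, ⟨ε⟩⟩ := hA s
    have h1 : (∑ i, ((ε.symm (Pi.single i 1) : B) : A)) = 1 := by
      show (∑ i, B.val (ε.symm (Pi.single i 1))) = 1
      rw [← map_sum, ← map_sum, Finset.univ_sum_single]
      exact congrArg Subtype.val (map_one ε.symm)
    obtain ⟨i, hi⟩ : ∃ i, ((ε.symm (Pi.single i 1) : B) : A) ∉ P.asIdeal := by
      by_contra h
      push Not at h
      exact P.2.ne_top ((Ideal.eq_top_iff_one _).2 (h1 ▸ P.asIdeal.sum_mem fun i _ => h i))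
    obtain ⟨r, hr⟩ := hs B n hB ε i
    exact ⟨_, r, hi, hr⟩
  classical
  intro h
  induction h using TensorProduct.induction_on with
  | zero => exact ⟨∅, fun B n _ ε i => ⟨0, by rw [mul_zero, tmul_zero]⟩⟩
  | tmul a r =>
    refine ⟨{a}, fun B n hB ε i => ⟨ε ⟨a, hB (by simp)⟩ i • r, ?_⟩⟩
    rw [Algebra.TensorProduct.tmul_mul_tmul, one_mul, ← smul_tmul]
    congr 1
    have : ε.symm (Pi.single i 1) * ⟨a, hB (by simp)⟩ = ε ⟨a, hB (by simp)⟩ i • ε.symm (Pi.single i 1) := by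
      apply ε.injective
      funext j
      simp only [map_mul, map_smul, AlgEquiv.apply_symm_apply, Pi.mul_apply, Pi.smul_apply, smul_eq_mul]
      rcases eq_or_ne j i with rfl | hne
      · simp [mul_comm]
      · simp [Pi.single_eq_of_ne hne]
    exact congrArg Subtype.val this
  | add x y hx hy =>
    obtain ⟨s, hs⟩ := hx
    obtain ⟨t, ht⟩ := hy
    refine ⟨s ∪ t, fun B n hB ε i => ?_⟩
    simp only [Finset.coe_union, Set.union_subset_iff] at hB
    obtain ⟨r, hr⟩ := hs B n hB.1 ε i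
    obtain ⟨r', hr'⟩ := ht B n hB.2 ε i
    exact ⟨r + r', by rw [mul_add, hr, hr', tmul_add]⟩

/-- The two contractions determine a prime of `A ⊗ R`, open sets contain boxes. -/
theorem exists_box (Q : PrimeSpectrum (A ⊗[k] R)) (h : A ⊗[k] R) (hh : h ∉ Q.asIdeal) :
    ∃ (e : A) (r : R), e ⊗ₜ[k] (1 : R) ∉ Q.asIdeal ∧ (1 : A) ⊗ₜ[k] r ∉ Q.asIdeal ∧
      ∀ Q' : PrimeSpectrum (A ⊗[k] R), e ⊗ₜ[k] (1 : R) ∉ Q'.asIdeal → (1 : A) ⊗ₜ[k] r ∉ Q'.asIdeal →
        h ∉ Q'.asIdeal := by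
  obtain ⟨e, r, he, hr⟩ := exists_local_constant hA h
    (PrimeSpectrum.comap (Algebra.TensorProduct.includeLeftRingHom : A →+* A ⊗[k] R) Q)
  have hfac : e ⊗ₜ[k] r = e ⊗ₜ[k] (1 : R) * (1 : A) ⊗ₜ[k] r := by simp
  refine ⟨e, r, he, fun hmem => ?_, fun Q' h1 h2 hmem => ?_⟩
  · exact ((Q.2.mem_or_mem (show (e ⊗ₜ[k] (1 : R)) * h ∈ Q.asIdeal by
      rw [hr, hfac]; exact Q.asIdeal.mul_mem_left _ hmem)).elim he hh)
  · have := Q'.asIdeal.mul_mem_left (e ⊗ₜ[k] (1 : R)) hmem
    rw [hr, hfac] at this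
    exact (Q'.2.mem_or_mem this).elim h1 h2

theorem eq_of_comap_eq (Q Q' : PrimeSpectrum (A ⊗[k] R))
    (h1 : PrimeSpectrum.comap (Algebra.TensorProduct.includeLeftRingHom : A →+* A ⊗[k] R) Q =
      PrimeSpectrum.comap (Algebra.TensorProduct.includeLeftRingHom : A →+* A ⊗[k] R) Q')
    (h2 : PrimeSpectrum.comap (Algebra.TensorProduct.includeRight : R →ₐ[k] A ⊗[k] R).toRingHom Q =
      PrimeSpectrum.comap (Algebra.TensorProduct.includeRight : R →ₐ[k] A ⊗[k] R).toRingHom Q') : Q = Q' := by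
  have aux : ∀ {Q Q' : PrimeSpectrum (A ⊗[k] R)},
      PrimeSpectrum.comap (Algebra.TensorProduct.includeLeftRingHom : A →+* A ⊗[k] R) Q =
        PrimeSpectrum.comap (Algebra.TensorProduct.includeLeftRingHom : A →+* A ⊗[k] R) Q' →
      PrimeSpectrum.comap (Algebra.TensorProduct.includeRight : R →ₐ[k] A ⊗[k] R).toRingHom Q =
        PrimeSpectrum.comap (Algebra.TensorProduct.includeRight : R →ₐ[k] A ⊗[k] R).toRingHom Q' →
      ∀ h, h ∈ Q'.asIdeal → h ∈ Q.asIdeal := by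
    intro Q Q' h1 h2 h hh
    by_contra hn
    obtain ⟨e, r, he, hr, hbox⟩ := exists_box hA Q h hn
    refine hbox Q' (fun hm => he ?_) (fun hm => hr ?_) hh
    · exact (congrArg PrimeSpectrum.asIdeal h1).ge hm
    · exact (congrArg PrimeSpectrum.asIdeal h2).ge hm
  exact PrimeSpectrum.ext (le_antisymm (fun h hh => aux h1.symm h2.symm h hh) fun h hh => aux h1 h2 h hh)

theorem isHomeomorph_prod (X : Scheme.{u}) (f : X ⟶ Spec (CommRingCat.of k)) :
    IsHomeomorph (fun p : ↑(pullback (Spec.map (CommRingCat.ofHom (algebraMap k A))) f) =>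
      (pullback.fst (Spec.map (CommRingCat.ofHom (algebraMap k A))) f p,
        pullback.snd (Spec.map (CommRingCat.ofHom (algebraMap k A))) f p)) := by
  set sA := Spec.map (CommRingCat.ofHom (algebraMap k A))
  -- affine charts
  have chart : ∀ x : X, ∃ (R : Type u) (_ : CommRing R) (_ : Algebra k R) (m : Spec (CommRingCat.of R) ⟶ X)
      (ψ : Spec (CommRingCat.of (A ⊗[k] R)) ⟶ pullback sA f), IsOpenImmersion m ∧ x ∈ Set.range m ∧
      IsOpenImmersion ψ ∧ (∀ z, pullback.snd sA f z ∈ Set.range m → z ∈ Set.range ψ) ∧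
      (∀ Q : PrimeSpectrum (A ⊗[k] R), pullback.fst sA f (ψ Q) =
          PrimeSpectrum.comap (Algebra.TensorProduct.includeLeftRingHom : A →+* A ⊗[k] R) Q ∧
        pullback.snd sA f (ψ Q) =
          m (PrimeSpectrum.comap (Algebra.TensorProduct.includeRight : R →ₐ[k] A ⊗[k] R).toRingHom Q)) := by
    intro x
    obtain ⟨U, hU, hxU, -⟩ := exists_isAffineOpen_mem_and_subset (U := (⊤ : X.Opens)) (x := x) trivial
    let : Algebra k Γ(X, U) := (Spec.preimage (hU.fromSpec ≫ f)).hom.toAlgebra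
    have hm : hU.fromSpec ≫ f = Spec.map (CommRingCat.ofHom (algebraMap k Γ(X, U))) :=
      (Spec.map_preimage _).symm
    let μ : pullback sA (Spec.map (CommRingCat.ofHom (algebraMap k Γ(X, U)))) ⟶ pullback sA f :=
      pullback.map _ _ _ _ (𝟙 _) hU.fromSpec (𝟙 _) (by simp [sA]) (by rw [Category.comp_id, hm])
    have hμ : IsPullback μ (pullback.snd _ _) (pullback.snd sA f) hU.fromSpec := by
      refine IsPullback.of_right ?_ (pullback.lift_snd _ _ _) (IsPullback.of_hasPullback sA f)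
      rw [pullback.lift_fst, Category.comp_id, hm]
      exact IsPullback.of_hasPullback _ _
    have : IsOpenImmersion μ := MorphismProperty.of_isPullback hμ.flip inferInstance
    refine ⟨Γ(X, U), inferInstance, inferInstance, hU.fromSpec, (pullbackSpecIso k A Γ(X, U)).inv ≫ μ,
      inferInstance, hU.range_fromSpec.ge hxU, inferInstance, ?_, fun Q => ⟨?_, ?_⟩⟩
    · rintro z ⟨w, hw⟩
      obtain ⟨t, ht, -⟩ := Scheme.Pullback.exists_preimage_pullback (f := pullback.snd sA f) (g := hU.fromSpec) z w hw.symm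
      refine ⟨(pullbackSpecIso k A Γ(X, U)).hom (hμ.isoPullback.inv t), ?_⟩
      rw [← Scheme.Hom.comp_apply, Iso.hom_inv_id_assoc, ← Scheme.Hom.comp_apply, hμ.isoPullback_inv_fst]
      exact ht
    · rw [← Scheme.Hom.comp_apply]
      simp only [μ, Category.assoc, pullback.lift_fst, Category.comp_id]
      erw [pullbackSpecIso_inv_fst]
      rfl
    · rw [← Scheme.Hom.comp_apply]
      simp only [μ, Category.assoc, pullback.lift_snd]
      erw [pullbackSpecIso_inv_snd_assoc]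
      rfl
  refine ⟨?_, ?_, ?_, ?_⟩
  · exact (pullback.fst sA f).continuous.prodMk (pullback.snd sA f).continuous
  · refine fun U hU => isOpen_iff_forall_mem_open.2 ?_
    rintro _ ⟨z, hz, rfl⟩
    obtain ⟨R, _, _, m, ψ, hm, hx, hψ, hran, hval⟩ := chart (pullback.snd sA f z)
    obtain ⟨Q, rfl⟩ := hran z hx
    obtain ⟨_, ⟨_, ⟨h, rfl⟩, rfl⟩, hhQ, hsub⟩ := PrimeSpectrum.isBasis_basic_opens.exists_subset_of_mem_open
      (show Q ∈ ψ ⁻¹' U from hz) (hU.preimage ψ.continuous)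
    obtain ⟨e, r, he, hr, hbox⟩ := exists_box hA Q h hhQ
    refine ⟨(PrimeSpectrum.basicOpen e : Set (PrimeSpectrum A)) ×ˢ (m '' (PrimeSpectrum.basicOpen r : Set (PrimeSpectrum R))),
      ?_, IsOpen.prod (PrimeSpectrum.basicOpen e).2 (m.isOpenEmbedding.isOpenMap _ (PrimeSpectrum.basicOpen r).2), ?_⟩
    · rintro ⟨P, _⟩ ⟨hP, w, hw, rfl⟩
      obtain ⟨z', hz1, hz2⟩ := Scheme.Pullback.exists_preimage_pullback (f := sA) (g := f) P (m w) (Subsingleton.elim _ _)
      obtain ⟨Q', rfl⟩ := hran z' (hz2 ▸ ⟨w, rfl⟩)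
      obtain ⟨e1, e2⟩ := hval Q'
      have e2' := m.isOpenEmbedding.injective ((hz2.symm.trans e2))
      refine ⟨ψ Q', hsub (hbox Q' ?_ ?_), Prod.ext hz1 hz2⟩
      · exact fun hmem => hP ((congrArg PrimeSpectrum.asIdeal (hz1.symm.trans e1)).ge hmem)
      · exact fun hmem => hw ((congrArg PrimeSpectrum.asIdeal e2').ge hmem)
    · obtain ⟨e1, e2⟩ := hval Q
      exact ⟨show pullback.fst sA f (ψ Q) ∈ _ from e1 ▸ he, ⟨_, hr, e2.symm⟩⟩
  · intro z z' hzz
    simp only [Prod.mk.injEq] at hzz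
    obtain ⟨R, _, _, m, ψ, hm, hx, hψ, hran, hval⟩ := chart (pullback.snd sA f z)
    obtain ⟨Q, rfl⟩ := hran z hx
    obtain ⟨Q', rfl⟩ := hran z' (hzz.2 ▸ hx)
    obtain ⟨h1, h2⟩ := hzz
    rw [(hval Q).1, (hval Q').1] at h1
    rw [(hval Q).2, (hval Q').2] at h2
    exact congrArg _ (eq_of_comap_eq hA Q Q' h1 (m.isOpenEmbedding.injective h2))
  · rintro ⟨P, x⟩
    obtain ⟨z, h1, h2⟩ := Scheme.Pullback.exists_preimage_pullback (f := sA) (g := f) P x (Subsingleton.elim _ _)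
    exact ⟨z, Prod.ext h1 h2⟩

end Groth.GrpschAbsch.ProfiniteProd
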