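import Groth.Agent.GrpschAbsch.FieldComp

/-!
Compactness of irreducible group schemes over a field.
-/

universe u

open CategoryTheory CategoryTheory.Limits MonoidalCategory CartesianMonoidalCategory MonObj GrpObj
  AlgebraicGeometry TopologicalSpace

namespace Groth.GrpschAbsch

variable {K : Type u} [Field K]

/-- An irreducible group scheme over a field is geometrically irreducible. -/
theorem geometricallyIrreducible_of_irreducibleSpace (G : Over (Spec (CommRingCat.of K))) [GrpObj G]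
    [IrreducibleSpace G.left] : GeometricallyIrreducible G.hom := by
  have hr : Set.range (𝟙 G.left : G.left ⟶ G.left) = Set.univ := Set.eq_univ_of_forall fun y ↦ ⟨y, rfl⟩
  have h := geometricallyIrreducible_component_unit G (𝟙 G.left)
    (by rw [hr]; exact ⟨IrreducibleSpace.isIrreducible_univ _, fun _ _ _ _ _ ↦ trivial⟩)
    (by rw [hr]; trivial)
  simpa using h

lemma comp_resPt_apply {S : Scheme.{u}} {Z A : Over S} (z : Z.left) (g : A ⟶ resObj z) (v : A.left) :
    (g ≫ resPt z).left v = z := by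
  rw [Over.comp_left, Scheme.Hom.comp_apply, resPt_apply]

/-- An irreducible group scheme over a field is covered by the product of two copies of any open. -/
theorem surjective_mul_of_irreducibleSpace (G : Over (Spec (CommRingCat.of K))) [GrpObj G]
    [IrreducibleSpace G.left] (U : G.left.Opens) (hU : (U : Set G.left).Nonempty) :
    Function.Surjective ((Over.homMk U.ι rfl ⊗ₘ Over.homMk U.ι rfl :
      Over.mk (U.ι ≫ G.hom) ⊗ Over.mk (U.ι ≫ G.hom) ⟶ G ⊗ G) ≫ μ[G]).left := by
  intro x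
  have := geometricallyIrreducible_of_irreducibleSpace G
  have : IrreducibleSpace (resObj x).left := by
    rw [irreducibleSpace_def]
    exact ⟨⟨default, trivial⟩, Set.subsingleton_univ.isPreirreducible⟩
  have : IrreducibleSpace (resObj x ⊗ G).left :=
    inferInstanceAs (IrreducibleSpace ↥(pullback (resObj x).hom G.hom))
  let a : resObj x ⊗ G ⟶ G := fst _ _ ≫ resPt x
  let s : resObj x ⊗ G ⟶ G := snd _ _
  let b : resObj x ⊗ G ⟶ G := s⁻¹ * a
  have hs : Function.Surjective s.left := by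
    have : Surjective (resObj x).hom := ⟨fun y ↦ ⟨default, @Subsingleton.elim _
      (inferInstanceAs (Subsingleton ↥(Spec (CommRingCat.of K)))) _ _⟩⟩
    have h : Surjective (pullback.snd (resObj x).hom G.hom) := inferInstance
    exact h.surj
  let φ : resObj x ⊗ G ≅ resObj x ⊗ G :=
    { hom := lift (fst _ _) b
      inv := lift (fst _ _) (a * s⁻¹)
      hom_inv_id := by
        apply CartesianMonoidalCategory.hom_ext <;>
          simp [a, b, s, MonObj.comp_mul, GrpObj.comp_inv]
      inv_hom_id := by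
        apply CartesianMonoidalCategory.hom_ext <;>
          simp [a, b, s, MonObj.comp_mul, GrpObj.comp_inv] }
  have hb : Function.Surjective b.left := by
    have h : φ.hom ≫ s = b := lift_snd _ _
    rw [← h, Over.comp_left]
    exact hs.comp (leftHomeo φ).surjective
  obtain ⟨w, -, hw1, hw2⟩ := (IrreducibleSpace.isIrreducible_univ (resObj x ⊗ G).left).2
    _ _ (U.isOpen.preimage s.left.continuous) (U.isOpen.preimage b.left.continuous)
    (by obtain ⟨z, hz⟩ := hU; obtain ⟨p, rfl⟩ := hs z; exact ⟨p, trivial, hz⟩)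
    (by obtain ⟨z, hz⟩ := hU; obtain ⟨p, rfl⟩ := hb z; exact ⟨p, trivial, hz⟩)
  let W : (resObj x ⊗ G).left.Opens := s.left ⁻¹ᵁ U ⊓ b.left ⁻¹ᵁ U
  let jW : Over.mk (W.ι ≫ (resObj x ⊗ G).hom) ⟶ resObj x ⊗ G := Over.homMk W.ι rfl
  let jU : Over.mk (U.ι ≫ G.hom) ⟶ G := Over.homMk U.ι rfl
  have hfac : ∀ (m : resObj x ⊗ G ⟶ G), Set.range (jW ≫ m).left ⊆ U →
      ∃ m' : Over.mk (W.ι ≫ (resObj x ⊗ G).hom) ⟶ Over.mk (U.ι ≫ G.hom), m' ≫ jU = jW ≫ m := by
    intro m hm
    have hm' : Set.range (jW ≫ m).left ⊆ Set.range U.ι := by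
      rw [Scheme.Opens.range_ι]; exact hm
    have hl := IsOpenImmersion.lift_fac U.ι (jW ≫ m).left hm'
    refine ⟨Over.homMk (IsOpenImmersion.lift U.ι (jW ≫ m).left hm') ?_, Over.OverMorphism.ext hl⟩
    show _ ≫ U.ι ≫ G.hom = _
    rw [reassoc_of% hl, Over.w (jW ≫ m)]
  obtain ⟨s', hs'⟩ := hfac s (by
    rintro _ ⟨⟨v, hv⟩, rfl⟩
    exact hv.1)
  obtain ⟨b', hb'⟩ := hfac b (by
    rintro _ ⟨⟨v, hv⟩, rfl⟩
    exact hv.2)
  refine ⟨(lift s' b').left ⟨w, hw1, hw2⟩, ?_⟩
  have h : lift s' b' ≫ (jU ⊗ₘ jU) ≫ μ[G] = jW ≫ a := by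
    rw [lift_map_assoc, hs', hb', ← comp_lift_assoc]
    congr 1
    show s * b = a
    simp [b]
  let v : (Over.mk (W.ι ≫ (resObj x ⊗ G).hom)).left := ⟨w, hw1, hw2⟩
  have key : (lift s' b' ≫ (jU ⊗ₘ jU) ≫ μ[G]).left v = (jW ≫ fst (resObj x) G ≫ resPt x).left v := by
    rw [h]
  rw [← Category.assoc jW, comp_resPt_apply x _ v, Over.comp_left, Scheme.Hom.comp_apply] at key
  exact key

/-- An irreducible group scheme over a field is quasi-compact. -/
theorem compactSpace_of_irreducibleSpace (G : Over (Spec (CommRingCat.of K))) [GrpObj G]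
    [IrreducibleSpace G.left] : CompactSpace G.left := by
  obtain ⟨_, ⟨U, hU, rfl⟩, hx, -⟩ := G.left.isBasis_affineOpens.exists_subset_of_mem_open
    (Set.mem_univ (η[G].left (IsLocalRing.closedPoint K))) isOpen_univ
  let U' : G.left.Opens := U
  have : IsAffine U'.toScheme := hU
  have : CompactSpace (Over.mk (U'.ι ≫ G.hom) ⊗ Over.mk (U'.ι ≫ G.hom) :
      Over (Spec (CommRingCat.of K))).left :=
    inferInstanceAs (CompactSpace ↥(pullback (U'.ι ≫ G.hom) (U'.ι ≫ G.hom)))
  have hs := surjective_mul_of_irreducibleSpace G U' ⟨_, hx⟩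
  refine ⟨?_⟩
  rw [← hs.range_eq]
  exact isCompact_range (Scheme.Hom.continuous _)

end Groth.GrpschAbsch
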