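import Groth.Agent.GrpschAbsch.FieldComp
import Groth.Agent.GrpschAbsch.FieldCompact
import Groth.Agent.AlgGrp1.Basic
import Groth.Agent.AlgGrp1.Sub
import Groth.Agent.SchemeMorphisms.Points

/-!
The connected component of the unit of an arbitrary group scheme over a field is irreducible and
quasi-compact.
-/

universe u

open CategoryTheory CategoryTheory.Limits MonoidalCategory CartesianMonoidalCategory MonObj GrpObj
  AlgebraicGeometry TopologicalSpace

namespace Groth.GrpschAbsch

variable {K : Type u} [Field K] (G : Over (Spec (CommRingCat.of K))) [GrpObj G]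

/-- The unit point. -/
noncomputable abbrev unitPt : G.left := η[G].left (IsLocalRing.closedPoint K)

lemma one_comp_left_apply {Y : Over (Spec (CommRingCat.of K))} (w : Y.left) :
    (1 : Y ⟶ G).left w = (unitPt G) := by
  rw [Hom.one_def]
  show η[G].left (Y.hom w) = _
  rw [Subsingleton.elim (Y.hom w) (IsLocalRing.closedPoint K)]

/-- The maximal point above the unit. -/
theorem exists_unit_component :
    ∃ (ξ : G.left) (T : Over (Spec (CommRingCat.of K))) (c : T ⟶ G), IsMax ξ ∧ (unitPt G) ≤ ξ ∧
      IsClosedImmersion c.left ∧ GeometricallyIrreducible T.hom ∧ Set.range c.left = closure {ξ} := by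
  obtain ⟨ξ, h1, h2⟩ := exists_isMax_ge (unitPt G)
  let I := Scheme.IdealSheafData.vanishingIdeal ⟨closure {ξ}, isClosed_closure⟩
  have hr : Set.range I.subschemeι = closure {ξ} := by
    rw [Scheme.IdealSheafData.range_subschemeι]
    simp [I]
  have : IrreducibleSpace I.subscheme := by
    let T := I.subscheme
    have hinj := I.subschemeι.isClosedEmbedding.injective
    obtain ⟨z, hz⟩ : ξ ∈ Set.range I.subschemeι := hr ▸ subset_closure rfl
    have hc : closure ({z} : Set T) = Set.univ := Set.eq_univ_of_forall fun y => by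
      rw [← specializes_iff_mem_closure, ← I.subschemeι.isClosedEmbedding.isInducing.specializes_iff, hz,
        specializes_iff_mem_closure, ← hr]
      exact ⟨y, rfl⟩
    rw [irreducibleSpace_def]
    show IsIrreducible (Set.univ : Set T)
    rw [← hc]
    exact isIrreducible_singleton.closure
  have := geometricallyIrreducible_component_unit G I.subschemeι
    (hr.symm ▸ closure_mem_irreducibleComponents h2)
    (hr.symm ▸ specializes_iff_mem_closure.mp (Scheme.le_iff_specializes.mp h1))
  exact ⟨ξ, Over.mk (I.subschemeι ≫ G.hom), Over.homMk I.subschemeι rfl, h2, h1,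
    inferInstanceAs (IsClosedImmersion I.subschemeι), this, hr⟩

/-- The points whose maximal generization lies in a given set. -/
def saturation (U : Set G.left) : Set G.left := {y | ∃ ξ, IsMax ξ ∧ y ≤ ξ ∧ ξ ∈ U}

variable {G} in
lemma subset_saturation (U : G.left.Opens) : (U : Set G.left) ⊆ saturation G U := fun y hy => by
  obtain ⟨ξ, h1, h2⟩ := exists_isMax_ge y
  exact ⟨ξ, h2, h1, (Scheme.le_iff_specializes.mp h1).mem_open U.2 hy⟩

theorem isClosed_saturation {U : G.left.Opens} (hU : IsAffineOpen U) : IsClosed (saturation G (U : Set G.left)) := by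
  have := AlgGrp1.isSeparated_grpObj G
  have : IsAffine U.toScheme := hU
  have : QuasiCompact (U.ι ≫ G.hom) :=
    HasAffineProperty.iff_of_isAffine.mpr (inferInstanceAs (CompactSpace U.toScheme))
  have : QuasiCompact U.ι := QuasiCompact.of_comp U.ι G.hom
  refine isClosed_of_closure_subset fun y hy => ?_
  have hy' : y ∈ closure (U : Set G.left) := by
    refine closure_minimal ?_ isClosed_closure hy
    rintro z ⟨ξ, -, hz, hξ⟩
    exact (Scheme.le_iff_specializes.mp hz).mem_closed isClosed_closure (subset_closure hξ)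
  rw [← Scheme.Opens.range_ι U] at hy'
  obtain ⟨w, hw⟩ := SchemeMorphisms.exists_specializes_of_mem_closure_range U.ι hy'
  obtain ⟨ξ, h1, h2, h3⟩ := subset_saturation U (show U.ι w ∈ U from w.2)
  exact ⟨ξ, h1, (Scheme.le_iff_specializes.mpr hw).trans h2, h3⟩

theorem isOpen_saturation (U : G.left.Opens) : IsOpen (saturation G (U : Set G.left)) := by
  obtain ⟨ξe, T, c, hmax, hle, hci, hT, hrange⟩ := exists_unit_component G
  let a : G ⊗ T ⟶ G := fst G T * (snd G T ≫ c)
  let p : (G ⊗ T).left ⟶ G.left := pullback.fst G.hom T.hom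
  have hp : p = (fst G T).left := rfl
  have : UniversallyOpen p := inferInstanceAs (UniversallyOpen (pullback.fst G.hom T.hom))
  have : GeometricallyIrreducible p := inferInstanceAs (GeometricallyIrreducible (pullback.fst G.hom T.hom))
  suffices h : saturation G (U : Set G.left) = p '' (a.left ⁻¹' U) by
    rw [h]
    exact p.isOpenMap _ (U.2.preimage a.left.continuous)
  have heT : (unitPt G) ∈ Set.range c.left := by
    rw [hrange]; exact specializes_iff_mem_closure.mp (Scheme.le_iff_specializes.mp hle)
  have : IsReduced (𝟙_ (Over (Spec (CommRingCat.of K)))).left :=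
    inferInstanceAs (IsReduced (Spec (CommRingCat.of K)))
  obtain ⟨eT, heT'⟩ := AlgGrp1.exists_factor_of_range_subset c η[G] (by
    rintro _ ⟨t, rfl⟩
    rw [show t = IsLocalRing.closedPoint K from @Subsingleton.elim _
      (inferInstanceAs (Subsingleton ↥(Spec (CommRingCat.of K)))) _ _]
    exact heT)
  ext y
  constructor
  · rintro ⟨ξ, hξ, hyξ, hξU⟩
    let A : Over (Spec (CommRingCat.of K)) := resObj y ⊗ G
    let s : A ⟶ G := snd _ _
    let q : A ⟶ resObj y := fst _ _
    let b : A ⟶ G := (q ≫ resPt y)⁻¹ * s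
    let d₀ : resObj y ⟶ A := lift (𝟙 _) (resPt y)
    let x₀ := d₀.left default
    have hd₀s : s.left x₀ = y := by
      show s.left (d₀.left default) = y
      rw [← Scheme.Hom.comp_apply, ← Over.comp_left, show d₀ ≫ s = resPt y from lift_snd _ _, resPt_apply]
    have hflat : Flat s.left := inferInstanceAs (Flat (pullback.snd (resObj y).hom G.hom))
    have hgen : GeneralizingMap s.left := Flat.generalizingMap s.left
    obtain ⟨u, hu, hsu⟩ := hgen (show ξ ⤳ s.left x₀ by rw [hd₀s]; exact Scheme.le_iff_specializes.mp hyξ)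
    have hb₀ : b.left x₀ = (unitPt G) := by
      show b.left (d₀.left default) = _
      rw [← Scheme.Hom.comp_apply, ← Over.comp_left]
      rw [show d₀ ≫ b = 1 by
        simp only [b, q, s, d₀, MonObj.comp_mul, GrpObj.comp_inv, lift_fst_assoc, lift_snd,
          Category.id_comp, inv_mul_cancel]]
      exact one_comp_left_apply G _
    have hbu : b.left u ∈ Set.range c.left := by
      rw [hrange, ← specializes_iff_mem_closure, ← Scheme.le_iff_specializes]
      obtain ⟨m, h1, h2⟩ := exists_isMax_ge (b.left u)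
      have : (unitPt G) ≤ m := le_trans (Scheme.le_iff_specializes.mpr (hb₀ ▸ hu.map b.left.continuous)) h1
      rwa [isMax_unique G hmax h2 hle this]
    have : IsReduced (resObj u).left := inferInstanceAs (IsReduced (Spec (A.left.residueField u)))
    obtain ⟨z, hz⟩ := AlgGrp1.exists_factor_of_range_subset c (resPt u ≫ b) (by
      rintro _ ⟨t, rfl⟩
      rwa [Over.comp_left, Scheme.Hom.comp_apply, resPt_apply])
    let w : resObj u ⟶ G ⊗ T := lift (resPt u ≫ q ≫ resPt y) z
    refine ⟨w.left default, ?_, ?_⟩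
    · show a.left (w.left default) ∈ U
      rw [← Scheme.Hom.comp_apply, ← Over.comp_left]
      have : w ≫ a = resPt u ≫ s := by
        simp only [w, a, MonObj.comp_mul, lift_fst, lift_snd_assoc, hz, b, GrpObj.comp_inv]
        exact mul_inv_cancel_left _ _
      rw [this, Over.comp_left, Scheme.Hom.comp_apply, resPt_apply, hsu]
      exact hξU
    · rw [hp, ← Scheme.Hom.comp_apply, ← Over.comp_left, show w ≫ fst G T = resPt u ≫ q ≫ resPt y from lift_fst _ _]
      simp only [Over.comp_left, Scheme.Hom.comp_apply, resPt_apply]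
  · rintro ⟨w, hwU, rfl⟩
    have hS : IsIrreducible (a.left '' (p ⁻¹' {p w})) :=
      (p.isIrreducible_preimage p.isOpenMap isIrreducible_singleton).image _ a.left.continuous.continuousOn
    let v : resObj (p w) ⟶ G ⊗ T := lift (resPt (p w)) (toUnit _ ≫ eT)
    have hv : a.left (v.left default) = p w := by
      rw [← Scheme.Hom.comp_apply, ← Over.comp_left]
      have : v ≫ a = resPt (p w) := by
        simp only [v, a, MonObj.comp_mul, lift_fst, lift_snd_assoc, Category.assoc, heT']
        rw [← Hom.one_def, _root_.mul_one]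
      rw [this, resPt_apply]
    have hvp : v.left default ∈ p ⁻¹' {p w} := by
      show (fst G T).left (v.left default) = p w
      rw [← Scheme.Hom.comp_apply, ← Over.comp_left, show v ≫ fst G T = resPt (p w) from lift_fst _ _,
        resPt_apply]
    obtain ⟨η', hη'⟩ := QuasiSober.sober hS.closure isClosed_closure
    obtain ⟨m, h1, h2⟩ := exists_isMax_ge η'
    refine ⟨m, h2, le_trans (Scheme.le_iff_specializes.mpr ?_) h1, ?_⟩
    · exact hη'.specializes (subset_closure ⟨_, hvp, hv⟩)
    · exact ((Scheme.le_iff_specializes.mp h1).trans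
        (hη'.specializes (subset_closure ⟨w, rfl, rfl⟩))).mem_open U.2 hwU

theorem exists_isClopen_of_not_mem {ξe : G.left} (hmax : IsMax ξe) (hle : (unitPt G) ≤ ξe) {x : G.left}
    (hxZ : x ∉ closure {ξe}) : ∃ V : Set G.left, IsClopen V ∧ (unitPt G) ∈ V ∧ x ∉ V := by
  obtain ⟨_, ⟨U, hU, rfl⟩, hxU, hUZ⟩ := G.left.isBasis_affineOpens.exists_subset_of_mem_open
    (show x ∈ (closure {ξe})ᶜ from hxZ) isClosed_closure.isOpen_compl
  refine ⟨(saturation G (U : Set G.left))ᶜ,
    (IsClopen.compl ⟨isClosed_saturation G hU, isOpen_saturation G U⟩), ?_, not_not_intro (subset_saturation U hxU)⟩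
  rintro ⟨ξ, h1, h2, h3⟩
  rw [isMax_unique G h1 hmax h2 hle] at h3
  exact hUZ h3 (subset_closure rfl)

/-- The connected component of the unit is the closure of the maximal point above it. -/
theorem connectedComponent_one_eq {ξe : G.left} (hmax : IsMax ξe) (hle : (unitPt G) ≤ ξe) :
    connectedComponent (unitPt G) = closure {ξe} := by
  refine Set.Subset.antisymm (fun x hx => ?_) (isIrreducible_singleton.closure.isConnected.subset_connectedComponent
    (specializes_iff_mem_closure.mp (Scheme.le_iff_specializes.mp hle)))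
  by_contra hxZ
  obtain ⟨V, hV, he, hxV⟩ := exists_isClopen_of_not_mem G hmax hle hxZ
  exact hxV (hV.connectedComponent_subset he hx)

theorem exists_isClopen_separating {x : G.left} (hx : x ∉ connectedComponent (unitPt G)) :
    ∃ V : Set G.left, IsClopen V ∧ (unitPt G) ∈ V ∧ x ∉ V := by
  obtain ⟨ξ, h1, h2⟩ := exists_isMax_ge (unitPt G)
  rw [connectedComponent_one_eq G h2 h1] at hx
  exact exists_isClopen_of_not_mem G h2 h1 hx

theorem isIrreducible_connectedComponent_one : IsIrreducible (connectedComponent (unitPt G)) := by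
  obtain ⟨ξ, h1, h2⟩ := exists_isMax_ge (unitPt G)
  rw [connectedComponent_one_eq G h2 h1]
  exact isIrreducible_singleton.closure

theorem isCompact_connectedComponent_one : IsCompact (connectedComponent (unitPt G)) := by
  obtain ⟨ξe, T, c, hmax, hle, hci, hT, hrange⟩ := exists_unit_component G
  rw [connectedComponent_one_eq G hmax hle, ← hrange]
  obtain ⟨_, ⟨U, hU, rfl⟩, hx, -⟩ := G.left.isBasis_affineOpens.exists_subset_of_mem_open
    (Set.mem_univ (unitPt G)) isOpen_univ
  let U' : G.left.Opens := U
  have : IsAffine U'.toScheme := hU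
  let UO : Over (Spec (CommRingCat.of K)) := Over.mk (U'.ι ≫ G.hom)
  let jU : UO ⟶ G := Over.homMk U'.ι rfl
  have : CompactSpace (UO ⊗ UO).left :=
    inferInstanceAs (CompactSpace ↥(pullback (U'.ι ≫ G.hom) (U'.ι ≫ G.hom)))
  let m := (jU ⊗ₘ jU) ≫ μ[G]
  refine IsCompact.of_isClosed_subset (isCompact_range m.left.continuous)
    c.left.isClosedEmbedding.isClosed_range ?_
  rintro x hxT
  let A : Over (Spec (CommRingCat.of K)) := resObj x ⊗ T
  have : IrreducibleSpace (resObj x).left := by
    rw [irreducibleSpace_def]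
    exact ⟨⟨default, trivial⟩, Set.subsingleton_univ.isPreirreducible⟩
  have : IrreducibleSpace A.left := inferInstanceAs (IrreducibleSpace ↥(pullback (resObj x).hom T.hom))
  let s : A ⟶ G := snd _ _ ≫ c
  let a : A ⟶ G := fst _ _ ≫ resPt x
  let b : A ⟶ G := s⁻¹ * a
  have : IsReduced (𝟙_ (Over (Spec (CommRingCat.of K)))).left :=
    inferInstanceAs (IsReduced (Spec (CommRingCat.of K)))
  obtain ⟨eT, heT⟩ := AlgGrp1.exists_factor_of_range_subset c η[G] (by
    rintro _ ⟨t, rfl⟩
    rw [show t = IsLocalRing.closedPoint K from @Subsingleton.elim _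
      (inferInstanceAs (Subsingleton ↥(Spec (CommRingCat.of K)))) _ _, hrange]
    exact specializes_iff_mem_closure.mp (Scheme.le_iff_specializes.mp hle))
  have : IsReduced (resObj x).left := inferInstanceAs (IsReduced (Spec (G.left.residueField x)))
  obtain ⟨xT, hxT'⟩ := AlgGrp1.exists_factor_of_range_subset c (resPt x) (by
    rintro _ ⟨t, rfl⟩
    rwa [resPt_apply])
  let v₁ : resObj x ⟶ A := lift (𝟙 _) (toUnit _ ≫ eT)
  let v₂ : resObj x ⟶ A := lift (𝟙 _) xT
  have hv₁ : s.left (v₁.left default) ∈ U' := by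
    rw [← Scheme.Hom.comp_apply, ← Over.comp_left]
    have : v₁ ≫ s = 1 := by
      simp only [v₁, s, lift_snd_assoc, Category.assoc, heT]
      exact Hom.one_def.symm
    rw [this, one_comp_left_apply]
    exact hx
  have hv₂ : b.left (v₂.left default) ∈ U' := by
    rw [← Scheme.Hom.comp_apply, ← Over.comp_left]
    have : v₂ ≫ b = 1 := by
      simp only [v₂, b, a, s, MonObj.comp_mul, GrpObj.comp_inv, lift_fst_assoc, lift_snd_assoc,
        Category.id_comp, hxT', inv_mul_cancel]
    rw [this, one_comp_left_apply]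
    exact hx
  obtain ⟨w, -, hw1, hw2⟩ := (IrreducibleSpace.isIrreducible_univ A.left).2
    _ _ (U'.isOpen.preimage s.left.continuous) (U'.isOpen.preimage b.left.continuous)
    ⟨_, trivial, hv₁⟩ ⟨_, trivial, hv₂⟩
  have hlift : ∀ (g : A ⟶ G), g.left w ∈ U' → ∃ g' : resObj w ⟶ UO, g' ≫ jU = resPt w ≫ g := by
    intro g hg
    have hm : Set.range (resPt w ≫ g).left ⊆ Set.range U'.ι := by
      rw [Scheme.Opens.range_ι]
      rintro _ ⟨t, rfl⟩
      rwa [Over.comp_left, Scheme.Hom.comp_apply, resPt_apply]
    have hl := IsOpenImmersion.lift_fac U'.ι (resPt w ≫ g).left hm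
    refine ⟨Over.homMk (IsOpenImmersion.lift U'.ι (resPt w ≫ g).left hm) ?_, Over.OverMorphism.ext hl⟩
    show _ ≫ U'.ι ≫ G.hom = _
    rw [reassoc_of% hl, Over.w (resPt w ≫ g)]
  obtain ⟨s', hs'⟩ := hlift s hw1
  obtain ⟨b', hb'⟩ := hlift b hw2
  refine ⟨(lift s' b').left default, ?_⟩
  rw [← Scheme.Hom.comp_apply, ← Over.comp_left]
  have h : lift s' b' ≫ m = resPt w ≫ a := by
    rw [lift_map_assoc, hs', hb', ← comp_lift_assoc]
    congr 1
    show s * b = a
    simp [b]
  rw [h]
  simp only [a, Over.comp_left, Scheme.Hom.comp_apply, resPt_apply]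

end Groth.GrpschAbsch
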