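import Groth.Agent.GrpschAbsch.NeutralSubgroup
import Groth.Agent.GrpschAbsch.NeutralSet
import Groth.Agent.GrpschAbsch.BcPoint
import Groth.Agent.GrpschAbsch.IdComp
import Mathlib.RingTheory.Artinian.Module

/-!
Connected components of group schemes locally of finite type over an artinian local ring.
-/

universe u

open CategoryTheory CategoryTheory.Limits MonoidalCategory CartesianMonoidalCategory MonObj GrpObj
  AlgebraicGeometry TopologicalSpace

noncomputable section

namespace Groth.GrpschAbsch

/-- An open and closed map carries components onto components between locally connected spaces. -/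
theorem image_connectedComponent_of_isOpenMap_isClosedMap {X Y : Type*} [TopologicalSpace X] [TopologicalSpace Y]
    [LocallyConnectedSpace X] (f : X → Y) (hc : Continuous f) (ho : IsOpenMap f) (hcl : IsClosedMap f) (x : X) :
    f '' connectedComponent x = connectedComponent (f x) := by
  refine Set.Subset.antisymm (hc.image_connectedComponent_subset x)
    (IsClopen.connectedComponent_subset ⟨hcl _ isClosed_connectedComponent, ho _ isOpen_connectedComponent⟩
      ⟨x, mem_connectedComponent, rfl⟩)

variable {K : Type u} [Field K] (G : Over (Spec (CommRingCat.of K))) [GrpObj G]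

/-- The neutral component is stable under division. -/
theorem range_div_subset {T : Over (Spec (CommRingCat.of K))} (g h : T ⟶ G)
    (hg : Set.range g.left ⊆ connectedComponent (unitPt G))
    (hh : Set.range h.left ⊆ connectedComponent (unitPt G)) :
    Set.range (g * h⁻¹).left ⊆ connectedComponent (unitPt G) := by
  obtain ⟨hG, hi⟩ := exists_grpObj_neutralObj G
  obtain ⟨g', rfl⟩ := exists_lift_neutralIncl G g hg
  obtain ⟨h', rfl⟩ := exists_lift_neutralIncl G h hh
  have : (g' ≫ neutralIncl G) * (h' ≫ neutralIncl G)⁻¹ = (g' * h'⁻¹) ≫ neutralIncl G := by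
    simp [MonObj.mul_comp, GrpObj.inv_comp]
  rw [this, Over.comp_left]
  rintro _ ⟨t, rfl⟩
  rw [Scheme.Hom.comp_apply, ← range_neutralIncl G]
  exact ⟨_, rfl⟩

/-- The neutral component is stable under conjugation. -/
theorem range_conj_subset {T : Over (Spec (CommRingCat.of K))} (g n : T ⟶ G)
    (hn : Set.range n.left ⊆ connectedComponent (unitPt G)) :
    Set.range (g * n * g⁻¹).left ⊆ connectedComponent (unitPt G) := by
  obtain ⟨hG, hi⟩ := exists_grpObj_neutralObj G
  have := geometricallyIrreducible_neutralObj G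
  rintro _ ⟨t, rfl⟩
  obtain ⟨n', hn'⟩ := exists_lift_neutralIncl G n hn
  let A : Over (Spec (CommRingCat.of K)) := resObj t ⊗ neutralObj G
  have : IrreducibleSpace (resObj t).left := by
    rw [irreducibleSpace_def]
    exact ⟨⟨default, trivial⟩, Set.subsingleton_univ.isPreirreducible⟩
  have : IrreducibleSpace A.left := inferInstanceAs (IrreducibleSpace ↥(pullback (resObj t).hom (neutralObj G).hom))
  let a : A ⟶ G := fst _ _ ≫ resPt t ≫ g
  let c : A ⟶ G := a * (snd _ _ ≫ neutralIncl G) * a⁻¹
  let v : resObj t ⟶ A := lift (𝟙 _) 1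
  let w : resObj t ⟶ A := lift (𝟙 _) (resPt t ≫ n')
  have hv : v ≫ c = 1 := by
    simp only [v, c, a, MonObj.comp_mul, GrpObj.comp_inv, lift_fst_assoc, lift_snd_assoc, Category.id_comp,
      MonObj.one_comp, _root_.mul_one, mul_inv_cancel]
  have hw : w ≫ c = resPt t ≫ (g * n * g⁻¹) := by
    simp only [w, c, a, MonObj.comp_mul, GrpObj.comp_inv, lift_fst_assoc, lift_snd_assoc, Category.id_comp,
      Category.assoc, hn']
  have hsub : Set.range c.left ⊆ connectedComponent (unitPt G) :=
    (isPreconnected_range (Scheme.Hom.continuous _)).subset_connectedComponent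
      ⟨v.left default, by rw [← Scheme.Hom.comp_apply, ← Over.comp_left, hv, one_comp_left_apply]⟩
  refine hsub ⟨w.left default, ?_⟩
  rw [← Scheme.Hom.comp_apply, ← Over.comp_left, hw, Over.comp_left, Scheme.Hom.comp_apply, resPt_apply]

/-- Connected components of group schemes locally of finite type over a field are quasi-compact. -/
theorem isCompact_connectedComponent_field [LocallyOfFiniteType G.hom] (x : G.left) :
    IsCompact (connectedComponent x) := by
  let g := Spec.map (CommRingCat.ofHom (algebraMap K (AlgebraicClosure K)))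
  let p := pullback.fst G.hom g
  have : IsIntegralHom g := IsIntegralHom.SpecMap_iff.mpr (algebraMap_isIntegral_iff.mpr inferInstance)
  have : Surjective g := inferInstance
  let : GrpObj (Over.mk G.hom) := ‹GrpObj G›
  let : GrpObj (Over.mk (pullback.snd G.hom g)) := Over.grpObjMkPullbackSnd
  have : LocallyOfFiniteType (Over.mk (pullback.snd G.hom g)).hom :=
    inferInstanceAs (LocallyOfFiniteType (pullback.snd G.hom g))
  have := LocallyOfFiniteType.isLocallyNoetherian (pullback.snd G.hom g)
  have := Groth.SGA7.IdComponent.locallyConnectedSpace (X := pullback G.hom g)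
  have : JacobsonSpace ↥(pullback G.hom g) := LocallyOfFiniteType.jacobsonSpace (pullback.snd G.hom g)
  obtain ⟨y, rfl⟩ := p.surjective x
  rw [← image_connectedComponent_of_isOpenMap_isClosedMap p p.continuous p.isOpenMap p.isClosedMap y]
  refine IsCompact.image ?_ p.continuous
  obtain ⟨z, hz, hzc⟩ := nonempty_inter_closedPoints
    (⟨y, mem_connectedComponent⟩ : (connectedComponent y).Nonempty) isOpen_connectedComponent.isLocallyClosed
  let G' := Over.mk (pullback.snd G.hom g)
  haveI : LocallyConnectedSpace G'.left := Groth.SGA7.IdComponent.locallyConnectedSpace (X := pullback G.hom g)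
  let e : G'.left := unitPt G'
  have he : IsClosed ({e} : Set G'.left) :=
    (pointEquivClosedPoint G'.hom ⟨η[G'].left, Over.w η[G']⟩).2
  obtain ⟨φ, hφ⟩ := exists_homeomorph_closedPoint G' he hzc
  rw [connectedComponent_eq hz, ← hφ, ← image_connectedComponent_of_isOpenMap_isClosedMap φ φ.continuous φ.isOpenMap φ.isClosedMap e]
  exact (isCompact_connectedComponent_one G').image φ.continuous

section Artin

variable (A : Type u) [CommRing A] [IsArtinianRing A] [IsLocalRing A]
variable (H : Over (Spec (CommRingCat.of A))) [GrpObj H] [LocallyOfFiniteType H.hom]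

/-- The inclusion of the closed point of the base. -/
def closedPt : Spec (CommRingCat.of (IsLocalRing.ResidueField A)) ⟶ Spec (CommRingCat.of A) :=
  Spec.map (CommRingCat.ofHom (IsLocalRing.residue A))

omit [IsArtinianRing A] in
instance : IsClosedImmersion (closedPt A) := IsClosedImmersion.spec_of_surjective _ IsLocalRing.residue_surjective

theorem subsingleton_spec : Subsingleton ↥(Spec (CommRingCat.of A)) := ⟨fun a b => PrimeSpectrum.ext (by
    haveI := IsArtinianRing.isMaximal_of_isPrime a.asIdeal
    haveI := IsArtinianRing.isMaximal_of_isPrime b.asIdeal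
    exact (IsLocalRing.eq_maximalIdeal (I := a.asIdeal) inferInstance).trans
      (IsLocalRing.eq_maximalIdeal (I := b.asIdeal) inferInstance).symm)⟩

/-- The special fibre is homeomorphic to the total space. -/
def fibreHomeo : ↥(Red.bc (closedPt A) H).left ≃ₜ ↥H.left :=
  have : Surjective (closedPt A) := ⟨fun y => ⟨IsLocalRing.closedPoint (IsLocalRing.ResidueField A),
    @Subsingleton.elim _ (subsingleton_spec A) _ _⟩⟩
  (Equiv.ofBijective (pullback.fst H.hom (closedPt A))
    ⟨(pullback.fst H.hom (closedPt A)).isClosedEmbedding.injective, (pullback.fst H.hom (closedPt A)).surjective⟩).toHomeomorphOfContinuousClosed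
    (pullback.fst H.hom (closedPt A)).continuous (pullback.fst H.hom (closedPt A)).isClosedMap

theorem image_connectedComponent_fibre (y : ↥(Red.bc (closedPt A) H).left) :
    pullback.fst H.hom (closedPt A) '' connectedComponent y =
      connectedComponent (pullback.fst H.hom (closedPt A) y) := by
  have : LocallyOfFiniteType (Red.bc (closedPt A) H).hom :=
    inferInstanceAs (LocallyOfFiniteType (pullback.snd H.hom (closedPt A)))
  have := LocallyOfFiniteType.isLocallyNoetherian (Red.bc (closedPt A) H).hom
  have := Groth.SGA7.IdComponent.locallyConnectedSpace (X := (Red.bc (closedPt A) H).left)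
  exact image_connectedComponent_of_isOpenMap_isClosedMap (fibreHomeo A H) (fibreHomeo A H).continuous
    (fibreHomeo A H).isOpenMap (fibreHomeo A H).isClosedMap y

theorem isCompact_connectedComponent_artin (x : H.left) : IsCompact (connectedComponent x) := by
  have : LocallyOfFiniteType (Red.bc (closedPt A) H).hom :=
    inferInstanceAs (LocallyOfFiniteType (pullback.snd H.hom (closedPt A)))
  obtain ⟨y, rfl⟩ := (fibreHomeo A H).surjective x
  show IsCompact (connectedComponent (pullback.fst H.hom (closedPt A) y))
  rw [← image_connectedComponent_fibre]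
  exact (isCompact_connectedComponent_field _ y).image (Scheme.Hom.continuous _)

theorem fst_unitPt (pt : ↥(𝟙_ (Over (Spec (CommRingCat.of A)))).left) :
    pullback.fst H.hom (closedPt A) (unitPt (Red.bc (closedPt A) H)) = η[H].left pt := by
  rw [← one_comp_left_apply (Red.bc (closedPt A) H) (Y := 𝟙_ _) (IsLocalRing.closedPoint _),
    ← Scheme.Hom.comp_apply]
  have := congr(($(bcPt_one (closedPt A) (G := H) (X := 𝟙_ _))).left)
  rw [bcPt_left] at this
  rw [this, Hom.one_def]
  show η[H].left _ = _
  exact congrArg η[H].left (@Subsingleton.elim _ (subsingleton_spec A) _ pt)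

/-- A point-wise reduction of statements on the neutral component to the special fibre. -/
theorem exists_bcPt {T : Over (Spec (CommRingCat.of A))} (t : T.left) :
    ∃ (T' : Over (Spec (CommRingCat.of (IsLocalRing.ResidueField A)))) (v : Over.mk (T'.hom ≫ closedPt A) ⟶ T)
      (t' : T'.left), v.left t' = t := by
  haveI : Surjective (closedPt A) := ⟨fun y => ⟨IsLocalRing.closedPoint (IsLocalRing.ResidueField A),
    @Subsingleton.elim _ (subsingleton_spec A) _ _⟩⟩
  obtain ⟨z, hz⟩ := (pullback.fst T.hom (closedPt A)).surjective t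
  exact ⟨Over.mk (pullback.snd T.hom (closedPt A)), Over.homMk (pullback.fst T.hom (closedPt A)) pullback.condition, z, hz⟩

theorem bc_range_subset {T' : Over (Spec (CommRingCat.of (IsLocalRing.ResidueField A)))}
    (y : T' ⟶ Red.bc (closedPt A) H) (pt : ↥(𝟙_ (Over (Spec (CommRingCat.of A)))).left)
    (h : Set.range (bcPt (closedPt A) y).left ⊆ connectedComponent (η[H].left pt)) :
    Set.range y.left ⊆ connectedComponent (unitPt (Red.bc (closedPt A) H)) := by
  rintro _ ⟨t, rfl⟩
  have hmem := h ⟨t, rfl⟩
  rw [← fst_unitPt A H pt, ← image_connectedComponent_fibre] at hmem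
  obtain ⟨z, hz, hze⟩ := hmem
  exact (fibreHomeo A H).injective hze ▸ hz

theorem bc_mem {T' : Over (Spec (CommRingCat.of (IsLocalRing.ResidueField A)))}
    (y : T' ⟶ Red.bc (closedPt A) H) (pt : ↥(𝟙_ (Over (Spec (CommRingCat.of A)))).left)
    (h : Set.range y.left ⊆ connectedComponent (unitPt (Red.bc (closedPt A) H))) (t : T'.left) :
    (bcPt (closedPt A) y).left t ∈ connectedComponent (η[H].left pt) := by
  rw [← fst_unitPt A H pt, ← image_connectedComponent_fibre]
  exact ⟨_, h ⟨t, rfl⟩, rfl⟩

theorem range_div_subset_artin (pt : ↥(𝟙_ (Over (Spec (CommRingCat.of A)))).left)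
    (T : Over (Spec (CommRingCat.of A))) (g h : T ⟶ H)
    (hg : Set.range g.left ⊆ connectedComponent (η[H].left pt))
    (hh : Set.range h.left ⊆ connectedComponent (η[H].left pt)) :
    Set.range (g * h⁻¹).left ⊆ connectedComponent (η[H].left pt) := by
  rintro _ ⟨t, rfl⟩
  obtain ⟨T', v, t', rfl⟩ := exists_bcPt A t
  obtain ⟨g', hg'⟩ := bcPt_exists (closedPt A) (v ≫ g)
  obtain ⟨h', hh'⟩ := bcPt_exists (closedPt A) (v ≫ h)
  have hkey : bcPt (closedPt A) (g' * h'⁻¹) = v ≫ (g * h⁻¹) := by
    have hinv : bcPt (closedPt A) h'⁻¹ = (bcPt (closedPt A) h')⁻¹ := eq_inv_of_mul_eq_one_left (by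
      rw [← bcPt_mul, inv_mul_cancel, bcPt_one])
    rw [bcPt_mul, hinv, hg', hh', MonObj.comp_mul, GrpObj.comp_inv]
  rw [← Scheme.Hom.comp_apply, ← Over.comp_left, ← hkey]
  refine bc_mem A H _ pt (range_div_subset _ _ _ (bc_range_subset A H g' pt ?_) (bc_range_subset A H h' pt ?_)) t'
  · rw [hg', Over.comp_left]; rintro _ ⟨s, rfl⟩; exact hg ⟨_, (Scheme.Hom.comp_apply _ _ _).symm⟩
  · rw [hh', Over.comp_left]; rintro _ ⟨s, rfl⟩; exact hh ⟨_, (Scheme.Hom.comp_apply _ _ _).symm⟩

theorem range_conj_subset_artin (pt : ↥(𝟙_ (Over (Spec (CommRingCat.of A)))).left)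
    (T : Over (Spec (CommRingCat.of A))) (g n : T ⟶ H)
    (hn : Set.range n.left ⊆ connectedComponent (η[H].left pt)) :
    Set.range (g * n * g⁻¹).left ⊆ connectedComponent (η[H].left pt) := by
  rintro _ ⟨t, rfl⟩
  obtain ⟨T', v, t', rfl⟩ := exists_bcPt A t
  obtain ⟨g', hg'⟩ := bcPt_exists (closedPt A) (v ≫ g)
  obtain ⟨n', hn'⟩ := bcPt_exists (closedPt A) (v ≫ n)
  have hkey : bcPt (closedPt A) (g' * n' * g'⁻¹) = v ≫ (g * n * g⁻¹) := by
    have hinv : bcPt (closedPt A) g'⁻¹ = (bcPt (closedPt A) g')⁻¹ := eq_inv_of_mul_eq_one_left (by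
      rw [← bcPt_mul, inv_mul_cancel, bcPt_one])
    rw [bcPt_mul, bcPt_mul, hinv, hg', hn', MonObj.comp_mul, MonObj.comp_mul, GrpObj.comp_inv]
  rw [← Scheme.Hom.comp_apply, ← Over.comp_left, ← hkey]
  refine bc_mem A H _ pt (range_conj_subset _ _ _ (bc_range_subset A H n' pt ?_)) t'
  rw [hn', Over.comp_left]; rintro _ ⟨s, rfl⟩; exact hn ⟨_, (Scheme.Hom.comp_apply _ _ _).symm⟩

end Artin

end Groth.GrpschAbsch

end
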