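import Groth.Agent.GrpschAbsch.NeutralSet
import Groth.Prelude.Def_MoreMor

/-!
The components of the fibres through a section.
-/

set_option autoImplicit false
universe u

open CategoryTheory CategoryTheory.Limits AlgebraicGeometry TopologicalSpace

namespace Groth.GrpschAbsch.SectionComp

variable {X Y : Scheme.{u}} {f : X ⟶ Y} {σ : Y ⟶ X} (hσ : σ ≫ f = 𝟙 Y)

/-- The point of the section in a fibre, as a morphism. -/
noncomputable def secFib (y : Y) : Spec (CommRingCat.of (Y.residueField y)) ⟶ f.fiber y :=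
  pullback.lift (Y.fromSpecResidueField y ≫ σ) (𝟙 _)
    (by rw [Category.assoc, hσ, Category.comp_id]; exact (Category.id_comp _).symm)

theorem fiberι_secFib (y : Y) :
    f.fiberι y (secFib hσ y (IsLocalRing.closedPoint _)) = σ y := by
  have e : secFib hσ y ≫ f.fiberι y = Y.fromSpecResidueField y ≫ σ := pullback.lift_fst _ _ _
  refine (congr(($e).base (IsLocalRing.closedPoint _))).trans ?_
  exact congrArg σ (Scheme.fromSpecResidueField_apply _ _)

theorem fiberι_mem_iff (y : Y) (z : f.fiber y) :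
    f.fiberι y z ∈ MoreMor.sectionComponents f σ ↔
      z ∈ connectedComponent (secFib hσ y (IsLocalRing.closedPoint _)) := by
  have hz : f (f.fiberι y z) = y := (f.range_fiberι y).le ⟨z, rfl⟩
  have hC : ∀ t : Y, connectedComponentIn (f ⁻¹' {t}) (σ t) =
      f.fiberι t '' connectedComponent (secFib hσ t (IsLocalRing.closedPoint _)) := fun t => by
    rw [← fiberι_secFib hσ, ← f.range_fiberι t]
    exact Groth.GrpschAbsch.NeutralSet.connectedComponentIn_range (f.fiberι t).isEmbedding _
  show f.fiberι y z ∈ connectedComponentIn (f ⁻¹' {f (f.fiberι y z)}) (σ (f (f.fiberι y z))) ↔ _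
  rw [hz, hC]
  exact ⟨fun ⟨w, hw, hwz⟩ => (f.fiberι y).isEmbedding.injective hwz ▸ hw, fun h => ⟨z, h, rfl⟩⟩

include hσ in
/-- Section components commute with base change. -/
theorem preimage_sectionComponents {X' Y' : Scheme.{u}} {f' : X' ⟶ Y'} {a : X' ⟶ X} {g : Y' ⟶ Y}
    (hc : IsPullback a f' f g) {σ' : Y' ⟶ X'} (hσ' : σ' ≫ f' = 𝟙 Y') (hσa : σ' ≫ a = g ≫ σ) :
    MoreMor.sectionComponents f' σ' = a ⁻¹' MoreMor.sectionComponents f σ := by
  ext x
  obtain ⟨y', z, rfl⟩ : ∃ (y' : Y') (z : f'.fiber y'), f'.fiberι y' z = x := ⟨_, _, f'.fiberι_asFiber x⟩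
  let τ := g.residueFieldMap y'
  let q : f'.fiber y' ⟶ f.fiber (g y') := pullback.lift (f'.fiberι y' ≫ a)
    (f'.fiberToSpecResidueField y' ≫ Spec.map τ) (by
      rw [Category.assoc, hc.w, reassoc_of% (f'.fiber_fac y'), Category.assoc,
        Scheme.Hom.SpecMap_residueFieldMap_fromSpecResidueField])
  have hq1 : q ≫ f.fiberι (g y') = f'.fiberι y' ≫ a := pullback.lift_fst ..
  have hq2 : q ≫ f.fiberToSpecResidueField (g y') = f'.fiberToSpecResidueField y' ≫ Spec.map τ :=
    pullback.lift_snd ..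
  have hbig : IsPullback (f'.fiberι y' ≫ a) (f'.fiberToSpecResidueField y') f
      (Y'.fromSpecResidueField y' ≫ g) :=
    IsPullback.paste_horiz (IsPullback.of_hasPullback f' (Y'.fromSpecResidueField y')) hc
  rw [← Scheme.Hom.SpecMap_residueFieldMap_fromSpecResidueField, ← hq1] at hbig
  have hsq : IsPullback q (f'.fiberToSpecResidueField y') (f.fiberToSpecResidueField (g y'))
      (Spec.map τ) :=
    hbig.of_right hq2 (IsPullback.of_hasPullback f (Y.fromSpecResidueField (g y')))
  show f'.fiberι y' z ∈ MoreMor.sectionComponents f' σ' ↔ a (f'.fiberι y' z) ∈ MoreMor.sectionComponents f σ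
  rw [show a (f'.fiberι y' z) = f.fiberι (g y') (q z) by
    rw [← Scheme.Hom.comp_apply, ← Scheme.Hom.comp_apply, hq1], fiberι_mem_iff hσ, fiberι_mem_iff hσ']
  rw [Groth.GrpschAbsch.NeutralSet.preimage_connectedComponent (k := Y.residueField (g y'))
    (K := Y'.residueField y') hsq (secFib hσ (g y')) (pullback.lift_snd _ _ _)
    (IsLocalRing.closedPoint _) (secFib hσ' y' (IsLocalRing.closedPoint _)) ?_]
  · rfl
  · refine (f.fiberι (g y')).isEmbedding.injective ?_
    rw [fiberι_secFib hσ, ← Scheme.Hom.comp_apply, hq1, Scheme.Hom.comp_apply, fiberι_secFib hσ',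
      ← Scheme.Hom.comp_apply, hσa]
    rfl

end Groth.GrpschAbsch.SectionComp
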