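import Groth.Agent.Calg4.SmoothRegularField
import Mathlib.AlgebraicGeometry.Morphisms.Smooth

/-!
At a rational point, smooth means regular.
-/

universe u

open CategoryTheory AlgebraicGeometry

namespace Groth.GrpschAbsch

variable {k : Type u} [Field k]

lemma mem_smoothLocus_Spec_iff {S : CommRingCat.{u}} (ψ : CommRingCat.of k ⟶ S)
    [LocallyOfFinitePresentation (Spec.map ψ)] (q : Spec S) :
    letI := ψ.hom.toAlgebra
    q ∈ (Spec.map ψ).smoothLocus ↔ Algebra.IsSmoothAt k (PrimeSpectrum.asIdeal q) := by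
  let := ψ.hom.toAlgebra
  let p := (PrimeSpectrum.asIdeal q).comap ψ.hom
  refine Scheme.Hom.mem_smoothLocus.trans ((RingHom.FormallySmooth.respectsIso.arrow_mk_iso_iff
    (Scheme.arrowStalkMapSpecIso ψ q)).trans ?_)
  have : (PrimeSpectrum.asIdeal q).LiesOver p := ⟨rfl⟩
  let := Localization.AtPrime.algebraOfLiesOver p (PrimeSpectrum.asIdeal q)
  have : Algebra.FormallyEtale k (Localization.AtPrime p) :=
    Algebra.FormallyEtale.of_isLocalization p.primeCompl
  refine Iff.trans ?_ (Algebra.FormallySmooth.iff_restrictScalars (R := k) (A := Localization.AtPrime p)).symm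
  rw [← RingHom.formallySmooth_algebraMap]
  rfl

/-- At a rational point, a scheme locally of finite type over a field is smooth iff it is regular. -/
theorem mem_smoothLocus_iff_isRegularLocalRing {X : Scheme.{u}} (f : X ⟶ Spec (CommRingCat.of k))
    [LocallyOfFiniteType f] [LocallyOfFinitePresentation f] (s : Spec (CommRingCat.of k) ⟶ X) (hs : s ≫ f = 𝟙 _)
    (t : Spec (CommRingCat.of k)) :
    s t ∈ f.smoothLocus ↔ IsRegularLocalRing (X.presheaf.stalk (s t)) := by
  obtain ⟨V, hV, hxV, -⟩ := exists_isAffineOpen_mem_and_subset (x := s t) (U := ⊤) trivial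
  let j := hV.fromSpec
  let ψ := Spec.preimage (j ≫ f)
  have hψ : Spec.map ψ = j ≫ f := Spec.map_preimage _
  let := ψ.hom.toAlgebra
  have : LocallyOfFiniteType (Spec.map ψ) := by rw [hψ]; infer_instance
  have : Algebra.FiniteType k Γ(X, V) :=
    (HasRingHomProperty.Spec_iff (P := @LocallyOfFiniteType)).mp this
  have : LocallyOfFinitePresentation (Spec.map ψ) := by rw [hψ]; infer_instance
  have hr : Set.range s ⊆ Set.range j := by
    rintro _ ⟨t', rfl⟩
    rw [Subsingleton.elim t' t, hV.range_fromSpec]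
    exact hxV
  let σ := Spec.preimage (IsOpenImmersion.lift j s hr)
  have hσ : Spec.map σ ≫ j = s := by rw [Spec.map_preimage]; exact IsOpenImmersion.lift_fac _ _ _
  have hσψ : ψ ≫ σ = 𝟙 _ := Spec.map_injective (by
    rw [Spec.map_comp, hψ, ← Category.assoc, hσ, hs, Spec.map_id])
  let q : PrimeSpectrum Γ(X, V) := Spec.map σ t
  have hq : j q = s t := by rw [← hσ]; rfl
  have hker : q.asIdeal = RingHom.ker σ.hom := by
    show Ideal.comap σ.hom (t : PrimeSpectrum k).asIdeal = _
    rw [(Ideal.eq_bot_or_top (t : PrimeSpectrum k).asIdeal).resolve_right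
      (t : PrimeSpectrum k).isPrime.ne_top]
    rfl
  have hsurj : Function.Surjective σ.hom := fun c ↦ ⟨ψ c, congr($hσψ c)⟩
  have hmax : q.asIdeal.IsMaximal := hker ▸ RingHom.ker_isMaximal_of_surjective _ hsurj
  have : Algebra.FormallySmooth k q.asIdeal.ResidueField := by
    refine Algebra.FormallySmooth.of_equiv (AlgEquiv.ofBijective (Algebra.ofId k _)
      ⟨(Algebra.ofId k q.asIdeal.ResidueField).injective, fun z ↦ ?_⟩)
    obtain ⟨a, rfl⟩ := q.asIdeal.algebraMap_residueField_surjective z
    refine ⟨σ a, ?_⟩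
    show algebraMap k _ (σ a) = _
    rw [IsScalarTower.algebraMap_apply k Γ(X, V), ← sub_eq_zero, ← map_sub,
      Ideal.algebraMap_residueField_eq_zero, hker, RingHom.mem_ker, map_sub, sub_eq_zero]
    exact congr($hσψ (σ a))
  have h1 : s t ∈ f.smoothLocus ↔ Algebra.IsSmoothAt k q.asIdeal := by
    rw [← mem_smoothLocus_Spec_iff ψ q, ← hq]
    simp only [hψ, ← Scheme.Hom.preimage_smoothLocus_eq]
    rfl
  rw [h1, ← hq]
  have e : X.presheaf.stalk (j q) ≅ CommRingCat.of (Localization.AtPrime q.asIdeal) :=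
    asIso (j.stalkMap q) ≪≫ Spec.stalkIso Γ(X, V) q
  constructor
  · intro h
    have := Calg4.isRegularLocalRing_of_isSmoothAt (k := k) q.asIdeal
    exact IsRegularLocalRing.of_ringEquiv e.commRingCatIsoToRingEquiv.symm
  · intro h
    have : IsRegularLocalRing (Localization.AtPrime q.asIdeal) :=
      IsRegularLocalRing.of_ringEquiv e.commRingCatIsoToRingEquiv
    exact Calg4.isSmoothAt_of_isRegularLocalRing q.asIdeal

end Groth.GrpschAbsch
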