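import Groth.Agent.GrpschAbsch.SmoothField
import Groth.Agent.AlgGrp1.Translate

/-!
A group scheme smooth on a nonempty open is smooth.
-/

universe u

open CategoryTheory CategoryTheory.Limits MonoidalCategory CartesianMonoidalCategory MonObj
  AlgebraicGeometry

namespace Groth.GrpschAbsch

variable {K : Type u} [Field K]

lemma smooth_of_isAlgClosed_of_mem [IsAlgClosed K] (G : Over (Spec (CommRingCat.of K))) [GrpObj G]
    [LocallyOfFiniteType G.hom] [LocallyOfFinitePresentation G.hom] {z : G.left}
    (hz : z ∈ G.hom.smoothLocus) : Smooth G.hom := by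
  have := LocallyOfFiniteType.jacobsonSpace G.hom
  rw [← Scheme.Hom.smoothLocus_eq_top_iff, ← TopologicalSpace.Opens.coe_eq_univ,
    ← not_ne_iff, ← Set.nonempty_compl]
  intro H
  obtain ⟨x, hx, hxc⟩ :=
    nonempty_inter_closedPoints H G.hom.smoothLocus.2.isClosed_compl.isLocallyClosed
  obtain ⟨y, hy, hyc⟩ := nonempty_inter_closedPoints
    (⟨z, hz⟩ : (G.hom.smoothLocus : Set G.left).Nonempty) G.hom.smoothLocus.2.isLocallyClosed
  obtain ⟨φ, hφ⟩ := AlgGrp1.exists_translation G x y hxc hyc
  apply hx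
  rw [← hφ] at hy
  have : IsIso φ.hom.left := inferInstanceAs (IsIso ((Over.forget _).map φ.hom))
  have h2 : x ∈ φ.hom.left ⁻¹ᵁ G.hom.smoothLocus := hy
  rw [Scheme.Hom.preimage_smoothLocus_eq] at h2
  simp only [Over.w] at h2
  exact h2

/-- A group scheme over a field which is smooth on a nonempty open is smooth. -/
theorem smooth_of_smooth_opens (G : Over (Spec (CommRingCat.of K))) [GrpObj G]
    [LocallyOfFiniteType G.hom] (U : G.left.Opens) (hU : (U : Set G.left).Nonempty)
    [Smooth (U.ι ≫ G.hom)] : Smooth G.hom := by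
  let g := Spec.map (CommRingCat.ofHom (algebraMap K (AlgebraicClosure K)))
  apply MorphismProperty.of_pullback_snd_of_descendsAlong
    (Q := @Surjective ⊓ @Flat ⊓ @QuasiCompact) (g := g)
  · exact ⟨⟨inferInstance, inferInstance⟩, inferInstance⟩
  · let : GrpObj (Over.mk G.hom) := ‹GrpObj G›
    let : GrpObj (Over.mk (pullback.snd G.hom g)) := Over.grpObjMkPullbackSnd
    have : LocallyOfFiniteType (Over.mk (pullback.snd G.hom g)).hom :=
      inferInstanceAs (LocallyOfFiniteType (pullback.snd _ _))
    have : LocallyOfFinitePresentation (Over.mk (pullback.snd G.hom g)).hom :=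
      inferInstanceAs (LocallyOfFinitePresentation (pullback.snd _ _))
    have : Surjective g := inferInstance
    let j : pullback (U.ι ≫ G.hom) g ⟶ pullback G.hom g :=
      pullback.map _ _ _ _ U.ι (𝟙 _) (𝟙 _) (by simp) (by simp)
    have hj : j ≫ pullback.snd G.hom g = pullback.snd (U.ι ≫ G.hom) g :=
      (pullback.lift_snd _ _ _).trans (Category.comp_id _)
    obtain ⟨u, hu⟩ := hU
    obtain ⟨w, -⟩ := (pullback.fst (U.ι ≫ G.hom) g).surjective ⟨u, hu⟩
    refine smooth_of_isAlgClosed_of_mem (Over.mk (pullback.snd G.hom g)) (z := j w) ?_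
    show w ∈ j ⁻¹ᵁ (pullback.snd G.hom g).smoothLocus
    rw [Scheme.Hom.preimage_smoothLocus_eq]
    simp only [hj, Scheme.Hom.smoothLocus_eq_top]
    trivial

/-- A group scheme over a field smooth at a point is smooth. -/
theorem smooth_of_mem_smoothLocus (G : Over (Spec (CommRingCat.of K))) [GrpObj G]
    [LocallyOfFiniteType G.hom] [LocallyOfFinitePresentation G.hom] {z : G.left}
    (hz : z ∈ G.hom.smoothLocus) : Smooth G.hom := by
  have : Smooth (G.hom.smoothLocus.ι ≫ G.hom) := by
    rw [← Scheme.Hom.smoothLocus_eq_top_iff, ← Scheme.Hom.preimage_smoothLocus_eq]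
    exact top_le_iff.mp fun a _ ↦ a.2
  exact smooth_of_smooth_opens G _ ⟨z, hz⟩

end Groth.GrpschAbsch
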