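import Groth.Agent.FlatMorOne.FlatLocusColimit
import Mathlib.AlgebraicGeometry.Morphisms.Flat
import Mathlib.AlgebraicGeometry.Morphisms.FinitePresentation
import Mathlib.Algebra.Category.Ring.Constructions

set_option autoImplicit false

/-!
Flatness of a finitely presented morphism over a directed colimit of rings comes from a stage.
-/

universe u

open CategoryTheory CategoryTheory.Limits AlgebraicGeometry TensorProduct

namespace Groth.GrpschAbsch.FlatStage

/-- Flatness of the base change of an affine morphism, read off the tensor product. -/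
theorem flat_snd_SpecMap_iff (R T B : Type u) [CommRing R] [CommRing T] [CommRing B]
    [Algebra R T] [Algebra R B] :
    Flat (pullback.snd (Spec.map (CommRingCat.ofHom (algebraMap R B)))
      (Spec.map (CommRingCat.ofHom (algebraMap R T)))) ↔ Module.Flat T (T ⊗[R] B) := by
  have h := (isPullback_SpecMap_of_isPushout _ _ _ _ (CommRingCat.isPushout_tensorProduct R T B)).flip
  rw [← h.isoPullback_inv_snd, MorphismProperty.cancel_left_of_respectsIso (P := @Flat),
    HasRingHomProperty.Spec_iff (P := @Flat)]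
  exact RingHom.flat_algebraMap_iff

/-- Flatness after base change is preserved by further base change. -/
theorem flat_snd_of_comp {X S T T' : Scheme.{u}} (f : X ⟶ S) (a : T ⟶ S) (b : T' ⟶ T)
    [Flat (pullback.snd f a)] : Flat (pullback.snd f (b ≫ a)) := by
  rw [← pullbackLeftPullbackSndIso_inv_snd_snd f a b]
  infer_instance

variable {R₀ : Type u} [CommRing R₀] {ι : Type u} [Preorder ι]
  [IsDirectedOrder ι] [Nonempty ι] {G : ι → Type u} [∀ i, CommRing (G i)] [∀ i, Algebra R₀ (G i)]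
  (g : ∀ i j, i ≤ j → G i →ₐ[R₀] G j) {A : Type u} [CommRing A] [Algebra R₀ A]
  (can : ∀ i, G i →ₐ[R₀] A)

/-- The structure morphism of a stage. -/
noncomputable abbrev toBase (R : Type u) [CommRing R] [Algebra R₀ R] :
    Spec (CommRingCat.of R) ⟶ Spec (CommRingCat.of R₀) :=
  Spec.map (CommRingCat.ofHom (algebraMap R₀ R))

omit [IsDirectedOrder ι] [Nonempty ι] in
include g in
theorem flat_mono {X₀ : Scheme.{u}} (f₀ : X₀ ⟶ Spec (CommRingCat.of R₀)) {i j : ι} (hij : i ≤ j)
    [Flat (pullback.snd f₀ (toBase (G i)))] : Flat (pullback.snd f₀ (toBase (G j))) := by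
  have : Spec.map (CommRingCat.ofHom (g i j hij).toRingHom) ≫ toBase (R₀ := R₀) (G i) = toBase (G j) := by
    rw [← Spec.map_comp, ← CommRingCat.ofHom_comp]
    exact congrArg (fun φ ↦ Spec.map (CommRingCat.ofHom φ)) (g i j hij).comp_algebraMap
  rw [← this]
  exact flat_snd_of_comp f₀ _ _

include g can in
theorem exists_flat_stage (hcomp : ∀ i j (h : i ≤ j), (can j).comp (g i j h) = can i)
    (hsurj : ∀ a : A, ∃ i x, can i x = a)
    (hker : ∀ i (x : G i), can i x = 0 → ∃ j, ∃ h : i ≤ j, g i j h x = 0)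
    {X₀ : Scheme.{u}} (f₀ : X₀ ⟶ Spec (CommRingCat.of R₀)) [LocallyOfFinitePresentation f₀]
    [CompactSpace X₀] [Flat (pullback.snd f₀ (toBase A))] :
    ∃ i, Flat (pullback.snd f₀ (toBase (G i))) := by
  classical
  let 𝒰 := X₀.affineCover.finiteSubcover
  have haff : ∀ k, IsAffine (𝒰.X k) := fun k ↦ inferInstanceAs (IsAffine (X₀.affineCover.X _))
  -- each chart
  have hk : ∀ k, ∃ i, Flat (pullback.snd (𝒰.f k ≫ f₀) (toBase (G i))) := fun k ↦ by
    obtain ⟨φ, hφ⟩ := Spec.map_surjective ((𝒰.X k).isoSpec.inv ≫ 𝒰.f k ≫ f₀)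
    let : Algebra R₀ Γ(𝒰.X k, ⊤) := φ.hom.toAlgebra
    have hfac : (𝒰.X k).isoSpec.hom ≫ toBase (R₀ := R₀) Γ(𝒰.X k, ⊤) = 𝒰.f k ≫ f₀ := by
      rw [← Iso.eq_inv_comp]
      exact hφ
    have : Algebra.FinitePresentation R₀ Γ(𝒰.X k, ⊤) := by
      have : LocallyOfFinitePresentation (toBase (R₀ := R₀) Γ(𝒰.X k, ⊤)) := by
        rw [← MorphismProperty.cancel_left_of_respectsIso (P := @LocallyOfFinitePresentation) (𝒰.X k).isoSpec.hom, hfac]
        infer_instance
      exact RingHom.finitePresentation_algebraMap.mp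
        ((HasRingHomProperty.Spec_iff (P := @LocallyOfFinitePresentation)).mp this)
    have key : ∀ (T : Type u) [CommRing T] [Algebra R₀ T],
        Flat (pullback.snd (𝒰.f k ≫ f₀) (toBase T)) ↔ Module.Flat T (T ⊗[R₀] Γ(𝒰.X k, ⊤)) := fun T _ _ ↦ by
      rw [← hfac, ← flat_snd_SpecMap_iff]
      have sq := (IsPullback.of_hasPullback (toBase (R₀ := R₀) Γ(𝒰.X k, ⊤)) (toBase T))
      let e := asIso (pullback.map ((𝒰.X k).isoSpec.hom ≫ toBase (R₀ := R₀) Γ(𝒰.X k, ⊤)) (toBase T)
        (toBase (R₀ := R₀) Γ(𝒰.X k, ⊤)) (toBase T) (𝒰.X k).isoSpec.hom (𝟙 _) (𝟙 _) (by simp) (by simp))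
      have he : e.hom ≫ pullback.snd (toBase (R₀ := R₀) Γ(𝒰.X k, ⊤)) (toBase T) = pullback.snd _ _ := by
        simp only [e, asIso_hom, pullback.map, Category.comp_id]
        exact pullback.lift_snd _ _ _
      rw [← he, MorphismProperty.cancel_left_of_respectsIso (P := @Flat)]
    have : Module.Flat A (A ⊗[R₀] Γ(𝒰.X k, ⊤)) := by
      refine (key A).mp ?_
      have sq := ((IsPullback.of_hasPullback (pullback.fst f₀ (toBase A)) (𝒰.f k)).flip).paste_vert
        (IsPullback.of_hasPullback f₀ (toBase A))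
      rw [← sq.isoPullback_inv_snd]
      infer_instance
    obtain ⟨i, hi⟩ := Groth.FlatMorOne.exists_flat_stage_of_colimit g can hcomp hsurj hker
      (B₀ := Γ(𝒰.X k, ⊤)) Γ(𝒰.X k, ⊤)
    exact ⟨i, (key (G i)).mpr hi⟩
  choose i hi using hk
  obtain ⟨j, hj⟩ := Finite.exists_le i
  refine ⟨j, (IsZariskiLocalAtSource.iff_of_openCover (P := @Flat)
    (𝒰.pullback₁ (pullback.fst f₀ (toBase (G j))))).mpr fun k ↦ ?_⟩
  have := hi k
  have hfl : Flat (pullback.snd (𝒰.f k ≫ f₀) (toBase (G j))) := flat_mono g _ (hj k)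
  have sq := ((IsPullback.of_hasPullback (pullback.fst f₀ (toBase (G j))) (𝒰.f k)).flip).paste_vert
    (IsPullback.of_hasPullback f₀ (toBase (G j)))
  show Flat (pullback.fst (pullback.fst f₀ (toBase (G j))) (𝒰.f k) ≫ pullback.snd f₀ (toBase (G j)))
  rw [← sq.isoPullback_hom_snd]
  infer_instance

end Groth.GrpschAbsch.FlatStage
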