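import Groth.Agent.OmegaSheaf.GroupScheme
import Groth.Agent.OmegaSheaf.Smooth
import Groth.Agent.GrpschAbsch.GrpEtaleRel
import Groth.Agent.GrpschAbsch.H0General
import Groth.Agent.PicAux.FreeBasis
import Groth.Agent.LocFree.Basic
import Groth.Agent.KTheory.LocFree
import Groth.Prelude.Def_Coh

/-!
# Differentials of abelian schemes
-/

set_option autoImplicit false
set_option backward.isDefEq.respectTransparency false

universe u

open CategoryTheory Limits AlgebraicGeometry Opposite MonObj MonoidalCategory

namespace Groth.GrpschAbsch.AbSchOmega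

theorem isIso_unit_comp_of_section {X S : Scheme.{u}} (f : X ⟶ S) (e : S ⟶ X) (he : e ≫ f = 𝟙 S)
    (N : S.Modules) :
    IsIso ((Scheme.Modules.pullbackPushforwardAdjunction f).unit.app N ≫
      (Scheme.Modules.pushforward f).map
        ((Scheme.Modules.pullbackPushforwardAdjunction e).unit.app ((Scheme.Modules.pullback f).obj N))) := by
  let adj := (Scheme.Modules.pullbackPushforwardAdjunction f).comp (Scheme.Modules.pullbackPushforwardAdjunction e)
  let i : 𝟭 S.Modules ≅ Scheme.Modules.pullback f ⋙ Scheme.Modules.pullback e :=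
    (Scheme.Modules.pullbackId S).symm ≪≫ Scheme.Modules.pullbackCongr he.symm ≪≫
      (Scheme.Modules.pullbackComp e f).symm
  have : (Scheme.Modules.pullback f ⋙ Scheme.Modules.pullback e).Full := Functor.Full.of_iso i
  have : (Scheme.Modules.pullback f ⋙ Scheme.Modules.pullback e).Faithful := Functor.Faithful.of_iso i
  have : IsIso adj.unit := inferInstance
  have h : IsIso (adj.unit.app N) := inferInstance
  rwa [Adjunction.comp_unit_app] at h

variable {S : Scheme.{u}} (X : Over S) [GrpObj X] [IsProper X.hom] [Flat X.hom]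
  [LocallyOfFinitePresentation X.hom] [GeometricallyReduced X.hom] [GeometricallyConnected X.hom]

theorem exists_model_omega : ∃ N : S.Modules, FlatMod.IsFinLocFree N ∧
    Nonempty (N ≅ (Scheme.Modules.pullback η[X].left).obj (Omega.sheaf X.hom)) ∧
    Nonempty (Omega.sheaf X.hom ≅ (Scheme.Modules.pullback X.hom).obj N) ∧
    IsIso ((Scheme.Modules.pullbackPushforwardAdjunction X.hom).unit.app N) := by
  have := (Groth.GrpschAbsch.smooth_and_comm_of_abelianScheme X).1
  obtain ⟨i1⟩ := Groth.OmegaSheaf.nonempty_sheaf_iso_pullback_unit X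
  obtain ⟨i2⟩ := Groth.OmegaSheaf.nonempty_conormal_iso_of_section X.hom η[X].left (Over.w η[X])
  have hfree : FlatMod.IsFinLocFree ((Scheme.Modules.pullback η[X].left).obj (Omega.sheaf X.hom)) :=
    Groth.LocFree.isFinLocFree_pullback _ (Groth.OmegaSheaf.isFinLocFree_sheaf X.hom)
  exact ⟨_, hfree, ⟨Iso.refl _⟩, ⟨i1 ≪≫ (Scheme.Modules.pullback X.hom).mapIso i2⟩,
    Groth.PicAux.isIso_unit_of_finLocFree X.hom (Groth.GrpschAbsch.H0General.app_bijective X.hom) hfree⟩

theorem push_omega :
    FlatMod.IsFinLocFree ((Scheme.Modules.pullback η[X].left).obj (Omega.sheaf X.hom)) ∧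
      Nonempty ((Coh.push X.hom).obj (Omega.sheaf X.hom) ≅
        (Scheme.Modules.pullback η[X].left).obj (Omega.sheaf X.hom)) := by
  obtain ⟨N, hN, ⟨i⟩, ⟨j⟩, hu⟩ := exists_model_omega X
  exact ⟨Groth.KTheory.LocFree.isFinLocFree_of_iso i hN, ⟨(Scheme.Modules.pushforward X.hom).mapIso j ≪≫
    (asIso ((Scheme.Modules.pullbackPushforwardAdjunction X.hom).unit.app N)).symm ≪≫ i⟩⟩

theorem bijective_unit_top :
    Function.Bijective
      (((Scheme.Modules.pullbackPushforwardAdjunction η[X].left).unit.app (Omega.sheaf X.hom)).val.app (op ⊤)).hom := by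
  obtain ⟨N, hN, -, ⟨j⟩, hu⟩ := exists_model_omega X
  let adj := Scheme.Modules.pullbackPushforwardAdjunction η[X].left
  have h1 := isIso_unit_comp_of_section X.hom η[X].left (Over.w η[X]) N
  have h2 : IsIso ((Scheme.Modules.pushforward X.hom).map
      (adj.unit.app ((Scheme.Modules.pullback X.hom).obj N))) := IsIso.of_isIso_comp_left
    ((Scheme.Modules.pullbackPushforwardAdjunction X.hom).unit.app N) _
  have h3 : IsIso ((Scheme.Modules.pushforward X.hom).map (adj.unit.app (Omega.sheaf X.hom))) := by
    have hn : adj.unit.app (Omega.sheaf X.hom) = j.hom ≫ adj.unit.app ((Scheme.Modules.pullback X.hom).obj N) ≫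
        (Scheme.Modules.pullback η[X].left ⋙ Scheme.Modules.pushforward η[X].left).map j.inv := by
      rw [← adj.unit.naturality j.inv]
      simp
    rw [hn, Functor.map_comp, Functor.map_comp]
    infer_instance
  have h4 : IsIso (((Scheme.Modules.pushforward X.hom).map (adj.unit.app (Omega.sheaf X.hom))).app ⊤) :=
    inferInstance
  exact ConcreteCategory.bijective_of_isIso
    (((Scheme.Modules.pushforward X.hom).map (adj.unit.app (Omega.sheaf X.hom))).app ⊤)

end Groth.GrpschAbsch.AbSchOmega
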