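import Groth.Agent.GrpschAbsch.WittOp
import Groth.Agent.GrpschAbsch.GaGm
import Mathlib.Algebra.CharP.Algebra
import Mathlib.FieldTheory.IsAlgClosed.Basic
import Mathlib.FieldTheory.Perfect

/-!
Homomorphisms between Witt group schemes over an algebraically closed field, through `k`-points.
-/

universe u

open CategoryTheory MonoidalCategory CartesianMonoidalCategory MonObj AlgebraicGeometry

namespace Groth.GrpschAbsch.WittEnd

open WittOp

variable (p : ℕ) [hp : Fact p.Prime] (k : Type u) [Field k]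

local notation "𝕊" => Spec (CommRingCat.of k)
local notation "𝕎₀" => WittGrp.W p

/-- The constants. -/
noncomputable def cst (T : Over 𝕊) : k →+* Γ(T.left, ⊤) :=
  T.hom.appTop.hom.comp (Scheme.ΓSpecIso (CommRingCat.of k)).inv.hom

lemma cst_comp {T T' : Over 𝕊} (g : T' ⟶ T) :
    g.left.appTop.hom.comp (cst k T) = cst k T' := by
  ext c
  show g.left.appTop (T.hom.appTop _) = T'.hom.appTop _
  rw [← CommRingCat.comp_apply T.hom.appTop, ← Scheme.Hom.comp_appTop, Over.w g]

variable {k}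

/-- Morphisms given by coordinates. -/
noncomputable def ofCoeff {n m : ℕ} (c : Fin m → Γ((𝕎₀ n 𝕊).left, ⊤)) : 𝕎₀ n 𝕊 ⟶ 𝕎₀ m 𝕊 :=
  (WittGrp.ptsMul p (𝕎₀ n 𝕊)).symm (Multiplicative.ofAdd (TruncatedWittVector.mk p c))

lemma pts_symm {n : ℕ} {S : Scheme.{u}} (T : Over S) (v : TruncatedWittVector p n Γ(T.left, ⊤)) :
    WittGrp.pts p T (Additive.ofMul ((WittGrp.ptsMul p T).symm (Multiplicative.ofAdd v))) = v := by
  show Multiplicative.toAdd ((WittGrp.ptsMul p T) ((WittGrp.ptsMul p T).symm _)) = v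
  rw [MulEquiv.apply_symm_apply, toAdd_ofAdd]

lemma coeff_pts_ofCoeff {n m : ℕ} (c : Fin m → Γ((𝕎₀ n 𝕊).left, ⊤)) {T : Over 𝕊}
    (x : T ⟶ 𝕎₀ n 𝕊) (j : Fin m) :
    (WittGrp.pts p T (Additive.ofMul (x ≫ ofCoeff p c))).coeff j = x.left.appTop (c j) := by
  rw [WittGrp.pts_comp, ofCoeff, pts_symm, WittGrp.coeff_truncMap, TruncatedWittVector.coeff_mk]

variable [CharP k p]

lemma subsingleton_or_charP (T : Over 𝕊) :
    Subsingleton Γ(T.left, ⊤) ∨ CharP Γ(T.left, ⊤) p := by
  rcases subsingleton_or_nontrivial Γ(T.left, ⊤) with h | h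
  · exact Or.inl h
  · exact Or.inr (charP_of_injective_ringHom (cst k T).injective p)

/-- The endomorphism `∑_j V^j ∑_i [c_{ji}] F^i`. -/
noncomputable def opHom (n : ℕ) (L : List (List k)) : 𝕎₀ n 𝕊 ⟶ 𝕎₀ n 𝕊 :=
  (WittGrp.ptsMul p (𝕎₀ n 𝕊)).symm (Multiplicative.ofAdd
    (opT p (cst k (𝕎₀ n 𝕊)) n L (WittGrp.pts p (𝕎₀ n 𝕊) (Additive.ofMul (𝟙 _)))))

lemma pts_opHom {n : ℕ} (L : List (List k)) {T : Over 𝕊} (x : T ⟶ 𝕎₀ n 𝕊) :
    WittGrp.pts p T (Additive.ofMul (x ≫ opHom p n L)) =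
      opT p (cst k T) n L (WittGrp.pts p T (Additive.ofMul x)) := by
  rcases subsingleton_or_charP p T with h | h
  · exact TruncatedWittVector.ext fun i ↦ Subsingleton.elim _ _
  rcases subsingleton_or_charP p (𝕎₀ n 𝕊) with h' | h'
  · have : Subsingleton Γ(T.left, ⊤) := subsingleton_of_zero_eq_one (by
      rw [← map_zero x.left.appTop.hom, ← map_one x.left.appTop.hom, Subsingleton.elim (0 : Γ((𝕎₀ n 𝕊).left, ⊤)) 1])
    exact TruncatedWittVector.ext fun i ↦ Subsingleton.elim _ _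
  rw [WittGrp.pts_comp, opHom, pts_symm, truncMap_opT, cst_comp, ← WittGrp.pts_comp,
    Category.comp_id]

instance isMonHom_opHom (n : ℕ) (L : List (List k)) : IsMonHom (opHom p n L) := by
  have hadd : ∀ (T : Over 𝕊) (x y : T ⟶ 𝕎₀ n 𝕊),
      (x * y) ≫ opHom p n L = (x ≫ opHom p n L) * (y ≫ opHom p n L) := fun T x y ↦
    WittGrp.pts_injective p _ (by
      rcases subsingleton_or_charP p T with h | h
      · exact TruncatedWittVector.ext fun i ↦ Subsingleton.elim _ _
      show WittGrp.pts p T (Additive.ofMul ((x * y) ≫ opHom p n L)) =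
        WittGrp.pts p T (Additive.ofMul ((x ≫ opHom p n L) * (y ≫ opHom p n L)))
      rw [pts_opHom, WittGrp.pts_mul, opT_add, WittGrp.pts_mul, pts_opHom, pts_opHom])
  refine WittGrp.isMonHom_of_comp_mul _ ?_ hadd
  have := hadd _ (1 : 𝟙_ (Over 𝕊) ⟶ 𝕎₀ n 𝕊) 1
  rw [_root_.one_mul] at this
  exact left_eq_mul.mp this

/-- The base as an object over itself. -/
noncomputable abbrev pt₀ : Over (𝕊) := Over.mk (𝟙 _)

/-- The `k`-point with given components. -/
noncomputable def kpt {n : ℕ} (v : TruncatedWittVector p n k) : pt₀ (k := k) ⟶ 𝕎₀ n 𝕊 :=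
  (WittGrp.ptsMul p _).symm (Multiplicative.ofAdd
    (WittGrp.truncMap p n (Scheme.ΓSpecIso (CommRingCat.of k)).inv.hom v))

/-- The map on `k`-points. -/
noncomputable def val {n m : ℕ} (f : 𝕎₀ n 𝕊 ⟶ 𝕎₀ m 𝕊) (v : TruncatedWittVector p n k) :
    TruncatedWittVector p m k :=
  WittGrp.truncMap p m (Scheme.ΓSpecIso (CommRingCat.of k)).hom.hom
    (WittGrp.pts p _ (Additive.ofMul (kpt p v ≫ f)))

omit [CharP k p] in
lemma pts_kpt {n : ℕ} (v : TruncatedWittVector p n k) :
    WittGrp.pts p _ (Additive.ofMul (kpt p v)) =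
      WittGrp.truncMap p n (Scheme.ΓSpecIso (CommRingCat.of k)).inv.hom v :=
  pts_symm p _ _

omit [CharP k p] in
lemma truncMap_hom_inv {n : ℕ} (v : TruncatedWittVector p n k) :
    WittGrp.truncMap p n (Scheme.ΓSpecIso (CommRingCat.of k)).hom.hom
      (WittGrp.truncMap p n (Scheme.ΓSpecIso (CommRingCat.of k)).inv.hom v) = v :=
  TruncatedWittVector.ext fun i ↦ by
    simp only [WittGrp.coeff_truncMap]
    exact congr($((Scheme.ΓSpecIso (CommRingCat.of k)).inv_hom_id) (v.coeff i))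

omit [CharP k p] in
lemma truncMap_inv_hom {n : ℕ} (v : TruncatedWittVector p n Γ(𝕊, ⊤)) :
    WittGrp.truncMap p n (Scheme.ΓSpecIso (CommRingCat.of k)).inv.hom
      (WittGrp.truncMap p n (Scheme.ΓSpecIso (CommRingCat.of k)).hom.hom v) = v :=
  TruncatedWittVector.ext fun i ↦ by
    simp only [WittGrp.coeff_truncMap]
    exact congr($((Scheme.ΓSpecIso (CommRingCat.of k)).hom_inv_id) (v.coeff i))

omit [CharP k p] in
lemma kpt_val {n m : ℕ} (f : 𝕎₀ n 𝕊 ⟶ 𝕎₀ m 𝕊) (v : TruncatedWittVector p n k) :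
    kpt p (val p f v) = kpt p v ≫ f := by
  refine WittGrp.pts_injective p _ ?_
  show WittGrp.pts p _ (Additive.ofMul (kpt p (val p f v))) = _
  rw [pts_kpt, val]
  exact truncMap_inv_hom p _

omit [CharP k p] in
lemma val_comp {n m l : ℕ} (f : 𝕎₀ n 𝕊 ⟶ 𝕎₀ m 𝕊) (g : 𝕎₀ m 𝕊 ⟶ 𝕎₀ l 𝕊)
    (v : TruncatedWittVector p n k) : val p (f ≫ g) v = val p g (val p f v) := by
  rw [val, val, kpt_val, Category.assoc]

omit [CharP k p] in
lemma val_id {n : ℕ} (v : TruncatedWittVector p n k) : val p (𝟙 (𝕎₀ n 𝕊)) v = v := by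
  rw [val, Category.comp_id, pts_kpt, truncMap_hom_inv]

omit [CharP k p] in
lemma val_mul {n m : ℕ} (f g : 𝕎₀ n 𝕊 ⟶ 𝕎₀ m 𝕊) (v : TruncatedWittVector p n k) :
    val p (f * g) v = val p f v + val p g v := by
  rw [val, MonObj.comp_mul, WittGrp.pts_mul, map_add]
  rfl

omit [CharP k p] in
lemma val_one {n m : ℕ} (v : TruncatedWittVector p n k) : val p (1 : 𝕎₀ n 𝕊 ⟶ 𝕎₀ m 𝕊) v = 0 := by
  rw [val, MonObj.comp_one, WittGrp.pts_one, map_zero]

omit [CharP k p] in
lemma val_R {n m : ℕ} (h : n ≤ m) (v : TruncatedWittVector p m k) :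
    val p (WittGrp.R p 𝕊 h) v = TruncatedWittVector.truncate h v := by
  rw [val, WittGrp.pts_R, WittGrp.truncMap_truncateLE, pts_kpt, truncMap_hom_inv]

omit [CharP k p] in
lemma val_V {n m : ℕ} (h : n ≤ m) (v : TruncatedWittVector p n k) :
    val p (WittGrp.V p 𝕊 h) v = WittGrp.shift p h v := by
  rw [val, WittGrp.pts_V, WittGrp.truncMap_shift, pts_kpt, truncMap_hom_inv]

lemma val_F {n : ℕ} (hS : (p : Γ(𝕊, ⊤)) = 0) (v : TruncatedWittVector p n k) :
    val p (WittGrp.F p n 𝕊 hS) v = WittGrp.frob p n (CharP.cast_eq_zero k p) v := by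
  rw [val, WittGrp.pts_F, pts_kpt]
  ext i
  simp only [WittGrp.coeff_truncMap, WittGrp.coeff_frob, map_pow]
  congr 1
  exact congr($((Scheme.ΓSpecIso (CommRingCat.of k)).inv_hom_id) (v.coeff i))

lemma val_opHom {n : ℕ} (L : List (List k)) (v : TruncatedWittVector p n k) :
    val p (opHom p n L) v = opT p (RingHom.id k) n L v := by
  have hinj : Function.Injective (Scheme.ΓSpecIso (CommRingCat.of k)).inv.hom :=
    Function.LeftInverse.injective (g := (Scheme.ΓSpecIso (CommRingCat.of k)).hom.hom) fun a ↦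
      congr($((Scheme.ΓSpecIso (CommRingCat.of k)).inv_hom_id) a)
  have : CharP Γ((pt₀ (k := k)).left, ⊤) p := charP_of_injective_ringHom hinj p
  have e : cst k (pt₀ (k := k)) = (Scheme.ΓSpecIso (CommRingCat.of k)).inv.hom.comp (RingHom.id k) := by
    ext c
    show (𝟙 𝕊 : 𝕊 ⟶ 𝕊).appTop _ = _
    simp
  rw [val, pts_opHom, pts_kpt, e]
  exact (congrArg _ (truncMap_opT p (R' := Γ((pt₀ (k := k)).left, ⊤))
    (Scheme.ΓSpecIso (CommRingCat.of k)).inv.hom (RingHom.id k) n L v).symm).trans (truncMap_hom_inv p _)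

omit [CharP k p] in
lemma coeff_val_ofCoeff_coord {n m : ℕ} (σ : Fin m → Option (Fin n)) (v : TruncatedWittVector p n k)
    (j : Fin m) :
    (val p (ofCoeff p fun i ↦ (σ i).elim 0 (WittGrp.coord p)) v).coeff j =
      (σ j).elim 0 v.coeff := by
  rw [val, WittGrp.coeff_truncMap, coeff_pts_ofCoeff]
  cases σ j with
  | none => simp
  | some i =>
    simp only [Option.elim_some]
    rw [← WittGrp.coeff_pts, pts_kpt, WittGrp.coeff_truncMap]
    exact congr($((Scheme.ΓSpecIso (CommRingCat.of k)).inv_hom_id) (v.coeff i))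

/-- Append zeros. -/
noncomputable def pad (n m : ℕ) : 𝕎₀ n 𝕊 ⟶ 𝕎₀ m 𝕊 :=
  ofCoeff p fun i ↦ (if h : (i : ℕ) < n then some (⟨i, h⟩ : Fin n) else none).elim 0 (WittGrp.coord p)

/-- Keep the last components. -/
noncomputable def drop {n m : ℕ} (h : n ≤ m) : 𝕎₀ m 𝕊 ⟶ 𝕎₀ n 𝕊 :=
  ofCoeff p fun i ↦ (some (⟨m - n + i, by omega⟩ : Fin m)).elim 0 (WittGrp.coord p)

omit [CharP k p] in
lemma coeff_val_pad {n m : ℕ} (v : TruncatedWittVector p n k) (j : Fin m) :
    (val p (pad p n m) v).coeff j = if h : (j : ℕ) < n then v.coeff ⟨j, h⟩ else 0 := by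
  rw [pad, coeff_val_ofCoeff_coord]
  split_ifs <;> rfl

omit [CharP k p] in
lemma coeff_val_drop {n m : ℕ} (h : n ≤ m) (v : TruncatedWittVector p m k) (j : Fin n) :
    (val p (drop p h) v).coeff j = v.coeff ⟨m - n + j, by omega⟩ := by
  rw [drop, coeff_val_ofCoeff_coord]
  rfl

omit [CharP k p] in
lemma truncate_val_pad {n m : ℕ} (h : n ≤ m) (v : TruncatedWittVector p n k) :
    TruncatedWittVector.truncate h (val p (pad p n m) v) = v := by
  ext j
  rw [TruncatedWittVector.coeff_truncate, coeff_val_pad, dif_pos (by simp)]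
  rfl

omit [CharP k p] in
lemma shift_val_drop {n m : ℕ} (h : n ≤ m) {v : TruncatedWittVector p m k}
    (hv : Zeros p (m - n) v) : WittGrp.shift p h (val p (drop p h) v) = v := by
  ext j
  rw [WittGrp.coeff_shift]
  split_ifs with h'
  · rw [coeff_val_drop]
    congr 1
    ext; simp; omega
  · exact (hv j (by omega)).symm

omit [CharP k p] in
lemma drop_shift {n m : ℕ} (h : n ≤ m) (v : TruncatedWittVector p n k) :
    val p (drop p h) (WittGrp.shift p h v) = v := by
  ext j
  rw [coeff_val_drop, WittGrp.coeff_shift, dif_pos (by simp)]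
  congr 1
  ext; simp

/-- The polynomial giving the `j`-th coordinate of a morphism. -/
noncomputable def coordPoly {n m : ℕ} (f : 𝕎₀ n 𝕊 ⟶ 𝕎₀ m 𝕊) (j : Fin m) :
    MvPolynomial (ULift.{u} (Fin n)) k :=
  (Scheme.ΓSpecIso (CommRingCat.of (MvPolynomial (ULift.{u} (Fin n)) k))).hom
    ((AffineSpace.SpecIso (ULift.{u} (Fin n)) (CommRingCat.of k)).inv.appTop
      (f.left.appTop (WittGrp.coord p j)))

omit [CharP k p] in
lemma coeff_val {n m : ℕ} (f : 𝕎₀ n 𝕊 ⟶ 𝕎₀ m 𝕊) (v : TruncatedWittVector p n k) (j : Fin m) :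
    (val p f v).coeff j = MvPolynomial.eval (fun i ↦ v.coeff i.down) (coordPoly p f j) := by
  let N := ULift.{u} (Fin n)
  let R : CommRingCat.{u} := CommRingCat.of (MvPolynomial N k)
  let e : R ⟶ CommRingCat.of k := CommRingCat.ofHom (MvPolynomial.eval fun i : N ↦ v.coeff i.down)
  have hk : (kpt p v).left = Spec.map e ≫ (AffineSpace.SpecIso N (CommRingCat.of k)).inv := by
    refine AffineSpace.hom_ext ?_ fun i ↦ ?_
    · rw [Category.assoc, AffineSpace.SpecIso_inv_over, ← Spec.map_comp]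
      refine (Over.w (kpt p v)).trans ?_
      rw [show CommRingCat.ofHom (MvPolynomial.C (σ := N) (R := k)) ≫ e = 𝟙 (CommRingCat.of k) by
          ext b; exact MvPolynomial.eval_C b]
      exact (Spec.map_id _).symm
    · rw [Scheme.Hom.comp_appTop, CommRingCat.comp_apply, AffineSpace.SpecIso_inv_appTop_coord]
      refine Eq.trans ?_ (appTop_specMap_inv _ _).symm
      refine ((WittGrp.coeff_pts p _ (kpt p v) i.down).symm.trans ?_)
      rw [pts_kpt, WittGrp.coeff_truncMap]
      congr 1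
      exact (MvPolynomial.eval_X (f := fun i : N ↦ v.coeff i.down) i).symm
  rw [val, WittGrp.coeff_truncMap, WittGrp.coeff_pts, Over.comp_left, hk]
  show (Scheme.ΓSpecIso (CommRingCat.of k)).hom ((Spec.map e).appTop
    ((AffineSpace.SpecIso N (CommRingCat.of k)).inv.appTop (f.left.appTop (WittGrp.coord p j)))) = _
  rw [← CommRingCat.comp_apply (Spec.map e).appTop, Scheme.ΓSpecIso_naturality]
  rfl

section Field

variable [IsAlgClosed k]

omit [CharP k p] in
/-- Morphisms are determined by their values on `k`-points. -/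
lemma val_ext {n m : ℕ} {f g : 𝕎₀ n 𝕊 ⟶ 𝕎₀ m 𝕊} (h : ∀ v, val p f v = val p g v) : f = g := by
  refine WittGrp.pts_injective p _ (TruncatedWittVector.ext fun j ↦ ?_)
  rw [WittGrp.coeff_pts, WittGrp.coeff_pts]
  have hinj : Function.Injective
      (AffineSpace.SpecIso (ULift.{u} (Fin n)) (CommRingCat.of k)).inv.appTop :=
    Function.LeftInverse.injective
      (g := (AffineSpace.SpecIso (ULift.{u} (Fin n)) (CommRingCat.of k)).hom.appTop) fun a ↦ by
      rw [← CommRingCat.comp_apply, ← Scheme.Hom.comp_appTop, Iso.hom_inv_id]; rfl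
  have hinj' : Function.Injective
      (Scheme.ΓSpecIso (CommRingCat.of (MvPolynomial (ULift.{u} (Fin n)) k))).hom :=
    Function.LeftInverse.injective
      (g := (Scheme.ΓSpecIso (CommRingCat.of (MvPolynomial (ULift.{u} (Fin n)) k))).inv) fun a ↦
      congr($((Scheme.ΓSpecIso _).hom_inv_id) a)
  refine hinj (hinj' (MvPolynomial.funext fun a ↦ ?_))
  have := congrArg (TruncatedWittVector.coeff j) (h (TruncatedWittVector.mk p fun i ↦ a (ULift.up i)))
  simp only [coeff_val, TruncatedWittVector.coeff_mk] at this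
  exact this

omit [CharP k p] in
/-- A homomorphism is additive on `k`-points. -/
lemma val_add {n m : ℕ} (f : 𝕎₀ n 𝕊 ⟶ 𝕎₀ m 𝕊) [IsMonHom f] (v w : TruncatedWittVector p n k) :
    val p f (v + w) = val p f v + val p f w := by
  have e : kpt p (v + w) = kpt p v * kpt p w := by
    refine WittGrp.pts_injective p _ ?_
    show WittGrp.pts p _ (Additive.ofMul (kpt p (v + w))) =
      WittGrp.pts p _ (Additive.ofMul (kpt p v * kpt p w))
    rw [WittGrp.pts_mul, pts_kpt, pts_kpt, pts_kpt, map_add]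
  rw [val, e, MonObj.mul_comp, WittGrp.pts_mul, map_add]
  rfl

/-- A homomorphism to `W_1` only depends on the first component. -/
lemma val_eq_of_coeff_zero_eq {n : ℕ} (h : TruncatedWittVector p n k →+ TruncatedWittVector p 1 k)
    {v w : TruncatedWittVector p n k} (hn : 0 < n) (hvw : v.coeff ⟨0, hn⟩ = w.coeff ⟨0, hn⟩) :
    h v = h w := by
  have hz : Zeros p 1 (v - w) := fun i hi ↦ by
    obtain rfl : i = ⟨0, hn⟩ := Fin.ext (Nat.lt_one_iff.mp hi)
    have := coeff_add_zero p (v - w) w hn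
    rw [sub_add_cancel] at this
    linear_combination hvw - this
  have := zeros_of_additive p h 0 (fun _ i hi ↦ absurd hi (Nat.not_lt_zero _)) 1 hz
  rw [← sub_eq_zero, ← map_sub]
  exact TruncatedWittVector.ext fun i ↦ (this i (by omega)).trans (by simp)

/-- A morphism `W_n ⟶ W_n` additive on `k`-points is one of the operators. -/
theorem exists_opT {n : ℕ} (f : 𝕎₀ n 𝕊 ⟶ 𝕎₀ n 𝕊)
    (hf : ∀ v w, val p f (v + w) = val p f v + val p f w) :
    ∃ L : List (List k), ∀ v, val p f v = opT p (RingHom.id k) n L v := by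
  induction n with
  | zero => exact ⟨[], fun v ↦ TruncatedWittVector.ext fun i ↦ i.elim0⟩
  | succ n ih =>
    let h1 : 1 ≤ n + 1 := by omega
    let h : n ≤ n + 1 := by omega
    let F : TruncatedWittVector p (n + 1) k →+ TruncatedWittVector p (n + 1) k :=
      AddMonoidHom.mk' (val p f) hf
    let F₀ : TruncatedWittVector p (n + 1) k →+ TruncatedWittVector p 1 k :=
      (TruncatedWittVector.truncate h1).toAddMonoidHom.comp F
    let Q := coordPoly p (pad p 1 (n + 1) ≫ f ≫ WittGrp.R p 𝕊 h1) 0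
    have hQ := fun v ↦ coeff_val p (pad p 1 (n + 1) ≫ f ≫ WittGrp.R p 𝕊 h1) v 0
    have hP : ∀ a : k, (MvPolynomial.aeval (fun _ ↦ Polynomial.X) Q).eval a =
        (F₀ (val p (pad p 1 (n + 1)) (TruncatedWittVector.mk p fun _ ↦ a))).coeff 0 := fun a ↦ by
      rw [← Polynomial.coe_aeval_eq_eval, ← AlgHom.comp_apply, MvPolynomial.comp_aeval]
      have := hQ (TruncatedWittVector.mk p fun _ ↦ a)
      rw [val_comp, val_comp, val_R] at this
      refine Eq.trans ?_ this.symm
      rw [← MvPolynomial.aeval_eq_eval]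
      congr 1
      ext i
      simp [TruncatedWittVector.coeff_mk]
    obtain ⟨l, hl⟩ := exists_evalList_of_additive p (MvPolynomial.aeval (fun _ ↦ Polynomial.X) Q)
      (fun a b ↦ by
        rw [hP, hP, hP]
        refine Eq.trans ?_ (coeff_add_zero p _ _ one_pos)
        rw [← map_add]
        refine congrArg (TruncatedWittVector.coeff 0) (val_eq_of_coeff_zero_eq p F₀ (by omega) ?_)
        rw [coeff_add_zero]
        simp only [coeff_val_pad, TruncatedWittVector.coeff_mk]
        simp)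
    have hF₀ : ∀ v, (val p f v).coeff 0 = evalList p l (v.coeff 0) := fun v ↦ by
      rw [← hl, hP]
      have e : F₀ v = F₀ (val p (pad p 1 (n + 1)) (TruncatedWittVector.mk p fun _ ↦ v.coeff 0)) := by
        refine val_eq_of_coeff_zero_eq p F₀ (by omega) ?_
        rw [coeff_val_pad, dif_pos (by simp), TruncatedWittVector.coeff_mk]
        rfl
      rw [← e]
      show _ = (TruncatedWittVector.truncate h1 (val p f v)).coeff 0
      rw [TruncatedWittVector.coeff_truncate]
      rfl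
    let Δ := f * (opHom p (n + 1) [l])⁻¹
    have hΔ : ∀ v, val p Δ v = val p f v - opT p (RingHom.id k) (n + 1) [l] v := fun v ↦ by
      rw [eq_sub_iff_add_eq, ← val_opHom, ← val_mul, inv_mul_cancel_right]
    let D : TruncatedWittVector p (n + 1) k →+ TruncatedWittVector p (n + 1) k :=
      AddMonoidHom.mk' (val p Δ) fun v w ↦ by rw [hΔ, hΔ, hΔ, hf, opT_add]; abel
    have hD1 : ∀ v, Zeros p 1 (D v) := fun v i hi ↦ by
      obtain rfl : i = 0 := Fin.ext (Nat.lt_one_iff.mp hi)
      have := coeff_add_zero p (D v) (opT p (RingHom.id k) (n + 1) [l] v) n.succ_pos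
      rw [show D v + opT p (RingHom.id k) (n + 1) [l] v = val p f v by
        show val p Δ v + _ = _; rw [hΔ, sub_add_cancel]] at this
      obtain ⟨X, rfl⟩ := WittVector.truncate_surjective p (n + 1) k v
      rw [opT_cons_nil] at this
      have e1 := hF₀ (WittVector.truncate (n + 1) X)
      rw [WittVector.coeff_truncate] at e1
      have e2 : (WittVector.truncate (n + 1) (lin p (RingHom.id k) l X)).coeff ⟨0, n.succ_pos⟩ =
          evalList p l (X.coeff 0) := by
        rw [WittVector.coeff_truncate]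
        simpa using lin_coeff_zero p (RingHom.id k) l X
      rw [e2] at this
      exact add_eq_right.mp (this.symm.trans e1)
    let φ := pad p n (n + 1) ≫ Δ ≫ drop p h
    have hφ : ∀ w, WittGrp.shift p h (val p φ w) = D (val p (pad p n (n + 1)) w) := fun w ↦ by
      rw [val_comp, val_comp]
      exact shift_val_drop p h (by rw [show n + 1 - n = 1 by omega]; exact hD1 _)
    have hDR : ∀ v w : TruncatedWittVector p (n + 1) k,
        TruncatedWittVector.truncate h v = TruncatedWittVector.truncate h w → D v = D w :=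
      fun v w hvw ↦ by
        have hz : Zeros p n (v - w) := fun i hi ↦ by
          have := congrArg (TruncatedWittVector.coeff ⟨i, hi⟩) (sub_eq_zero.mpr hvw)
          rw [← map_sub, TruncatedWittVector.coeff_truncate, TruncatedWittVector.coeff_zero] at this
          exact this
        have := zeros_of_additive p D 1 hD1 n hz
        rw [← sub_eq_zero, ← map_sub]
        exact TruncatedWittVector.ext fun i ↦
          (this i i.isLt).trans (by simp)
    obtain ⟨L, hL⟩ := ih φ fun a b ↦ by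
      have hs : Function.Injective (WittGrp.shift (R := k) p h) :=
        Function.LeftInverse.injective (g := val p (drop p h)) (drop_shift p h)
      refine hs ?_
      rw [map_add, hφ, hφ, hφ, ← map_add]
      exact hDR _ _ (by rw [map_add, truncate_val_pad, truncate_val_pad, truncate_val_pad])
    refine ⟨l :: L, fun v ↦ ?_⟩
    have e1 : D v = WittGrp.shift p h (opT p (RingHom.id k) n L (TruncatedWittVector.truncate h v)) := by
      rw [← hL, hφ]
      exact hDR _ _ (by rw [truncate_val_pad])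
    have e2 : val p f v = opT p (RingHom.id k) (n + 1) [l] v + D v := by
      show _ = _ + val p Δ v
      rw [hΔ, add_sub_cancel]
    rw [e2, e1]
    obtain ⟨X, rfl⟩ := WittVector.truncate_surjective p (n + 1) k v
    rw [TruncatedWittVector.truncate_wittVector_truncate, opT_cons_nil, opT_truncate, opT_truncate,
      WittGrp.shift_truncate, ← map_add]
    simp [op]

end Field

end Groth.GrpschAbsch.WittEnd

namespace Groth.GrpschAbsch.WittEnd

open WittOp

variable {p : ℕ} [hp : Fact p.Prime] {k : Type u} [Field k] [IsAlgClosed k] [CharP k p]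

local notation "𝕊" => Spec (CommRingCat.of k)
local notation "𝕎₀" => WittGrp.W p

lemma exists_opHom {n : ℕ} (φ : 𝕎₀ n 𝕊 ⟶ 𝕎₀ n 𝕊) [IsMonHom φ] :
    ∃ L, φ = opHom p n L := by
  obtain ⟨L, hL⟩ := exists_opT p φ (val_add p φ)
  exact ⟨L, val_ext p fun v ↦ by rw [hL, val_opHom]⟩

/-- Roots of all the coefficients. -/
lemma exists_powList (q : ℕ) (hq : 0 < q) (L : List (List k)) :
    ∃ L', powList q L' = L := by
  choose r hr using fun c : k ↦ IsAlgClosed.exists_pow_nat_eq c hq
  refine ⟨L.map (List.map r), ?_⟩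
  simp [powList, List.map_map, Function.comp_def, hr]

lemma opHom_R {n m : ℕ} (h : n ≤ m) (L : List (List k)) :
    WittGrp.R p 𝕊 h ≫ opHom p n L = opHom p m L ≫ WittGrp.R p 𝕊 h :=
  val_ext p fun v ↦ by
    rw [val_comp, val_comp, val_R, val_R, val_opHom, val_opHom, opT_truncateLE]

lemma V_opHom {n m : ℕ} (h : n ≤ m) (L : List (List k)) :
    WittGrp.V p 𝕊 h ≫ opHom p m L = opHom p n (powList (p ^ (m - n)) L) ≫ WittGrp.V p 𝕊 h :=
  val_ext p fun v ↦ by
    rw [val_comp, val_comp, val_V, val_V, val_opHom, val_opHom, opT_shift]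

lemma F_opHom {n : ℕ} (hS : (p : Γ(𝕊, ⊤)) = 0) (L : List (List k)) :
    WittGrp.F p n 𝕊 hS ≫ opHom p n (powList p L) = opHom p n L ≫ WittGrp.F p n 𝕊 hS :=
  val_ext p fun v ↦ by
    rw [val_comp, val_comp, val_F, val_F, val_opHom, val_opHom, opT_frob]

lemma R_F {n m : ℕ} (h : n ≤ m) (hS : (p : Γ(𝕊, ⊤)) = 0) :
    WittGrp.F p m 𝕊 hS ≫ WittGrp.R p 𝕊 h = WittGrp.R p 𝕊 h ≫ WittGrp.F p n 𝕊 hS :=
  val_ext p fun v ↦ TruncatedWittVector.ext fun i ↦ by
    simp [val_comp, val_R, val_F, TruncatedWittVector.coeff_truncate]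

omit [CharP k p] in
lemma isMonHom_comp {a b c : ℕ} (f : 𝕎₀ a 𝕊 ⟶ 𝕎₀ b 𝕊) (g : 𝕎₀ b 𝕊 ⟶ 𝕎₀ c 𝕊)
    [IsMonHom f] [IsMonHom g] : IsMonHom (f ≫ g) := inferInstance

/-- Homomorphisms to `W_1` factor through the restriction. -/
lemma exists_R_opHom {N : ℕ} (hN : 1 ≤ N) (f : 𝕎₀ N 𝕊 ⟶ 𝕎₀ 1 𝕊) [IsMonHom f] :
    ∃ L, f = WittGrp.R p 𝕊 hN ≫ opHom p 1 L := by
  let F : TruncatedWittVector p N k →+ TruncatedWittVector p 1 k :=
    AddMonoidHom.mk' (val p f) (val_add p f)
  obtain ⟨L, hL⟩ := exists_opT p (pad p 1 N ≫ f) fun a b ↦ by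
    rw [val_comp, val_comp, val_comp, ← val_add]
    refine val_eq_of_coeff_zero_eq p F hN ?_
    rw [coeff_add_zero, coeff_val_pad, coeff_val_pad, coeff_val_pad, dif_pos one_pos, dif_pos one_pos,
      dif_pos one_pos, coeff_add_zero]
  refine ⟨L, val_ext p fun v ↦ ?_⟩
  rw [val_comp, val_R, val_opHom, ← hL, val_comp]
  refine val_eq_of_coeff_zero_eq p F hN ?_
  rw [coeff_val_pad, dif_pos one_pos, TruncatedWittVector.coeff_truncate]
  rfl

/-- Homomorphisms from `W_1` factor through the shift. -/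
lemma exists_opHom_V {N : ℕ} (hN : 1 ≤ N) (f : 𝕎₀ 1 𝕊 ⟶ 𝕎₀ N 𝕊) [IsMonHom f] :
    ∃ L, f = opHom p 1 L ≫ WittGrp.V p 𝕊 hN := by
  have hz : ∀ a, Zeros p (N - 1) (val p f a) := fun a i hi ↦ by
    have h1 : p • a = 0 := TruncatedWittVector.ext fun j ↦ by
      rw [coeff_nsmul, dif_pos (by omega), TruncatedWittVector.coeff_zero]
    let F : TruncatedWittVector p 1 k →+ TruncatedWittVector p N k :=
      AddMonoidHom.mk' (val p f) (val_add p f)
    have := congrArg (TruncatedWittVector.coeff ⟨(i : ℕ) + 1, by omega⟩) (congrArg F h1)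
    rw [map_nsmul, coeff_nsmul, dif_neg (by simp), map_zero, TruncatedWittVector.coeff_zero] at this
    exact (pow_eq_zero_iff hp.out.ne_zero).mp this
  obtain ⟨L, hL⟩ := exists_opT p (f ≫ drop p hN) fun a b ↦ by
    have hs : Function.Injective (WittGrp.shift (R := k) p hN) :=
      Function.LeftInverse.injective (g := val p (drop p hN)) (drop_shift p hN)
    refine hs ?_
    rw [map_add, val_comp, val_comp, val_comp, shift_val_drop p hN (hz _),
      shift_val_drop p hN (hz _), shift_val_drop p hN (hz _), val_add]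
  refine ⟨L, val_ext p fun v ↦ ?_⟩
  rw [val_comp, val_V, val_opHom, ← hL, val_comp, shift_val_drop p hN (hz _)]

end Groth.GrpschAbsch.WittEnd
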