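import Groth.Prelude.Def_WittGrp
import Groth.Agent.GrpschAbsch.AffineSpaceExtra

/-!
`W_n`: restriction is flat and surjective, the shift is a closed immersion.
-/

universe u

open CategoryTheory MonoidalCategory CartesianMonoidalCategory MonObj AlgebraicGeometry

namespace Groth.GrpschAbsch.WittBasic

variable (p : ℕ) [Fact p.Prime] (S : Scheme.{u})

/-- The morphism with given coordinates. -/
noncomputable def ofCoord {n m : ℕ} (c : Fin m → Γ((WittGrp.W p n S).left, ⊤)) :
    WittGrp.W p n S ⟶ WittGrp.W p m S :=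
  (WittGrp.ptsEquiv p (WittGrp.W p n S)).symm (Multiplicative.ofAdd (TruncatedWittVector.mk p c))

variable {S}

lemma coeff_pts_ofCoord {n m : ℕ} (c : Fin m → Γ((WittGrp.W p n S).left, ⊤)) {T : Over S}
    (x : T ⟶ WittGrp.W p n S) (j : Fin m) :
    (WittGrp.pts p T (Additive.ofMul (x ≫ ofCoord p S c))).coeff j = x.left.appTop (c j) := by
  rw [WittGrp.pts_comp, WittGrp.coeff_truncMap]
  show x.left.appTop ((Multiplicative.toAdd ((WittGrp.ptsEquiv p (WittGrp.W p n S))
    ((WittGrp.ptsEquiv p (WittGrp.W p n S)).symm _))).coeff j) = _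
  rw [Equiv.apply_symm_apply, toAdd_ofAdd, TruncatedWittVector.coeff_mk]

lemma pts_ext {n : ℕ} {T : Over S} {x y : T ⟶ WittGrp.W p n S}
    (h : ∀ i, (WittGrp.pts p T (Additive.ofMul x)).coeff i = (WittGrp.pts p T (Additive.ofMul y)).coeff i) :
    x = y :=
  WittGrp.pts_injective p T (TruncatedWittVector.ext h)

variable (S)

/-- The last components. -/
noncomputable def lastC {n m : ℕ} (h : n ≤ m) : WittGrp.W p m S ⟶ WittGrp.W p n S :=
  ofCoord p S fun i ↦ WittGrp.coord p (⟨m - n + i, by omega⟩ : Fin m)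

/-- Zero extension. -/
noncomputable def zeroExt (n m : ℕ) : WittGrp.W p n S ⟶ WittGrp.W p m S :=
  ofCoord p S fun i ↦ if h : (i : ℕ) < n then WittGrp.coord p (⟨i, h⟩ : Fin n) else 0

lemma V_lastC {n m : ℕ} (h : n ≤ m) : WittGrp.V p S h ≫ lastC p S h = 𝟙 _ :=
  pts_ext p fun i ↦ by
    rw [lastC, coeff_pts_ofCoord, ← WittGrp.coeff_pts, ← Category.id_comp (WittGrp.V p S h),
      WittGrp.pts_V, WittGrp.coeff_shift, dif_pos (by simp)]
    congr 1
    ext; simp

lemma zeroExt_R {n m : ℕ} (h : n ≤ m) : zeroExt p S n m ≫ WittGrp.R p S h = 𝟙 _ :=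
  pts_ext p fun i ↦ by
    rw [WittGrp.pts_R, TruncatedWittVector.coeff_truncate, ← Category.id_comp (zeroExt p S n m),
      zeroExt, coeff_pts_ofCoord, dif_pos (by simp), ← WittGrp.coeff_pts]
    rfl

lemma R_left_eq {n m : ℕ} (h : n ≤ m) :
    (WittGrp.R p S h).left =
      AffineSpace.reindex (fun i : ULift.{u} (Fin n) ↦ ULift.up (Fin.castLE h i.down)) S := by
  refine AffineSpace.hom_ext ((Over.w (WittGrp.R p S h)).trans (AffineSpace.reindex_over _ _).symm)
    fun j ↦ ?_
  refine Eq.trans ?_ (AffineSpace.reindex_appTop_coord _ _ j).symm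
  refine (WittGrp.coeff_pts p _ (WittGrp.R p S h) j.down).symm.trans ?_
  rw [← Category.id_comp (WittGrp.R p S h), WittGrp.pts_R, TruncatedWittVector.coeff_truncate,
    WittGrp.coeff_pts]
  exact congr($(Scheme.Hom.id_appTop (X := (WittGrp.W p m S).left)) _)

lemma flat_R {n m : ℕ} (h : n ≤ m) : Flat (WittGrp.R p S h).left := by
  rw [R_left_eq]
  refine flat_reindex _ (fun a b hab ↦ ?_) S
  exact ULift.ext _ _ (Fin.castLE_injective h (congrArg ULift.down hab))

lemma surjective_R {n m : ℕ} (h : n ≤ m) : Surjective (WittGrp.R p S h).left := by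
  refine ⟨fun y ↦ ⟨(zeroExt p S n m).left y, ?_⟩⟩
  rw [← Scheme.Hom.comp_apply, ← Over.comp_left, zeroExt_R, Over.id_left]
  rfl

lemma isClosedImmersion_V {n m : ℕ} (h : n ≤ m) : IsClosedImmersion (WittGrp.V p S h).left := by
  have : IsSeparated (lastC p S h).left := by
    have : IsAffineHom (WittGrp.W p m S).hom := inferInstanceAs (IsAffineHom (𝔸(ULift.{u} (Fin m); S) ↘ S))
    have : IsSeparated ((lastC p S h).left ≫ (WittGrp.W p n S).hom) := by
      rw [Over.w]; infer_instance
    exact IsSeparated.of_comp (lastC p S h).left (WittGrp.W p n S).hom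
  have : IsClosedImmersion ((WittGrp.V p S h).left ≫ (lastC p S h).left) := by
    rw [← Over.comp_left, V_lastC, Over.id_left]; infer_instance
  exact IsClosedImmersion.of_comp (WittGrp.V p S h).left (lastC p S h).left

end Groth.GrpschAbsch.WittBasic
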