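import Groth.Agent.GrpschAbsch.RationalToAbelian

set_option autoImplicit false

/-!
Morphisms from affine and projective spaces over a field to abelian varieties are constant.
-/

universe u

open CategoryTheory CategoryTheory.Limits AlgebraicGeometry
open MonoidalCategory CartesianMonoidalCategory MonObj GrpObj

namespace Groth.GrpschAbsch.RationalToAbelian

variable {K : Type u} [Field K] {n : ℕ}

/-- The constant functions. -/
noncomputable def str (T : Over (base K)) : K →+* Γ(T.left, ⊤) :=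
  T.hom.appTop.hom.comp (Scheme.ΓSpecIso (CommRingCat.of K)).inv.hom

/-- The morphism with given coordinates. -/
noncomputable def aff {T : Over (base K)} (v : Fin n → Γ(T.left, ⊤)) : T ⟶ Aff K n :=
  Over.homMk (T.left.toSpecΓ ≫ Spec.map (CommRingCat.ofHom (MvPolynomial.eval₂Hom (str T) v))) (by
    show (T.left.toSpecΓ ≫ Spec.map _) ≫ Spec.map _ = T.hom
    rw [Category.assoc, ← Spec.map_comp, ← CommRingCat.ofHom_comp]
    have : (MvPolynomial.eval₂Hom (str T) v).comp MvPolynomial.C = str T :=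
      RingHom.ext fun a ↦ MvPolynomial.eval₂Hom_C _ _ a
    rw [this, str, CommRingCat.ofHom_comp, Spec.map_comp]
    show T.left.toSpecΓ ≫ Spec.map T.hom.appTop ≫ Spec.map _ = T.hom
    rw [← Scheme.toSpecΓ_naturality_assoc]
    simp)

theorem appTop_toSpecΓ_map {X : Scheme.{u}} {R : CommRingCat.{u}} (φ : R ⟶ Γ(X, ⊤)) :
    (X.toSpecΓ ≫ Spec.map φ).appTop = (Scheme.ΓSpecIso R).hom ≫ φ := by
  rw [Scheme.Hom.comp_appTop, Scheme.toSpecΓ_appTop]
  exact Scheme.ΓSpecIso_naturality φ

/-- The coordinates of a morphism. -/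
noncomputable def cdF {T : Over (base K)} (f : T ⟶ Aff K n) (i : Fin n) : Γ(T.left, ⊤) :=
  f.left.appTop ((Scheme.ΓSpecIso (CommRingCat.of (MvPolynomial (Fin n) K))).inv (MvPolynomial.X i))

theorem cdF_comp {T T' : Over (base K)} (k : T' ⟶ T) (f : T ⟶ Aff K n) (i : Fin n) :
    cdF (k ≫ f) i = k.left.appTop (cdF f i) := rfl

theorem cdF_aff {T : Over (base K)} (v : Fin n → Γ(T.left, ⊤)) (i : Fin n) : cdF (aff v) i = v i := by
  have h := congr(($(appTop_toSpecΓ_map (CommRingCat.ofHom (MvPolynomial.eval₂Hom (str T) v)))).hom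
    ((Scheme.ΓSpecIso (CommRingCat.of (MvPolynomial (Fin n) K))).inv (MvPolynomial.X i)))
  refine Eq.trans h ?_
  rw [CommRingCat.comp_apply, Iso.inv_hom_id_apply]
  exact MvPolynomial.eval₂Hom_X' _ _ i

theorem hom_ext {T : Over (base K)} {f g : T ⟶ Aff K n} (h : ∀ i, cdF f i = cdF g i) : f = g := by
  have : IsAffine (Aff K n).left := inferInstanceAs (IsAffine (Spec (CommRingCat.of (MvPolynomial (Fin n) K))))
  refine Over.OverMorphism.ext (ext_of_isAffine ?_)
  refine (cancel_epi (Scheme.ΓSpecIso (CommRingCat.of (MvPolynomial (Fin n) K))).inv).mp ?_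
  refine CommRingCat.hom_ext (MvPolynomial.ringHom_ext (fun a ↦ ?_) h)
  have hC : (Scheme.ΓSpecIso (CommRingCat.of (MvPolynomial (Fin n) K))).inv (MvPolynomial.C a) =
      (Aff K n).hom.appTop ((Scheme.ΓSpecIso (CommRingCat.of K)).inv a) :=
    congr(($(Scheme.ΓSpecIso_inv_naturality (CommRingCat.ofHom (MvPolynomial.C : K →+* MvPolynomial (Fin n) K)))).hom a)
  show f.left.appTop ((Scheme.ΓSpecIso _).inv (MvPolynomial.C a)) = g.left.appTop ((Scheme.ΓSpecIso _).inv (MvPolynomial.C a))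
  rw [hC]
  have e : ∀ (k : T ⟶ Aff K n) z, k.left.appTop ((Aff K n).hom.appTop z) = T.hom.appTop z := fun k z ↦ by
    rw [← CommRingCat.comp_apply, ← Scheme.Hom.comp_appTop, Over.w k]
  exact (e f _).trans (e g _).symm

variable (K n) in
/-- The origin. -/
noncomputable def zeroPt : 𝟙_ (Over (base K)) ⟶ Aff K n := aff fun _ ↦ 0

instance : Smooth (Aff K n).hom :=
  (HasRingHomProperty.Spec_iff (P := @Smooth)).mpr
    (RingHom.smooth_algebraMap.mpr (⟨inferInstance, inferInstance⟩ : Algebra.Smooth K (MvPolynomial (Fin n) K)))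

instance : IsSeparated (Aff K n).hom := inferInstanceAs (IsSeparated (Spec.map _))

instance : QuasiCompact (Aff K n).hom := inferInstanceAs (QuasiCompact (Spec.map _))

instance : GeometricallyIntegral (Aff K n).hom := by
  have : GeometricallyIrreducible (CohB1.ProjSpaceOver.toBase n (base K)) := by
    refine ⟨geometrically_iff_of_isClosedUnderIsomorphisms.mpr fun L _ y ↦ ?_⟩
    have := Groth.Misc15.ProjPts.irreducibleSpace_projSpaceOver (n := n) L
    exact (isPullback_projSpaceOver n y).isoPullback.hom.homeomorph.irreducibleSpace_iff.mp this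
  have h : (Aff K n).hom = Groth.Misc15.ProjPts.chart 0 K ≫ CohB1.ProjSpaceOver.toBase n (base K) :=
    (Groth.Misc15.ProjPts.chart_toBase 0 K).symm
  have hs : Surjective (Aff K n).hom := ⟨fun y ↦ ⟨(zeroPt K n).left y, Subsingleton.elim _ _⟩⟩
  have : Surjective (Groth.Misc15.ProjPts.chart (0 : Fin (n + 1)) K ≫ CohB1.ProjSpaceOver.toBase n (base K)) := by
    rw [← h]; exact hs
  have : GeometricallyIrreducible (Aff K n).hom := by
    rw [h]
    exact @instGeometricallyIrreducibleCompSchemeOfIsOpenImmersionOfSurjective _ _ _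
      (Groth.Misc15.ProjPts.chart (0 : Fin (n + 1)) K) (CohB1.ProjSpaceOver.toBase n (base K)) inferInstance (by assumption) this
  exact geometricallyIntegral_of_smooth K (Aff K n).hom

/-- A morphism from affine space to an abelian variety is constant. -/
theorem aff_const (A : Over (base K)) [GrpObj A] [IsProper A.hom] [GeometricallyIntegral A.hom]
    (f : Aff K n ⟶ A) : f = toUnit _ ≫ zeroPt K n ≫ f := by
  let o : 𝟙_ (Over (base K)) ⟶ A1 K := zeroPt K 1
  let e : 𝟙_ (Over (base K)) ⟶ A1 K := aff fun _ ↦ 1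
  let z : 𝟙_ (Over (base K)) ⟶ Aff K n := zeroPt K n
  let m : A1 K ⊗ Aff K n ⟶ Aff K n :=
    aff fun i ↦ cdF (fst (A1 K) (Aff K n)) 0 * cdF (snd (A1 K) (Aff K n)) i
  have key : ∀ {T : Over (base K)} (a : T ⟶ A1 K) (b : T ⟶ Aff K n) (i : Fin n),
      cdF (lift a b ≫ m) i = cdF a 0 * cdF b i := fun a b i ↦ by
    rw [cdF_comp, cdF_aff, map_mul, ← cdF_comp, ← cdF_comp, lift_fst, lift_snd]
  have ho : ∀ {T : Over (base K)} (k : T ⟶ 𝟙_ _) (i : Fin 1), cdF (k ≫ o) i = 0 := fun k i ↦ by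
    rw [cdF_comp, show cdF o i = 0 from cdF_aff _ i]
    exact map_zero _
  have hz : ∀ {T : Over (base K)} (k : T ⟶ 𝟙_ _) (i : Fin n), cdF (k ≫ z) i = 0 := fun k i ↦ by
    rw [cdF_comp, show cdF z i = 0 from cdF_aff _ i]
    exact map_zero _
  have hl : lift (toUnit (Aff K n) ≫ o) (𝟙 _) ≫ m = toUnit _ ≫ z := hom_ext fun i ↦ by
    rw [key, ho, hz, zero_mul]
  have hr : lift (𝟙 _) (toUnit (A1 K) ≫ z) ≫ m = toUnit _ ≫ z := hom_ext fun i ↦ by
    rw [key, hz, mul_zero]
  have he : lift (toUnit (Aff K n) ≫ e) (𝟙 _) ≫ m = 𝟙 _ := hom_ext fun i ↦ by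
    rw [key, cdF_comp (toUnit (Aff K n)) e, cdF_aff, map_one, _root_.one_mul]
  let a := toUnit (Aff K n) ≫ z ≫ f
  have h0 : z ≫ (f * a⁻¹) = η := by
    rw [MonObj.comp_mul, GrpObj.comp_inv,
      show z ≫ a = z ≫ f by
        show z ≫ toUnit _ ≫ z ≫ f = z ≫ f
        rw [← Category.assoc, toUnit_unique (z ≫ toUnit _) (𝟙 _), Category.id_comp],
      mul_inv_cancel, Hom.one_def, toUnit_unique (toUnit _) (𝟙 _), Category.id_comp]
  exact mul_inv_eq_one.mp (eq_one_of_mul A (Aff K n) m o e z hl hr he (f * a⁻¹) h0)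

/-- A morphism from projective space to an abelian variety is
constant on points. -/
theorem projSpace_const (A : Over (base K)) [GrpObj A] [IsProper A.hom]
    [GeometricallyIntegral A.hom] (φ : Over.mk (CohB1.ProjSpaceOver.toBase n (base K)) ⟶ A)
    (x y : CohB1.ProjSpaceOver n (base K)) : φ.left x = φ.left y := by
  let jc : Fin (n + 1) → (Aff K n ⟶ Over.mk (CohB1.ProjSpaceOver.toBase n (base K))) := fun i ↦
    Over.homMk (Groth.Misc15.ProjPts.chart i K) (Groth.Misc15.ProjPts.chart_toBase i K)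
  let c : Fin (n + 1) → A.left := fun i ↦
    (zeroPt K n ≫ jc i ≫ φ).left (IsLocalRing.closedPoint K)
  have hc : ∀ i z, φ.left (Groth.Misc15.ProjPts.chart i K z) = c i := fun i z ↦ by
    have h := congr(($(aff_const A (jc i ≫ φ))).left z)
    refine Eq.trans ?_ (h.trans ?_)
    · exact (Scheme.Hom.comp_apply (Groth.Misc15.ProjPts.chart i K) φ.left z).symm
    · refine (Scheme.Hom.comp_apply (toUnit (Aff K n)).left (zeroPt K n ≫ jc i ≫ φ).left z).trans ?_
      exact congrArg _ (Subsingleton.elim (α := (base K : Scheme.{u})) _ _)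
  suffices h : ∀ x, φ.left x = c 0 by rw [h, h]
  intro x
  obtain ⟨i, z, rfl⟩ := Groth.Misc15.ProjPts.exists_chart_mem K x
  obtain ⟨_, ⟨a, rfl⟩, b, hb⟩ := Groth.Misc15.ProjPts.chart_inter K i (0 : Fin (n + 1))
  rw [hc, ← hc i a, ← hb, hc]

end Groth.GrpschAbsch.RationalToAbelian
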