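import Mathlib.RingTheory.Derivation.Basic
import Mathlib.RingTheory.PowerSeries.Derivative
import Mathlib.RingTheory.PowerSeries.NoZeroDivisors
import Mathlib.RingTheory.Nakayama
import Mathlib.RingTheory.Filtration
import Mathlib.RingTheory.Ideal.Cotangent
import Mathlib.Algebra.MvPolynomial.Funext
import Mathlib.RingTheory.MvPolynomial.Homogeneous
import Mathlib.LinearAlgebra.Dimension.Free
import Mathlib.RingTheory.Nilpotent.Basic

/-!
A Noetherian local algebra over a field of characteristic zero with a rational point and enough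
derivations is reduced (the algebraic core of Cartier's theorem).
-/

universe u

open IsLocalRing PowerSeries

namespace Groth.GrpschAbsch

variable {k A : Type u} [Field k] [CommRing A] [Algebra k A] [CharZero k]

section Taylor

variable (ε : A →ₐ[k] k) (D : Derivation k A A)

/-- The Taylor series of `a` along `D` at the point `ε`. -/
noncomputable def taylor (a : A) : k⟦X⟧ :=
  PowerSeries.mk fun m ↦ ε (D^[m] a) / (m.factorial : k)

omit [CharZero k] in
lemma coeff_taylor (a : A) (m : ℕ) :
    coeff m (taylor ε D a) = ε (D^[m] a) / (m.factorial : k) := coeff_mk _ _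

lemma derivative_taylor (a : A) : derivative k (taylor ε D a) = taylor ε D (D a) := by
  ext m
  rw [coeff_derivative, coeff_taylor, coeff_taylor, Function.iterate_succ_apply]
  have h1 : (m.factorial : k) ≠ 0 := Nat.cast_ne_zero.mpr m.factorial_ne_zero
  have h2 : ((m : k) + 1) ≠ 0 := Nat.cast_add_one_ne_zero m
  rw [Nat.factorial_succ]
  push_cast
  field_simp

omit [CharZero k] in
lemma taylor_add (a b : A) : taylor ε D (a + b) = taylor ε D a + taylor ε D b := by
  ext m
  simp [coeff_taylor, iterate_map_add, add_div]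

omit [CharZero k] in
lemma taylor_zero : taylor ε D 0 = 0 := by
  ext m
  simp [coeff_taylor, iterate_map_zero]

omit [CharZero k] in
lemma constantCoeff_taylor (a : A) : constantCoeff (taylor ε D a) = ε a := by
  rw [← coeff_zero_eq_constantCoeff_apply, coeff_taylor]
  simp

omit [CharZero k] in
lemma taylor_algebraMap (c : k) : taylor ε D (algebraMap k A c) = PowerSeries.C c := by
  ext (_ | m)
  · simp [coeff_taylor]
  · simp [coeff_taylor, Function.iterate_succ_apply, iterate_map_zero]

lemma taylor_mul (a b : A) : taylor ε D (a * b) = taylor ε D a * taylor ε D b := by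
  suffices h : ∀ m a b, coeff m (taylor ε D (a * b)) = coeff m (taylor ε D a * taylor ε D b) from
    PowerSeries.ext fun m ↦ h m a b
  intro m
  induction m with
  | zero =>
    intro a b
    simp [coeff_zero_eq_constantCoeff_apply, constantCoeff_taylor]
  | succ m ih =>
    intro a b
    have h2 : ((m : k) + 1) ≠ 0 := Nat.cast_add_one_ne_zero m
    apply mul_right_cancel₀ h2
    rw [← coeff_derivative, ← coeff_derivative, derivative_taylor, Derivation.leibniz,
      Derivation.leibniz, derivative_taylor, derivative_taylor]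
    simp only [smul_eq_mul, taylor_add, map_add, ih]

/-- The Taylor series as an algebra homomorphism. -/
noncomputable def taylorHom : A →ₐ[k] k⟦X⟧ where
  toFun := taylor ε D
  map_one' := by simpa using taylor_algebraMap ε D 1
  map_mul' := taylor_mul ε D
  map_zero' := taylor_zero ε D
  map_add' := taylor_add ε D
  commutes' := taylor_algebraMap ε D

end Taylor

variable [IsLocalRing A] (ε : A →ₐ[k] k)

omit [CharZero k] in
lemma sub_algebraMap_mem (hε : RingHom.ker ε.toRingHom = maximalIdeal A) (a : A) :
    a - algebraMap k A (ε a) ∈ maximalIdeal A := by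
  rw [← hε, RingHom.mem_ker]
  simp

omit [CharZero k] in
/-- Every element of `m ^ j` is a form of degree `j` in the generators modulo `m ^ (j + 1)`. -/
lemma exists_homogeneous {n : ℕ} (x : Fin n → A) (hx : Ideal.span (Set.range x) = maximalIdeal A)
    (hε : RingHom.ker ε.toRingHom = maximalIdeal A) (j : ℕ) :
    ∀ a ∈ maximalIdeal A ^ j, ∃ P : MvPolynomial (Fin n) k,
      P.IsHomogeneous j ∧ a - MvPolynomial.aeval x P ∈ maximalIdeal A ^ (j + 1) := by
  induction j with
  | zero =>
    intro a _
    refine ⟨MvPolynomial.C (ε a), MvPolynomial.isHomogeneous_C _ _, ?_⟩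
    simpa using sub_algebraMap_mem ε hε a
  | succ j ih =>
    intro a ha
    rw [pow_succ] at ha
    refine Submodule.mul_induction_on ha ?_ ?_
    · intro y hy z hz
      obtain ⟨P, hP, hPy⟩ := ih y hy
      rw [← hx, Ideal.mem_span_range_iff_exists_fun] at hz
      obtain ⟨c, rfl⟩ := hz
      refine ⟨P * ∑ i, MvPolynomial.C (ε (c i)) * MvPolynomial.X i,
        hP.mul (MvPolynomial.IsHomogeneous.sum _ _ _ fun i _ ↦
          MvPolynomial.isHomogeneous_C_mul_X _ _), ?_⟩
      have key : y * (∑ i, c i * x i) - MvPolynomial.aeval x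
          (P * ∑ i, MvPolynomial.C (ε (c i)) * MvPolynomial.X i) =
          (y - MvPolynomial.aeval x P) * (∑ i, c i * x i) +
            ∑ i, (MvPolynomial.aeval x P * x i) * (c i - algebraMap k A (ε (c i))) := by
        simp only [map_mul, map_sum, MvPolynomial.aeval_C, MvPolynomial.aeval_X, mul_sub,
          Finset.sum_sub_distrib, Finset.mul_sum, sub_mul, ← add_sub_assoc]
        have : ∀ i, MvPolynomial.aeval x P * x i * c i = MvPolynomial.aeval x P * (c i * x i) :=
          fun i ↦ by ring
        have h2 : ∀ i, MvPolynomial.aeval x P * x i * algebraMap k A (ε (c i)) =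
          MvPolynomial.aeval x P * (algebraMap k A (ε (c i)) * x i) := fun i ↦ by ring
        simp only [this, h2]
        ring
      rw [key]
      have hxm : ∀ i, x i ∈ maximalIdeal A := fun i ↦ hx ▸ Ideal.subset_span ⟨i, rfl⟩
      refine add_mem ?_ (sum_mem fun i _ ↦ ?_)
      · rw [pow_succ]
        exact Ideal.mul_mem_mul hPy (sum_mem fun i _ ↦ Ideal.mul_mem_left _ _ (hxm i))
      · have h0 : MvPolynomial.aeval x P ∈ maximalIdeal A ^ j := by
          have := sub_mem hy (Ideal.pow_le_pow_right (Nat.le_succ j) hPy)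
          simpa using this
        rw [pow_succ, pow_succ]
        exact Ideal.mul_mem_mul (Ideal.mul_mem_mul h0 (hxm i)) (sub_algebraMap_mem ε hε _)
    · rintro y z ⟨P, hP, hPy⟩ ⟨Q, hQ, hQz⟩
      refine ⟨P + Q, hP.add hQ, ?_⟩
      rw [map_add, add_sub_add_comm]
      exact add_mem hPy hQz

/-- Cartier: enough derivations and characteristic zero imply reducedness. -/
theorem isReduced_of_derivations [IsNoetherianRing A]
    (hε : RingHom.ker ε.toRingHom = maximalIdeal A)
    (hD : ∀ v : A →ₗ[k] k, (∀ a b, v (a * b) = ε a * v b + ε b * v a) →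
      ∃ D : Derivation k A A, ∀ a, ε (D a) = v a) : IsReduced A := by
  classical
  set m := maximalIdeal A
  have hmk : ∀ (a : A) (z : m.Cotangent), a • z = ε a • z := by
    intro a z
    obtain ⟨z, rfl⟩ := Ideal.toCotangent_surjective m z
    rw [← algebraMap_smul (R := k) A (ε a), ← sub_eq_zero, ← sub_smul, ← map_smul,
      Ideal.toCotangent_eq_zero, sq]
    exact Ideal.mul_mem_mul (sub_algebraMap_mem ε hε a) z.2
  have : Module.Finite k m.Cotangent := by
    have : Module.Finite A m := Module.Finite.iff_fg.mpr (IsNoetherian.noetherian m)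
    have : Module.Finite A m.Cotangent :=
      Module.Finite.of_surjective m.toCotangent m.toCotangent_surjective
    obtain ⟨S, hS⟩ := Module.Finite.fg_top (R := A) (M := m.Cotangent)
    refine ⟨⟨S, ?_⟩⟩
    rw [eq_top_iff]
    rintro z -
    have hz : z ∈ Submodule.span A (S : Set m.Cotangent) := hS ▸ Submodule.mem_top
    induction hz using Submodule.span_induction with
    | mem z hz => exact Submodule.subset_span hz
    | zero => exact zero_mem _
    | add _ _ _ _ hu hv => exact add_mem hu hv
    | smul a z _ hz => rw [hmk]; exact Submodule.smul_mem _ _ hz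
  let b := Module.finBasis k m.Cotangent
  choose y hy using fun i ↦ Ideal.toCotangent_surjective m (b i)
  let x : Fin (Module.finrank k m.Cotangent) → A := fun i ↦ (y i : A)
  have hx : Ideal.span (Set.range x) = m := by
    refine le_antisymm (Ideal.span_le.mpr (by rintro _ ⟨i, rfl⟩; exact (y i).2)) ?_
    refine Submodule.le_of_le_smul_of_le_jacobson_bot (I := m) (IsNoetherian.noetherian _)
      (maximalIdeal_le_jacobson _) fun z hz ↦ ?_
    have h0 : m.toCotangent ⟨z, hz⟩ =
        m.toCotangent (∑ i, algebraMap k A (b.repr (m.toCotangent ⟨z, hz⟩) i) • y i) := by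
      rw [map_sum]
      refine (b.sum_repr _).symm.trans (Finset.sum_congr rfl fun i _ ↦ ?_)
      rw [LinearMap.map_smul m.toCotangent, hy, algebraMap_smul]
    rw [Ideal.toCotangent_eq] at h0
    have h1 : z - ∑ i, algebraMap k A (b.repr (m.toCotangent ⟨z, hz⟩) i) * x i ∈ m ^ 2 := by
      simpa only [AddSubmonoidClass.coe_finsetSum, SetLike.val_smul, smul_eq_mul, x] using h0
    rw [← sub_add_cancel z (∑ i, algebraMap k A (b.repr (m.toCotangent ⟨z, hz⟩) i) * x i)]
    refine add_mem (Submodule.mem_sup_right ?_) (Submodule.mem_sup_left ?_)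
    · rw [smul_eq_mul, ← sq]; exact h1
    · exact sum_mem fun i _ ↦ Ideal.mul_mem_left _ _ (Ideal.subset_span ⟨i, rfl⟩)
  refine ⟨fun a ha ↦ ?_⟩
  by_contra ha0
  obtain ⟨j, hj, hj'⟩ : ∃ j, a ∈ m ^ j ∧ a ∉ m ^ (j + 1) := by
    by_contra hall
    push Not at hall
    have : ∀ j, a ∈ m ^ j := fun j ↦ by
      induction j with
      | zero => simp
      | succ j ih => exact hall j ih
    refine ha0 ?_
    have h2 : a ∈ ⨅ j, m ^ j := by simpa [Submodule.mem_iInf] using this
    rwa [Ideal.iInf_pow_eq_bot_of_isLocalRing _ (maximalIdeal.isMaximal A).ne_top] at h2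
  obtain ⟨P, hP, hPa⟩ := exists_homogeneous ε x hx hε j a hj
  have hP0 : P ≠ 0 := by
    rintro rfl
    exact hj' (by simpa using hPa)
  have : Infinite k := Infinite.of_injective (Nat.cast : ℕ → k) Nat.cast_injective
  obtain ⟨c, hc⟩ : ∃ c, MvPolynomial.eval c P ≠ 0 := by
    by_contra hc
    push Not at hc
    exact hP0 (MvPolynomial.funext fun c ↦ by simp [hc c])
  -- the tangent vector with coordinates `c`
  let pm : A →ₗ[k] m := LinearMap.codRestrict (m.restrictScalars k)
    (LinearMap.id - (Algebra.linearMap k A).comp ε.toLinearMap) (fun a ↦ sub_algebraMap_mem ε hε a)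
  have hpm0 : ∀ a, (pm a : A) = a - algebraMap k A (ε a) := fun a ↦ rfl
  let v : A →ₗ[k] k := (b.constr k c).comp ((m.toCotangent.restrictScalars k).comp pm)
  have hv : ∀ a b, v (a * b) = ε a * v b + ε b * v a := fun a b' ↦ by
    have h0 : m.toCotangent (pm (a * b')) =
        ε a • m.toCotangent (pm b') + ε b' • m.toCotangent (pm a) := by
      rw [← hmk, ← hmk, ← LinearMap.map_smul m.toCotangent, ← LinearMap.map_smul m.toCotangent,
        ← LinearMap.map_add m.toCotangent, Ideal.toCotangent_eq, sq]
      have he : ((pm (a * b') : A) - ((a • pm b' + b' • pm a : m) : A)) =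
          - ((pm a : A) * (pm b' : A)) := by
        simp only [Submodule.coe_add, SetLike.val_smul, smul_eq_mul, hpm0, map_mul]
        ring
      rw [he]
      exact neg_mem (Ideal.mul_mem_mul (pm a).2 (pm b').2)
    simp only [v, LinearMap.comp_apply, LinearMap.restrictScalars_apply, h0, map_add, map_smul,
      smul_eq_mul]
  obtain ⟨D, hDv⟩ := hD v hv
  let ψ := taylorHom ε D
  have hψm : ∀ z ∈ m, (X : k⟦X⟧) ∣ ψ z := fun z hz ↦ by
    rw [X_dvd_iff]
    show constantCoeff (taylor ε D z) = 0
    rw [constantCoeff_taylor]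
    rw [← hε] at hz
    exact hz
  have hψpow : ∀ l, ∀ z ∈ m ^ l, (X : k⟦X⟧) ^ l ∣ ψ z := by
    intro l z hz
    have hmap : Ideal.map ψ.toRingHom (m ^ l) ≤ Ideal.span {(X : k⟦X⟧) ^ l} := by
      rw [Ideal.map_pow, ← Ideal.span_singleton_pow]
      refine Ideal.pow_right_mono (Ideal.map_le_iff_le_comap.mpr fun w hw ↦ ?_) l
      exact Ideal.mem_span_singleton.mpr (hψm w hw)
    exact Ideal.mem_span_singleton.mp (hmap (Ideal.mem_map_of_mem _ hz))
  have hψa : ψ a = 0 := (ha.map ψ).eq_zero
  choose u hu using fun i ↦ hψm (x i) (y i).2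
  have hu0 : ∀ i, constantCoeff (u i) = c i := fun i ↦ by
    have h1 : coeff 1 (ψ (x i)) = c i := by
      show coeff 1 (taylor ε D (x i)) = c i
      have hεx : ε (x i) = 0 := by
        have h2 : x i ∈ RingHom.ker ε.toRingHom := hε.symm ▸ (y i).2
        exact h2
      have hpm : pm (x i) = y i := Subtype.ext (by rw [hpm0, hεx, map_zero, sub_zero])
      simp [coeff_taylor, hDv, v, hpm, hy]
    rw [hu i, coeff_succ_X_mul, coeff_zero_eq_constantCoeff_apply] at h1
    exact h1
  have hPx : ψ (MvPolynomial.aeval x P) = X ^ j * MvPolynomial.aeval u P := by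
    rw [← AlgHom.comp_apply, MvPolynomial.comp_aeval]
    have : (fun i ↦ ψ (x i)) = fun i ↦ (X : k⟦X⟧) * u i := funext hu
    rw [this]
    simp only [MvPolynomial.aeval_def, MvPolynomial.eval₂_eq', Finset.mul_sum]
    refine Finset.sum_congr rfl fun d hd ↦ ?_
    have hdeg : ∑ i, d i = j := by
      have := hP (MvPolynomial.mem_support_iff.mp hd)
      rw [Finsupp.weight_apply, Finsupp.sum_fintype _ _ (by simp)] at this
      simpa using this
    simp only [mul_pow, Finset.prod_mul_distrib, Finset.prod_pow_eq_pow_sum, hdeg]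
    ring
  have hdiv : (X : k⟦X⟧) ^ (j + 1) ∣ X ^ j * MvPolynomial.aeval u P := by
    have := hψpow _ _ hPa
    rw [map_sub, hψa, zero_sub, dvd_neg, hPx] at this
    exact this
  rw [pow_succ, mul_dvd_mul_iff_left (pow_ne_zero _ X_ne_zero), X_dvd_iff] at hdiv
  apply hc
  have hcc : constantCoeff (MvPolynomial.aeval u P) = MvPolynomial.eval c P := by
    have hfun : (fun i ↦ constantCoeff (u i)) = c := funext hu0
    rw [MvPolynomial.aeval_def, MvPolynomial.eval₂_comp_left, MvPolynomial.eval, MvPolynomial.coe_eval₂Hom]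
    congr 1
  rwa [hcc] at hdiv

end Groth.GrpschAbsch
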