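import Mathlib.Algebra.MvPolynomial.Coeff
import Mathlib.Algebra.MvPolynomial.CommRing
import Mathlib.Algebra.Polynomial.Expand
import Mathlib.Algebra.CharP.Lemmas
import Mathlib.Algebra.CharP.Invertible
import Mathlib.Data.Nat.Prime.Factorial
import Mathlib.RingTheory.MvPolynomial.Basic
import Mathlib.Data.Nat.Choose.Lucas
import Mathlib.RingTheory.PowerSeries.Substitution
import Mathlib.RingTheory.PowerSeries.Trunc
import Mathlib.RingTheory.PowerSeries.Exp
import Mathlib.Algebra.Algebra.Rat
import Mathlib.Tactic.Ring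
import Mathlib.Tactic.LinearCombination

/-!
Characters of the additive group in coordinates: coefficient sequences with
`C(i+j, i) c (i+j) = c i * c j`.
-/

universe u

namespace Groth.GrpschAbsch.Char

variable {A : Type u} [CommRing A]

/-- The exponent `(i, j)`. -/
noncomputable def pair (i j : ℕ) : Fin 2 →₀ ℕ := Finsupp.single 0 i + Finsupp.single 1 j

@[simp] lemma pair_zero (i j : ℕ) : pair i j 0 = i := by simp [pair]
@[simp] lemma pair_one (i j : ℕ) : pair i j 1 = j := by simp [pair]

lemma eq_pair (d : Fin 2 →₀ ℕ) : d = pair (d 0) (d 1) := by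
  ext x; fin_cases x <;> simp [pair]

lemma pair_inj {i j k l : ℕ} : pair i j = pair k l ↔ i = k ∧ j = l := by
  constructor
  · intro h
    exact ⟨by simpa using congr($h 0), by simpa using congr($h 1)⟩
  · rintro ⟨rfl, rfl⟩; rfl

/-- The coefficient condition for a character at `(i, j)`. -/
def CharCond (c : ℕ → A) (i j : ℕ) : Prop := ((i + j).choose i : A) * c (i + j) = c i * c j

section Poly

open MvPolynomial

lemma coeff_aeval_add (f : Polynomial A) (i j : ℕ) :
    MvPolynomial.coeff (pair i j) (Polynomial.aeval (X 0 + X 1 : MvPolynomial (Fin 2) A) f) =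
      ((i + j).choose i : A) * f.coeff (i + j) := by
  induction f using Polynomial.induction_on' with
  | add f g hf hg => rw [map_add, coeff_add, hf, hg, Polynomial.coeff_add, mul_add]
  | monomial n a =>
    rw [Polynomial.aeval_monomial, algebraMap_eq, coeff_C_mul, coeff_add_pow,
      Polynomial.coeff_monomial]
    simp only [pair_zero, pair_one, Finset.mem_antidiagonal]
    by_cases h : i + j = n
    · subst h; simp [mul_comm]
    · simp [h, Ne.symm h]

lemma coeff_aeval_mul (f g : Polynomial A) (i j : ℕ) :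
    MvPolynomial.coeff (pair i j) (Polynomial.aeval (X 0 : MvPolynomial (Fin 2) A) f *
        Polynomial.aeval (X 1 : MvPolynomial (Fin 2) A) g) = f.coeff i * g.coeff j := by
  induction f using Polynomial.induction_on' with
  | add f₁ f₂ hf₁ hf₂ => rw [map_add, add_mul, coeff_add, hf₁, hf₂, Polynomial.coeff_add, add_mul]
  | monomial n a =>
    induction g using Polynomial.induction_on' with
    | add g₁ g₂ hg₁ hg₂ => rw [map_add, mul_add, coeff_add, hg₁, hg₂, Polynomial.coeff_add, mul_add]
    | monomial m b =>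
      rw [Polynomial.aeval_monomial, Polynomial.aeval_monomial, algebraMap_eq, X_pow_eq_monomial,
        X_pow_eq_monomial, C_mul_monomial, C_mul_monomial, monomial_mul, coeff_monomial,
        Polynomial.coeff_monomial, Polynomial.coeff_monomial]
      have : (Finsupp.single 0 n + Finsupp.single 1 m : Fin 2 →₀ ℕ) = pair n m := rfl
      rw [this]
      by_cases h1 : n = i <;> by_cases h2 : m = j <;> simp [pair_inj, h1, h2]

lemma coeff_aeval_X_zero (f : Polynomial A) (i j : ℕ) :
    MvPolynomial.coeff (pair i j) (Polynomial.aeval (X 0 : MvPolynomial (Fin 2) A) f) =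
      if j = 0 then f.coeff i else 0 := by
  have := coeff_aeval_mul f 1 i j
  simpa [Polynomial.coeff_one] using this

lemma coeff_aeval_X_one (f : Polynomial A) (i j : ℕ) :
    MvPolynomial.coeff (pair i j) (Polynomial.aeval (X 1 : MvPolynomial (Fin 2) A) f) =
      if i = 0 then f.coeff j else 0 := by
  have := coeff_aeval_mul 1 f i j
  simpa [Polynomial.coeff_one] using this

lemma coeff_eq_zero_of_mem_span {N : ℕ} {q : MvPolynomial (Fin 2) A}
    (hq : q ∈ Ideal.span ({X 0 ^ N, X 1 ^ N} : Set (MvPolynomial (Fin 2) A)))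
    {i j : ℕ} (hi : i < N) (hj : j < N) : q.coeff (pair i j) = 0 := by
  obtain ⟨r, s, rfl⟩ := Ideal.mem_span_pair.mp hq
  rw [coeff_add, X_pow_eq_monomial, X_pow_eq_monomial, coeff_mul_monomial', coeff_mul_monomial']
  have h0 : ¬ Finsupp.single (0 : Fin 2) N ≤ pair i j := fun h ↦ by
    have := h 0; simp at this; omega
  have h1 : ¬ Finsupp.single (1 : Fin 2) N ≤ pair i j := fun h ↦ by
    have := h 1; simp at this; omega
  simp [h0, h1]

/-- A polynomial turning sums into products. -/
def IsMul (f : Polynomial A) : Prop :=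
  Polynomial.aeval (X 0 + X 1 : MvPolynomial (Fin 2) A) f =
    Polynomial.aeval (X 0 : MvPolynomial (Fin 2) A) f *
      Polynomial.aeval (X 1 : MvPolynomial (Fin 2) A) f

lemma isMul_iff (f : Polynomial A) : IsMul f ↔ ∀ i j, CharCond f.coeff i j := by
  constructor
  · intro h i j
    have := congrArg (MvPolynomial.coeff (pair i j)) h
    rwa [coeff_aeval_add, coeff_aeval_mul] at this
  · intro h
    refine MvPolynomial.ext _ _ fun d ↦ ?_
    rw [eq_pair d, coeff_aeval_add, coeff_aeval_mul]
    exact h _ _

lemma IsMul.aeval_add {f : Polynomial A} (h : IsMul f) {B : Type*} [CommRing B] [Algebra A B]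
    (u v : B) : Polynomial.aeval (u + v) f = Polynomial.aeval u f * Polynomial.aeval v f := by
  have := congrArg (MvPolynomial.aeval (R := A) ![u, v]) h
  simpa [← Polynomial.aeval_algHom_apply] using this

lemma IsMul.one : IsMul (1 : Polynomial A) := by simp [IsMul]

lemma IsMul.mul {f g : Polynomial A} (hf : IsMul f) (hg : IsMul g) : IsMul (f * g) := by
  unfold IsMul at *
  rw [map_mul, map_mul, map_mul, hf, hg]; ring

lemma IsMul.prod {ι : Type*} (s : Finset ι) (f : ι → Polynomial A) (h : ∀ i ∈ s, IsMul (f i)) :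
    IsMul (∏ i ∈ s, f i) :=
  Finset.prod_induction f IsMul (fun _ _ ↦ IsMul.mul) IsMul.one h

end Poly

section Series

open MvPowerSeries

lemma coeff_subst_add (χ : PowerSeries A) (i j : ℕ) :
    coeff (pair i j) (PowerSeries.subst (X 0 + X 1 : MvPowerSeries (Fin 2) A) χ) =
      ((i + j).choose i : A) * PowerSeries.coeff (i + j) χ := by
  rw [PowerSeries.coeff_subst (PowerSeries.HasSubst.of_constantCoeff_zero (by simp)),
    finsum_eq_single _ (i + j)]
  · have h : (X 0 + X 1 : MvPowerSeries (Fin 2) A) =
        ((MvPolynomial.X 0 + MvPolynomial.X 1 : MvPolynomial (Fin 2) A) :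
          MvPowerSeries (Fin 2) A) := by simp
    rw [h, ← MvPolynomial.coe_pow, MvPolynomial.coeff_coe, MvPolynomial.coeff_add_pow]
    simp [mul_comm]
  · intro n hn
    have h : (X 0 + X 1 : MvPowerSeries (Fin 2) A) =
        ((MvPolynomial.X 0 + MvPolynomial.X 1 : MvPolynomial (Fin 2) A) :
          MvPowerSeries (Fin 2) A) := by simp
    rw [h, ← MvPolynomial.coe_pow, MvPolynomial.coeff_coe, MvPolynomial.coeff_add_pow]
    simp [Ne.symm hn]

lemma coeff_subst_X (χ : PowerSeries A) (s : Fin 2) (d : Fin 2 →₀ ℕ) :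
    coeff d (PowerSeries.subst (X s : MvPowerSeries (Fin 2) A) χ) =
      if d = Finsupp.single s (d s) then PowerSeries.coeff (d s) χ else 0 := by
  rw [PowerSeries.coeff_subst (PowerSeries.HasSubst.X s), finsum_eq_single _ (d s)]
  · rw [coeff_X_pow]; split_ifs <;> simp
  · intro n hn
    rw [coeff_X_pow, if_neg, smul_zero]
    rintro rfl
    simp at hn

lemma coeff_subst_mul (χ ψ : PowerSeries A) (i j : ℕ) :
    coeff (pair i j) (PowerSeries.subst (X 0 : MvPowerSeries (Fin 2) A) χ *
        PowerSeries.subst (X 1 : MvPowerSeries (Fin 2) A) ψ) =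
      PowerSeries.coeff i χ * PowerSeries.coeff j ψ := by
  classical
  rw [coeff_mul, Finset.sum_eq_single (pair i 0, pair 0 j)]
  · rw [coeff_subst_X, coeff_subst_X, pair_zero, pair_one, if_pos (by simp [pair]),
      if_pos (by simp [pair])]
  · rintro ⟨d, e⟩ hde hne
    rw [Finset.mem_antidiagonal] at hde
    rw [coeff_subst_X, coeff_subst_X]
    by_cases hd : d = Finsupp.single 0 (d 0)
    · by_cases he : e = Finsupp.single 1 (e 1)
      · refine absurd ?_ hne
        have h0 := congr($hde 0)
        have h1 := congr($hde 1)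
        rw [hd, he] at h0 h1
        simp at h0 h1
        rw [hd, he, h0, h1]
        simp [pair]
      · simp [he]
    · simp [hd]
  · intro h
    exact absurd (Finset.mem_antidiagonal.mpr (by simp [pair])) h

/-- A power series turning sums into products. -/
lemma series_isMul_iff (χ : PowerSeries A) :
    (PowerSeries.subst (X 0 + X 1 : MvPowerSeries (Fin 2) A) χ =
      PowerSeries.subst (X 0 : MvPowerSeries (Fin 2) A) χ *
        PowerSeries.subst (X 1 : MvPowerSeries (Fin 2) A) χ) ↔
      ∀ i j, CharCond (fun n ↦ PowerSeries.coeff n χ) i j := by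
  constructor
  · intro h i j
    have := congrArg (coeff (pair i j)) h
    rwa [coeff_subst_add, coeff_subst_mul] at this
  · intro h
    refine MvPowerSeries.ext fun d ↦ ?_
    rw [eq_pair d, coeff_subst_add, coeff_subst_mul]
    exact h _ _

end Series

section Rat

variable [Algebra ℚ A]

lemma isUnit_natCast {n : ℕ} (hn : n ≠ 0) : IsUnit (n : A) := by
  rw [← map_natCast (algebraMap ℚ A)]
  exact (isUnit_iff_ne_zero.mpr (by exact_mod_cast hn)).map _

lemma factorial_mul_eq_pow {c : ℕ → A} (h0 : c 0 = 1) (hc : ∀ j, CharCond c 1 j) (n : ℕ) :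
    (n.factorial : A) * c n = c 1 ^ n := by
  induction n with
  | zero => simp [h0]
  | succ n ih =>
    have := hc n
    rw [CharCond, add_comm 1 n, Nat.choose_one_right] at this
    rw [pow_succ, ← ih, Nat.factorial_succ, Nat.cast_mul]
    linear_combination (n.factorial : A) * this

lemma factorial_mul_coeff_rescale_exp (a : A) (n : ℕ) :
    (n.factorial : A) * PowerSeries.coeff n (PowerSeries.rescale a (PowerSeries.exp A)) = a ^ n := by
  rw [PowerSeries.coeff_rescale, PowerSeries.coeff_exp, ← map_natCast (algebraMap ℚ A),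
    mul_left_comm, ← map_mul, mul_one_div_cancel (by exact_mod_cast n.factorial_ne_zero), map_one,
    mul_one]

lemma eq_rescale_exp_of_factorial_mul {χ : PowerSeries A} {a : A}
    (h : ∀ n, (n.factorial : A) * PowerSeries.coeff n χ = a ^ n) :
    χ = PowerSeries.rescale a (PowerSeries.exp A) :=
  PowerSeries.ext fun n ↦ (isUnit_natCast n.factorial_ne_zero).mul_left_cancel
    ((h n).trans (factorial_mul_coeff_rescale_exp a n).symm)

lemma charCond_of_factorial_mul_eq_pow {c : ℕ → A} {a : A}
    (hc : ∀ n, (n.factorial : A) * c n = a ^ n) (i j : ℕ) : CharCond c i j := by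
  refine (isUnit_natCast (mul_ne_zero i.factorial_ne_zero j.factorial_ne_zero)).mul_left_cancel ?_
  have h := congrArg (Nat.cast (R := A))
    (Nat.choose_mul_factorial_mul_factorial (Nat.le_add_right i j))
  rw [Nat.add_sub_cancel_left] at h
  push_cast at h ⊢
  linear_combination c (i + j) * h + hc (i + j) - (j.factorial : A) * c j * hc i - a ^ i * hc j
    + pow_add a i j

end Rat

section CharP

variable (p : ℕ) [hp : Fact p.Prime] [CharP A p]

lemma natCast_eq_of_modEq {m n : ℕ} (h : (m : ℤ) ≡ n [ZMOD p]) : (m : A) = n := by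
  have := congrArg (ZMod.castHom (dvd_refl p) A) ((ZMod.intCast_eq_intCast_iff _ _ _).mpr h)
  simpa using this

lemma choose_add_mul_pow {r m : ℕ} (q : ℕ) (hr : r < p ^ m) :
    ((r + q * p ^ m).choose r : A) = 1 := by
  rw [← Nat.cast_one]
  refine natCast_eq_of_modEq p ((Choose.choose_modEq_choose_mul_prod_range_choose m).trans ?_)
  rw [Nat.div_eq_of_lt hr, Nat.choose_zero_right, Nat.cast_one, one_mul]
  rw [Finset.prod_eq_one]
  · rfl
  · intro i hi
    rw [Finset.mem_range] at hi
    have : (r + q * p ^ m) / p ^ i % p = r / p ^ i % p := by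
      have e : q * p ^ m = (q * p ^ (m - i - 1) * p) * p ^ i := by
        rw [mul_assoc, mul_assoc, ← pow_succ', ← pow_add]
        congr 2; omega
      rw [e, Nat.add_mul_div_right _ _ (pow_pos hp.out.pos i), Nat.add_mul_mod_self_right]
    rw [this, Nat.choose_self]

lemma choose_succ_mul_pow (q m : ℕ) :
    ((((q + 1) * p ^ m)).choose (p ^ m) : A) = (q + 1 : ℕ) := by
  refine natCast_eq_of_modEq p ((Choose.choose_modEq_choose_mul_prod_range_choose m).trans ?_)
  rw [Nat.mul_div_cancel _ (pow_pos hp.out.pos m), Nat.div_self (pow_pos hp.out.pos m),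
    Nat.choose_one_right]
  rw [Finset.prod_eq_one]
  · simp [Int.ModEq.refl]
  · intro i hi
    rw [Finset.mem_range] at hi
    have : ∀ t : ℕ, t * p ^ m / p ^ i % p = 0 := fun t ↦ by
      have e : t * p ^ m = (t * p ^ (m - i - 1) * p) * p ^ i := by
        rw [mul_assoc, mul_assoc, ← pow_succ', ← pow_add]
        congr 2; omega
      rw [e, Nat.mul_div_cancel _ (pow_pos hp.out.pos i), Nat.mul_mod_left]
    rw [this (q + 1), show p ^ m = 1 * p ^ m from (one_mul _).symm, this 1]
    simp

lemma isUnit_natCast_of_lt {n : ℕ} (h0 : n ≠ 0) (hn : n < p) : IsUnit (n : A) :=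
  (CharP.isUnit_natCast_iff hp.out).mpr fun h ↦
    absurd (Nat.le_of_dvd (Nat.pos_of_ne_zero h0) h) (by omega)

lemma isUnit_factorial {n : ℕ} (hn : n < p) : IsUnit (n.factorial : A) :=
  (CharP.isUnit_natCast_iff hp.out).mpr fun h ↦ by
    have := (Nat.Prime.dvd_factorial hp.out).mp h; omega

/-- The truncated exponential `exp_p (a X^(p^k))`. -/
noncomputable def expTerm (a : A) (k : ℕ) : Polynomial A :=
  ∑ j ∈ Finset.range p,
    Polynomial.C (Ring.inverse (j.factorial : A) * a ^ j) * Polynomial.X ^ (j * p ^ k)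

lemma coeff_expTerm_zero (a : A) (n : ℕ) :
    (expTerm p a 0).coeff n = if n < p then Ring.inverse (n.factorial : A) * a ^ n else 0 := by
  simp only [expTerm, pow_zero, mul_one, Polynomial.finsetSum_coeff, Polynomial.coeff_C_mul,
    Polynomial.coeff_X_pow, mul_ite, mul_one, mul_zero, Finset.sum_ite_eq, Finset.mem_range]

lemma expTerm_eq_expand (a : A) (k : ℕ) :
    expTerm p a k = Polynomial.expand A (p ^ k) (expTerm p a 0) := by
  simp [expTerm, map_sum, ← pow_mul, mul_comm]

lemma isMul_expTerm_zero {a : A} (ha : a ^ p = 0) : IsMul (expTerm p a 0) := by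
  rw [isMul_iff]
  intro i j
  rw [CharCond, coeff_expTerm_zero, coeff_expTerm_zero, coeff_expTerm_zero]
  by_cases h : i + j < p
  · have hi : i < p := by omega
    have hj : j < p := by omega
    rw [if_pos h, if_pos hi, if_pos hj]
    have hu := isUnit_factorial (A := A) p h
    have hui := isUnit_factorial (A := A) p hi
    have huj := isUnit_factorial (A := A) p hj
    refine (hui.mul huj).mul_left_cancel ?_
    have e := congrArg (Nat.cast (R := A))
      (Nat.choose_mul_factorial_mul_factorial (Nat.le_add_right i j))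
    rw [Nat.add_sub_cancel_left] at e
    push_cast at e
    linear_combination Ring.inverse ((i + j).factorial : A) * a ^ (i + j) * e
      + a ^ (i + j) * Ring.mul_inverse_cancel _ hu
      - a ^ i * a ^ j * (j.factorial : A) * Ring.inverse (j.factorial : A)
          * Ring.mul_inverse_cancel _ hui
      - a ^ i * a ^ j * Ring.mul_inverse_cancel _ huj + pow_add a i j
  · rw [if_neg h, mul_zero]
    split_ifs
    · have : a ^ i * a ^ j = 0 := by
        rw [← pow_add, show i + j = p + (i + j - p) by omega, pow_add, ha, zero_mul]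
      linear_combination -Ring.inverse (i.factorial : A) * Ring.inverse (j.factorial : A) * this
    all_goals ring

lemma isMul_expTerm {a : A} (ha : a ^ p = 0) (k : ℕ) : IsMul (expTerm p a k) := by
  have h := isMul_expTerm_zero p ha
  have e : (MvPolynomial.X 0 + MvPolynomial.X 1 : MvPolynomial (Fin 2) A) ^ p ^ k =
      MvPolynomial.X 0 ^ p ^ k + MvPolynomial.X 1 ^ p ^ k := add_pow_char_pow ..
  unfold IsMul
  rw [expTerm_eq_expand, Polynomial.expand_aeval, Polynomial.expand_aeval, Polynomial.expand_aeval,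
    e, h.aeval_add]

lemma coeff_zero_prod_expTerm (a : ℕ → A) (m : ℕ) :
    (∏ k ∈ Finset.range m, expTerm p (a k) k).coeff 0 = 1 := by
  rw [Polynomial.coeff_zero_prod, Finset.prod_eq_one]
  intro k _
  rw [expTerm, Polynomial.finsetSum_coeff, Finset.sum_eq_single 0]
  · simp
  · intro j _ hj
    simp [Polynomial.coeff_X_pow, hp.out.ne_zero, hj]
  · intro h; exact absurd (Finset.mem_range.mpr hp.out.pos) h

lemma coeff_mul_expTerm {P : Polynomial A} {k : ℕ} (hP : ∀ n, p ^ k ≤ n → P.coeff n = 0)
    (a : A) (n : ℕ) :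
    (P * expTerm p a k).coeff n =
      if n < p ^ (k + 1) then
        P.coeff (n % p ^ k) * (Ring.inverse ((n / p ^ k).factorial : A) * a ^ (n / p ^ k))
      else 0 := by
  have hpk : 0 < p ^ k := pow_pos hp.out.pos k
  rw [expTerm, Finset.mul_sum, Polynomial.finsetSum_coeff]
  have key : ∀ j, j ≠ n / p ^ k → (P * (Polynomial.C (Ring.inverse (j.factorial : A) * a ^ j) *
      Polynomial.X ^ (j * p ^ k))).coeff n = 0 := by
    intro j hj
    rw [← mul_assoc, Polynomial.coeff_mul_X_pow']
    split_ifs with h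
    · rw [Polynomial.coeff_mul_C, hP, zero_mul]
      have h' : j ≤ n / p ^ k := (Nat.le_div_iff_mul_le hpk).mpr h
      have := Nat.div_mul_le_self n (p ^ k)
      have : (j + 1) * p ^ k ≤ n / p ^ k * p ^ k := by gcongr; omega
      rw [add_mul, one_mul] at this
      omega
    · rfl
  split_ifs with hn
  · rw [Finset.sum_eq_single (n / p ^ k) (fun j _ hj ↦ key j hj)]
    · rw [← mul_assoc, Polynomial.coeff_mul_X_pow', if_pos (Nat.div_mul_le_self _ _),
        Polynomial.coeff_mul_C, mul_comm (n / p ^ k) (p ^ k)]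
      have := Nat.mod_add_div n (p ^ k)
      rw [show n - p ^ k * (n / p ^ k) = n % p ^ k from Nat.sub_eq_of_eq_add this.symm]
    · intro h
      exact absurd (Finset.mem_range.mpr
        ((Nat.div_lt_iff_lt_mul hpk).mpr (by rwa [← pow_succ']))) h
  · refine Finset.sum_eq_zero fun j hj ↦ key j fun h ↦ ?_
    rw [Finset.mem_range] at hj
    subst h
    rw [Nat.div_lt_iff_lt_mul hpk, ← pow_succ'] at hj
    exact hn hj

lemma coeff_prod_expTerm_eq_zero (a : ℕ → A) (m n : ℕ) (hn : p ^ m ≤ n) :
    (∏ k ∈ Finset.range m, expTerm p (a k) k).coeff n = 0 := by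
  induction m generalizing n with
  | zero => rw [pow_zero] at hn; simp [Polynomial.coeff_one]; omega
  | succ m ih =>
    rw [Finset.prod_range_succ, coeff_mul_expTerm p ih, if_neg (by omega)]


/-- The inductive step: the values at the multiples of `p ^ l`. -/
lemma factorial_mul_pow {c : ℕ → A} (h0 : c 0 = 1) {l q : ℕ} (hq : q < p)
    (hc : ∀ j, j + 1 < p → CharCond c (p ^ l) (j * p ^ l)) :
    (q.factorial : A) * c (q * p ^ l) = c (p ^ l) ^ q := by
  induction q with
  | zero => simp [h0]
  | succ q ih =>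
    have := hc q hq
    rw [CharCond, show p ^ l + q * p ^ l = (q + 1) * p ^ l by ring, choose_succ_mul_pow p] at this
    rw [Nat.factorial_succ, Nat.cast_mul, pow_succ, ← ih (by omega)]
    linear_combination (q.factorial : A) * this

/-- A multiplicative sequence below `p ^ m` is given by a product of truncated exponentials. -/
lemma eq_prod_of_charCond {c : ℕ → A} (h0 : c 0 = 1) (m : ℕ)
    (hc : ∀ i j, i < p ^ m → j < p ^ m → CharCond c i j) :
    (∀ k < m, c (p ^ k) ^ p = 0) ∧
      ∀ n < p ^ m, c n = (∏ k ∈ Finset.range m, expTerm p (c (p ^ k)) k).coeff n := by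
  have hlt : ∀ {k}, k < m → ∀ {j}, j < p → j * p ^ k < p ^ m := fun {k} hk {j} hj ↦
    calc j * p ^ k < p * p ^ k := Nat.mul_lt_mul_of_pos_right hj (pow_pos hp.out.pos k)
      _ = p ^ (k + 1) := (pow_succ' p k).symm
      _ ≤ p ^ m := Nat.pow_le_pow_right hp.out.pos hk
  have hk' : ∀ {k}, k < m → p ^ k < p ^ m := fun hk ↦ Nat.pow_lt_pow_right hp.out.one_lt hk
  refine ⟨fun k hk ↦ ?_, ?_⟩
  · have h1 := factorial_mul_pow p h0 (l := k) (q := p - 1) (by have := hp.out.pos; omega)
      (fun j hj ↦ hc _ _ (hk' hk) (hlt hk (by omega)))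
    have h2 := hc _ _ (hk' hk) (hlt hk (show p - 1 < p by have := hp.out.pos; omega))
    rw [CharCond, show p ^ k + (p - 1) * p ^ k = (p - 1 + 1) * p ^ k by ring,
      choose_succ_mul_pow p, show p - 1 + 1 = p by have := hp.out.pos; omega,
      CharP.cast_eq_zero, zero_mul] at h2
    have hpow : c (p ^ k) ^ p = c (p ^ k) ^ (p - 1) * c (p ^ k) := by
      rw [← pow_succ]; congr 1; have := hp.out.pos; omega
    rw [hpow, ← h1]
    linear_combination -((p - 1).factorial : A) * h2
  · suffices ∀ l ≤ m, ∀ n < p ^ l, c n = (∏ k ∈ Finset.range l, expTerm p (c (p ^ k)) k).coeff n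
      from this m le_rfl
    intro l hl
    induction l with
    | zero => intro n hn; rw [pow_zero, Nat.lt_one_iff] at hn; simp [hn, h0]
    | succ l ih =>
      intro n hn
      have hpl : 0 < p ^ l := pow_pos hp.out.pos l
      have hq : n / p ^ l < p := (Nat.div_lt_iff_lt_mul hpl).mpr (by rwa [← pow_succ'])
      have hr : n % p ^ l < p ^ l := Nat.mod_lt _ hpl
      rw [Finset.prod_range_succ, coeff_mul_expTerm p (coeff_prod_expTerm_eq_zero p _ l),
        if_pos hn, ← ih (by omega) _ hr]
      have h1 := factorial_mul_pow p h0 (l := l) hq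
        (fun j hj ↦ hc _ _ (hk' (by omega)) (hlt (by omega) (by omega)))
      have h2 := hc (n % p ^ l) (n / p ^ l * p ^ l)
        (hr.trans_le (Nat.pow_le_pow_right hp.out.pos (by omega))) (hlt (by omega) hq)
      rw [CharCond, choose_add_mul_pow p _ hr, one_mul,
        show n % p ^ l + n / p ^ l * p ^ l = n from Nat.mod_add_div' n (p ^ l)] at h2
      rw [h2, ← h1, Ring.inverse_mul_cancel_left _ _ (isUnit_factorial p hq)]

end CharP

end Groth.GrpschAbsch.Char
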