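import Groth.Agent.GrpschAbsch.Char
import Mathlib.Algebra.MvPolynomial.Degrees
import Mathlib.Algebra.MvPolynomial.Eval
import Mathlib.Data.Fin.VecNotation
import Mathlib.Data.Nat.Log
import Mathlib.Data.Nat.Choose.Dvd
import Mathlib.Order.Interval.Finset.Nat

/-!
Lazard's lemma on symmetric two-cocycles in characteristic `p`.
-/

universe u

namespace Groth.GrpschAbsch.Cocycle

open Groth.GrpschAbsch.Char MvPolynomial

section Digits

variable {A : Type u} [CommRing A] (p : ℕ) [hp : Fact p.Prime] [CharP A p]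

lemma choose_pow_eq_div (n s : ℕ) : (n.choose (p ^ s) : A) = (n / p ^ s : ℕ) := by
  refine natCast_eq_of_modEq p ((Choose.choose_modEq_choose_mul_prod_range_choose s).trans ?_)
  rw [Nat.div_self (pow_pos hp.out.pos s), Nat.choose_one_right, Finset.prod_eq_one]
  · simp [Int.ModEq.refl]
  · intro i hi
    rw [Finset.mem_range] at hi
    rw [Nat.pow_div hi.le hp.out.pos,
      Nat.mod_eq_zero_of_dvd (dvd_pow_self p (show s - i ≠ 0 by omega)), Nat.choose_zero_right]

lemma isUnit_choose_pow {n s : ℕ} (h1 : p ^ s ≤ n) (h2 : n < p ^ (s + 1)) :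
    IsUnit (n.choose (p ^ s) : A) := by
  rw [choose_pow_eq_div p]
  refine isUnit_natCast_of_lt p (Nat.div_pos h1 (pow_pos hp.out.pos s)).ne' ?_
  rwa [Nat.div_lt_iff_lt_mul (pow_pos hp.out.pos s), ← pow_succ']

variable {c : ℕ → ℕ → A}
  (hrel : ∀ i j k, 0 < i → 0 < j → 0 < k →
    ((j + k).choose j : A) * c i (j + k) = ((i + j).choose i : A) * c (i + j) k)
  (hsymm : ∀ i j, c i j = c j i)
  (htop : ∀ s d, p ^ s < d → d ≤ p ^ (s + 1) → c (p ^ s) (d - p ^ s) = 0)

include hrel hsymm htop in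
lemma eq_zero_at_pow {s t d : ℕ} (hts : t ≤ s) (h1 : p ^ s < d) (h2 : d ≤ p ^ (s + 1)) :
    c (p ^ t) (d - p ^ t) = 0 := by
  rcases hts.eq_or_lt with rfl | hlt
  · exact htop t d h1 h2
  have hu : 0 < p ^ t := pow_pos hp.out.pos t
  have huq : p ^ t < p ^ s := Nat.pow_lt_pow_right hp.out.one_lt hlt
  rcases lt_trichotomy (p ^ s + p ^ t) d with h | h | h
  · obtain ⟨k, rfl⟩ : ∃ k, d = p ^ s + p ^ t + k := ⟨d - (p ^ s + p ^ t), by omega⟩
    have r1 := hrel (p ^ s) (p ^ t) k (by omega) hu (by omega)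
    have z := htop s _ h1 h2
    rw [show p ^ s + p ^ t + k - p ^ s = p ^ t + k by omega] at z
    rw [z, mul_zero, choose_pow_eq_div p, show (p ^ s + p ^ t) / p ^ s = 1 from
      Nat.div_eq_of_lt_le (by omega) (by omega), Nat.cast_one, one_mul] at r1
    have r2 := hrel (p ^ t) (p ^ s) k hu (by omega) (by omega)
    rw [add_comm (p ^ t) (p ^ s), ← r1, mul_zero] at r2
    rw [show p ^ s + p ^ t + k - p ^ t = p ^ s + k by omega]
    exact (isUnit_choose_pow p (by omega) (by omega)).mul_right_eq_zero.mp r2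
  · have z := htop s d h1 h2
    rw [show d - p ^ s = p ^ t by omega] at z
    rw [show d - p ^ t = p ^ s by omega, hsymm]
    exact z
  · obtain ⟨w, rfl⟩ : ∃ w, d = p ^ s + w := ⟨d - p ^ s, by omega⟩
    obtain ⟨e, he⟩ : ∃ e, p ^ s = p * e * p ^ t :=
      ⟨p ^ (s - t - 1), by rw [← pow_succ', ← pow_add]; congr 1; omega⟩
    have r1 := hrel w (p ^ t) (p ^ s - p ^ t) (by omega) hu (by omega)
    rw [show p ^ t + (p ^ s - p ^ t) = p ^ s by omega, choose_pow_eq_div p (p ^ s) t,
      show p ^ s / p ^ t = p * e by rw [he, Nat.mul_div_cancel _ hu], Nat.cast_mul,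
      CharP.cast_eq_zero, zero_mul, zero_mul] at r1
    have hc1 : ((w + p ^ t).choose w : A) = 1 := by
      have := choose_add_mul_pow (A := A) p (r := w) (m := t) 1 (by omega)
      rwa [one_mul] at this
    rw [hc1, one_mul] at r1
    have r2 := hrel (p ^ t) w (p ^ s - p ^ t) hu (by omega) (by omega)
    rw [add_comm (p ^ t) w, ← r1, mul_zero] at r2
    have hc2 : ((w + (p ^ s - p ^ t)).choose w : A) = 1 := by
      have := choose_add_mul_pow (A := A) p (r := w) (m := t) (p * e - 1) (by omega)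
      rwa [Nat.sub_mul, one_mul, ← he] at this
    rw [hc2, one_mul] at r2
    rwa [show p ^ s + w - p ^ t = w + (p ^ s - p ^ t) by omega]

include hrel hsymm htop in
lemma eq_zero {l k : ℕ} (hl : 0 < l) (hk : 0 < k) : c l k = 0 := by
  have hp1 := hp.out.one_lt
  have key : ∀ t k, 0 < k → c (p ^ t) k = 0 := fun t k hk ↦ by
    have h0 : p ^ t + k - 1 ≠ 0 := by have := pow_pos hp.out.pos t; omega
    have a := Nat.pow_log_le_self p h0
    have b : p ^ t + k - 1 < p ^ (Nat.log p (p ^ t + k - 1) + 1) :=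
      Nat.lt_pow_succ_log_self hp1 _
    have := eq_zero_at_pow p hrel hsymm htop (s := Nat.log p (p ^ t + k - 1)) (t := t)
      (d := p ^ t + k) (Nat.le_log_of_pow_le hp1 (by omega)) (by omega) (by omega)
    rwa [Nat.add_sub_cancel_left] at this
  have a := Nat.pow_log_le_self p hl.ne'
  have b : l < p ^ (Nat.log p l + 1) := Nat.lt_pow_succ_log_self hp1 _
  obtain ⟨s, hs⟩ : ∃ s, Nat.log p l = s := ⟨_, rfl⟩
  rw [hs] at a b
  clear hs
  rcases a.eq_or_lt with h | h
  · rw [← h]; exact key _ _ hk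
  obtain ⟨j, rfl⟩ : ∃ j, l = p ^ s + j := ⟨l - p ^ s, by omega⟩
  have r := hrel (p ^ s) j k (pow_pos hp.out.pos s) (by omega) hk
  rw [key _ _ (by omega), mul_zero] at r
  exact (isUnit_choose_pow p a b).mul_right_eq_zero.mp r.symm

end Digits

section Coeff

variable {R : Type u} [CommRing R]

/-- The exponent `(i, j, k)`. -/
noncomputable def tri (i j k : ℕ) : Fin 3 →₀ ℕ :=
  Finsupp.single 0 i + Finsupp.single 1 j + Finsupp.single 2 k

lemma tri_inj {i j k a b c : ℕ} : tri i j k = tri a b c ↔ i = a ∧ j = b ∧ k = c := by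
  constructor
  · intro h
    refine ⟨?_, ?_, ?_⟩
    · simpa [tri] using congr($h 0)
    · simpa [tri] using congr($h 1)
    · simpa [tri] using congr($h 2)
  · rintro ⟨rfl, rfl, rfl⟩; rfl

lemma coeff_mono (a b c i j k : ℕ) :
    coeff (tri i j k) (X 0 ^ a * X 1 ^ b * X 2 ^ c : MvPolynomial (Fin 3) R) =
      if a = i ∧ b = j ∧ c = k then 1 else 0 := by
  classical
  rw [X_pow_eq_monomial, X_pow_eq_monomial, X_pow_eq_monomial, monomial_mul, monomial_mul,
    coeff_monomial, mul_one, mul_one]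
  exact if_congr (tri_inj (i := a) (j := b) (k := c)) rfl rfl

lemma coeff_sum_left (n m i j k : ℕ) :
    coeff (tri i j k) (X 0 ^ n * (X 1 + X 2) ^ m : MvPolynomial (Fin 3) R) =
      if n = i ∧ m = j + k then ((j + k).choose j : R) else 0 := by
  classical
  rw [add_pow, Finset.mul_sum, coeff_sum]
  have e : ∀ l, coeff (tri i j k) (X 0 ^ n * (X 1 ^ l * X 2 ^ (m - l) * (m.choose l : MvPolynomial
      (Fin 3) R))) = if n = i ∧ l = j ∧ m - l = k then (m.choose l : R) else 0 := fun l ↦ by
    rw [← C_eq_coe_nat, ← mul_assoc, ← mul_assoc, mul_comm, coeff_C_mul, coeff_mono]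
    split_ifs <;> simp
  simp only [e]
  split_ifs with h
  · rw [Finset.sum_eq_single j]
    · rw [if_pos ⟨h.1, rfl, by omega⟩, h.2]
    · intro l _ hl; rw [if_neg (by tauto)]
    · intro hj; exact absurd (Finset.mem_range.mpr (by omega)) hj
  · refine Finset.sum_eq_zero fun l hl ↦ if_neg ?_
    rw [Finset.mem_range] at hl
    omega

lemma coeff_sum_right (n m i j k : ℕ) :
    coeff (tri i j k) ((X 0 + X 1) ^ n * X 2 ^ m : MvPolynomial (Fin 3) R) =
      if n = i + j ∧ m = k then ((i + j).choose i : R) else 0 := by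
  classical
  rw [add_pow, Finset.sum_mul, coeff_sum]
  have e : ∀ l, coeff (tri i j k) (X 0 ^ l * X 1 ^ (n - l) * (n.choose l : MvPolynomial (Fin 3) R) *
      X 2 ^ m) = if l = i ∧ n - l = j ∧ m = k then (n.choose l : R) else 0 := fun l ↦ by
    rw [← C_eq_coe_nat, mul_right_comm, mul_comm _ (C _), coeff_C_mul, coeff_mono]
    split_ifs <;> simp
  simp only [e]
  split_ifs with h
  · rw [Finset.sum_eq_single i]
    · rw [if_pos ⟨rfl, by omega, h.2⟩, h.1]
    · intro l _ hl; rw [if_neg (by tauto)]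
    · intro hi; exact absurd (Finset.mem_range.mpr (by omega)) hi
  · refine Finset.sum_eq_zero fun l hl ↦ if_neg ?_
    rw [Finset.mem_range] at hl
    omega

lemma monomial_fin2 (d : Fin 2 →₀ ℕ) (a : R) {B : Type*} [CommRing B] [Algebra R B] (x y : B) :
    aeval ![x, y] (monomial d a) = algebraMap R B a * (x ^ d 0 * y ^ d 1) := by
  simp [aeval_monomial, Finsupp.prod_fintype, Fin.prod_univ_two]

lemma coeff_aeval_left (F : MvPolynomial (Fin 2) R) (i j k : ℕ) :
    coeff (tri i j k) (aeval ![(X 0 : MvPolynomial (Fin 3) R), X 1 + X 2] F) =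
      ((j + k).choose j : R) * coeff (pair i (j + k)) F := by
  classical
  induction F using MvPolynomial.induction_on' with
  | add f g hf hg => rw [map_add, coeff_add, hf, hg, coeff_add, mul_add]
  | monomial d a =>
    rw [monomial_fin2, algebraMap_eq, coeff_C_mul, coeff_sum_left, coeff_monomial, eq_pair d]
    simp only [pair_zero, pair_one, pair_inj]
    split_ifs <;> simp [mul_comm]

lemma coeff_aeval_right (F : MvPolynomial (Fin 2) R) (i j k : ℕ) :
    coeff (tri i j k) (aeval ![(X 0 + X 1 : MvPolynomial (Fin 3) R), X 2] F) =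
      ((i + j).choose i : R) * coeff (pair (i + j) k) F := by
  classical
  induction F using MvPolynomial.induction_on' with
  | add f g hf hg => rw [map_add, coeff_add, hf, hg, coeff_add, mul_add]
  | monomial d a =>
    rw [monomial_fin2, algebraMap_eq, coeff_C_mul, coeff_sum_right, coeff_monomial, eq_pair d]
    simp only [pair_zero, pair_one, pair_inj]
    split_ifs <;> simp [mul_comm]

lemma coeff_aeval_fst (F : MvPolynomial (Fin 2) R) (i j k : ℕ) :
    coeff (tri i j k) (aeval ![(X 0 : MvPolynomial (Fin 3) R), X 1] F) =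
      if k = 0 then coeff (pair i j) F else 0 := by
  classical
  induction F using MvPolynomial.induction_on' with
  | add f g hf hg => rw [map_add, coeff_add, hf, hg, coeff_add]; split_ifs <;> simp
  | monomial d a =>
    rw [monomial_fin2, algebraMap_eq, coeff_C_mul,
      show (X 0 ^ d 0 * X 1 ^ d 1 : MvPolynomial (Fin 3) R) = X 0 ^ d 0 * X 1 ^ d 1 * X 2 ^ 0 by simp,
      coeff_mono, coeff_monomial, eq_pair d]
    simp only [pair_zero, pair_one, pair_inj]
    split_ifs <;> first | (exfalso; omega) | simp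

lemma coeff_aeval_snd (F : MvPolynomial (Fin 2) R) (i j k : ℕ) :
    coeff (tri i j k) (aeval ![(X 1 : MvPolynomial (Fin 3) R), X 2] F) =
      if i = 0 then coeff (pair j k) F else 0 := by
  classical
  induction F using MvPolynomial.induction_on' with
  | add f g hf hg => rw [map_add, coeff_add, hf, hg, coeff_add]; split_ifs <;> simp
  | monomial d a =>
    rw [monomial_fin2, algebraMap_eq, coeff_C_mul,
      show (X 1 ^ d 0 * X 2 ^ d 1 : MvPolynomial (Fin 3) R) = X 0 ^ 0 * X 1 ^ d 0 * X 2 ^ d 1 by simp,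
      coeff_mono, coeff_monomial, eq_pair d]
    simp only [pair_zero, pair_one, pair_inj]
    split_ifs <;> first | (exfalso; omega) | simp

lemma coeff_aeval_swap (F : MvPolynomial (Fin 2) R) (i j : ℕ) :
    coeff (pair i j) (aeval ![(X 1 : MvPolynomial (Fin 2) R), X 0] F) = coeff (pair j i) F := by
  classical
  induction F using MvPolynomial.induction_on' with
  | add f g hf hg => rw [map_add, coeff_add, hf, hg, coeff_add]
  | monomial d a =>
    rw [monomial_fin2, algebraMap_eq, coeff_C_mul, X_pow_eq_monomial, X_pow_eq_monomial,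
      monomial_mul, coeff_monomial, mul_one, add_comm (Finsupp.single (1 : Fin 2) (d 0)),
      coeff_monomial]
    have : (Finsupp.single 0 (d 1) + Finsupp.single 1 (d 0) : Fin 2 →₀ ℕ) = pair (d 1) (d 0) := rfl
    rw [this, eq_pair d]
    simp only [pair_zero, pair_one, pair_inj]
    split_ifs <;> first | (exfalso; omega) | simp

end Coeff

section SymmCocycle

variable {R : Type u} [CommRing R]

/-- The cocycle operator. -/
noncomputable def delta (F : MvPolynomial (Fin 2) R) : MvPolynomial (Fin 3) R :=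
  aeval ![X 0, X 1 + X 2] F + aeval ![X 1, X 2] F - aeval ![X 0 + X 1, X 2] F - aeval ![X 0, X 1] F

/-- Symmetric two-cocycles. -/
def IsSC (F : MvPolynomial (Fin 2) R) : Prop :=
  aeval ![X 1, X 0] F = F ∧ delta F = 0

lemma IsSC.zero : IsSC (0 : MvPolynomial (Fin 2) R) := by simp [IsSC, delta]

lemma IsSC.add {F G : MvPolynomial (Fin 2) R} (hF : IsSC F) (hG : IsSC G) : IsSC (F + G) := by
  refine ⟨by rw [map_add, hF.1, hG.1], ?_⟩
  have h1 := hF.2
  have h2 := hG.2
  simp only [delta, map_add] at h1 h2 ⊢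
  linear_combination h1 + h2

lemma IsSC.C_mul {F : MvPolynomial (Fin 2) R} (r : R) (hF : IsSC F) : IsSC (C r * F) := by
  refine ⟨by rw [map_mul, hF.1]; simp, ?_⟩
  have h1 := hF.2
  simp only [delta, map_mul, aeval_C] at h1 ⊢
  linear_combination algebraMap R (MvPolynomial (Fin 3) R) r * h1

lemma IsSC.sub {F G : MvPolynomial (Fin 2) R} (hF : IsSC F) (hG : IsSC G) : IsSC (F - G) := by
  have := hF.add (hG.C_mul (-1))
  simpa [sub_eq_add_neg] using this

lemma IsSC.sum {ι : Type*} (s : Finset ι) (f : ι → MvPolynomial (Fin 2) R)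
    (h : ∀ i ∈ s, IsSC (f i)) : IsSC (∑ i ∈ s, f i) :=
  Finset.sum_induction f IsSC (fun _ _ ↦ IsSC.add) IsSC.zero h

lemma IsSC.coeff_rel {F : MvPolynomial (Fin 2) R} (h : IsSC F) (i j k : ℕ) :
    ((j + k).choose j : R) * F.coeff (pair i (j + k)) + (if i = 0 then F.coeff (pair j k) else 0) =
      ((i + j).choose i : R) * F.coeff (pair (i + j) k) +
        (if k = 0 then F.coeff (pair i j) else 0) := by
  have := congrArg (coeff (tri i j k)) h.2
  rw [delta, coeff_sub, coeff_sub, coeff_add, coeff_aeval_left, coeff_aeval_right, coeff_aeval_fst,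
    coeff_aeval_snd, coeff_zero] at this
  linear_combination this

lemma IsSC.coeff_symm {F : MvPolynomial (Fin 2) R} (h : IsSC F) (i j : ℕ) :
    F.coeff (pair i j) = F.coeff (pair j i) := by
  conv_lhs => rw [← h.1]
  rw [coeff_aeval_swap]

/-- The coboundary of a polynomial in one variable. -/
noncomputable def cobdry (G : Polynomial R) : MvPolynomial (Fin 2) R :=
  Polynomial.aeval (X 0 + X 1 : MvPolynomial (Fin 2) R) G -
    Polynomial.aeval (X 0 : MvPolynomial (Fin 2) R) G -
    Polynomial.aeval (X 1 : MvPolynomial (Fin 2) R) G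

lemma isSC_cobdry (G : Polynomial R) : IsSC (cobdry G) := by
  have e : ∀ (n : ℕ) (v : Fin 2 → MvPolynomial (Fin n) R),
      aeval v (cobdry G) = Polynomial.aeval (v 0 + v 1) G - Polynomial.aeval (v 0) G -
        Polynomial.aeval (v 1) G := by
    intro n v
    simp [cobdry, ← Polynomial.aeval_algHom_apply]
  refine ⟨?_, ?_⟩
  · rw [e]
    simp [cobdry, add_comm (X 1 : MvPolynomial (Fin 2) R)]
    ring
  · simp only [delta, e, Matrix.cons_val_zero, Matrix.cons_val_one, Matrix.cons_val_fin_one]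
    rw [add_assoc (X 0 : MvPolynomial (Fin 3) R)]
    ring

lemma coeff_cobdry (G : Polynomial R) (i j : ℕ) :
    (cobdry G).coeff (pair i j) = ((i + j).choose i : R) * G.coeff (i + j) -
      (if j = 0 then G.coeff i else 0) - (if i = 0 then G.coeff j else 0) := by
  rw [cobdry, coeff_sub, coeff_sub, coeff_aeval_add, coeff_aeval_X_zero, coeff_aeval_X_one]

end SymmCocycle

section S

variable (p : ℕ)

/-- The reduction of `((u + v) ^ p - u ^ p - v ^ p) / p`. -/
def S {B : Type*} [CommRing B] (u v : B) : B :=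
  ∑ j ∈ Finset.Ioo 0 p, ((p.choose j / p : ℕ) : B) * u ^ j * v ^ (p - j)

lemma map_S {B B' : Type*} [CommRing B] [CommRing B'] (f : B →+* B') (u v : B) :
    f (S p u v) = S p (f u) (f v) := by
  simp [S]

variable [hp : Fact p.Prime]

lemma natCast_mul_S {B : Type*} [CommRing B] (u v : B) :
    (p : B) * S p u v = (u + v) ^ p - u ^ p - v ^ p := by
  have hp' := hp.out
  rw [add_pow, Finset.sum_range_succ, Finset.range_eq_Ico,
    Finset.sum_eq_sum_Ico_succ_bot hp'.pos, Nat.choose_zero_right, Nat.choose_self]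
  have e : Finset.Ioo 0 p = Finset.Ico (0 + 1) p := by ext; simp; omega
  rw [S, e, Finset.mul_sum]
  have e2 : ∀ j ∈ Finset.Ico (0 + 1) p, (p : B) * (((p.choose j / p : ℕ) : B) * u ^ j * v ^ (p - j)) =
      u ^ j * v ^ (p - j) * (p.choose j : B) := fun j hj ↦ by
    rw [Finset.mem_Ico] at hj
    conv_rhs => rw [← Nat.mul_div_cancel' (Nat.Prime.dvd_choose_self hp' (by omega) hj.2), Nat.cast_mul]
    ring
  rw [Finset.sum_congr rfl e2]
  simp

lemma S_comm {B : Type u} [CommRing B] (u v : B) : S p u v = S p v u := by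
  have key : S p (X 0) (X 1) = S p (X 1 : MvPolynomial (Fin 2) ℤ) (X 0) :=
    mul_left_cancel₀ (Nat.cast_ne_zero.mpr hp.out.ne_zero)
      (by rw [natCast_mul_S, natCast_mul_S]; ring : (p : MvPolynomial (Fin 2) ℤ) * _ = _)
  have := congrArg (eval₂Hom (Int.castRingHom B) ![u, v]) key
  simpa [map_S] using this

lemma S_cocycle {B : Type u} [CommRing B] (u v w : B) :
    S p u (v + w) + S p v w = S p (u + v) w + S p u v := by
  have key : S p (X 0) (X 1 + X 2) + S p (X 1) (X 2) =
      S p (X 0 + X 1) (X 2 : MvPolynomial (Fin 3) ℤ) + S p (X 0) (X 1) :=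
    mul_left_cancel₀ (Nat.cast_ne_zero.mpr hp.out.ne_zero)
      (by rw [mul_add, mul_add, natCast_mul_S, natCast_mul_S, natCast_mul_S, natCast_mul_S]; ring :
        (p : MvPolynomial (Fin 3) ℤ) * _ = _)
  have := congrArg (eval₂Hom (Int.castRingHom B) ![u, v, w]) key
  rw [map_add, map_add, map_S, map_S, map_S, map_S] at this
  simpa using this

variable {R : Type u} [CommRing R] [CharP R p]

/-- `S (X ^ (p ^ i), Y ^ (p ^ i))`. -/
noncomputable def SPow (i : ℕ) : MvPolynomial (Fin 2) R := S p (X 0 ^ p ^ i) (X 1 ^ p ^ i)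

lemma isSC_SPow (i : ℕ) : IsSC (SPow p (R := R) i) := by
  have e : ∀ (n : ℕ) (v : Fin 2 → MvPolynomial (Fin n) R),
      aeval v (SPow p (R := R) i) = S p (v 0 ^ p ^ i) (v 1 ^ p ^ i) := by
    intro n v
    rw [SPow, ← AlgHom.coe_toRingHom, map_S]
    simp
  refine ⟨?_, ?_⟩
  · rw [e, SPow, S_comm p]; rfl
  · have h := S_cocycle p ((X 0 : MvPolynomial (Fin 3) R) ^ p ^ i) (X 1 ^ p ^ i) (X 2 ^ p ^ i)
    simp only [delta, e, Matrix.cons_val_zero, Matrix.cons_val_one, Matrix.cons_val_fin_one,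
      add_pow_char_pow]
    linear_combination h

lemma coeff_SPow {i s d : ℕ} (h1 : p ^ s < d) (h2 : d ≤ p ^ (s + 1)) :
    (SPow p (R := R) i).coeff (pair (p ^ s) (d - p ^ s)) = if d = p ^ (i + 1) then 1 else 0 := by
  classical
  have hp' := hp.out
  rw [SPow, S, coeff_sum]
  have e : ∀ j, coeff (pair (p ^ s) (d - p ^ s)) (((p.choose j / p : ℕ) : MvPolynomial (Fin 2) R) *
      (X 0 ^ p ^ i) ^ j * (X 1 ^ p ^ i) ^ (p - j)) =
      if p ^ i * j = p ^ s ∧ p ^ i * (p - j) = d - p ^ s then ((p.choose j / p : ℕ) : R) else 0 := by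
    intro j
    rw [← C_eq_coe_nat, ← pow_mul, ← pow_mul, X_pow_eq_monomial, X_pow_eq_monomial, C_mul_monomial,
      monomial_mul, coeff_monomial, mul_one, mul_one]
    exact if_congr (pair_inj (i := p ^ i * j) (j := p ^ i * (p - j))) rfl rfl
  simp only [e]
  have hcase : ∀ j ∈ Finset.Ioo 0 p, p ^ i * j = p ^ s → p ^ i * (p - j) = d - p ^ s →
      i = s ∧ j = 1 ∧ d = p ^ (i + 1) := by
    intro j hj ha hb
    rw [Finset.mem_Ioo] at hj
    have hd : d = p ^ (i + 1) := by
      have : p ^ i * (j + (p - j)) = p ^ s + (d - p ^ s) := by rw [mul_add, ha, hb]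
      rw [Nat.add_sub_cancel' hj.2.le, ← pow_succ] at this
      omega
    have l1 : s < i + 1 := (Nat.pow_lt_pow_iff_right hp'.one_lt).mp (hd ▸ h1)
    have l2 : i + 1 ≤ s + 1 := (Nat.pow_le_pow_iff_right hp'.one_lt).mp (hd ▸ h2)
    obtain rfl : i = s := by omega
    exact ⟨rfl, by nlinarith [pow_pos hp'.pos i], hd⟩
  split_ifs with hd
  · subst hd
    have l1 : s < i + 1 := (Nat.pow_lt_pow_iff_right hp'.one_lt).mp h1
    have l2 : i + 1 ≤ s + 1 := (Nat.pow_le_pow_iff_right hp'.one_lt).mp h2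
    obtain rfl : i = s := by omega
    rw [Finset.sum_eq_single 1]
    · rw [if_pos ⟨mul_one _, by rw [Nat.mul_sub, mul_one, ← pow_succ]⟩, Nat.choose_one_right,
        Nat.div_self hp'.pos, Nat.cast_one]
    · intro j hj hj1
      exact if_neg fun h ↦ hj1 (hcase j hj h.1 h.2).2.1
    · intro h
      exact absurd (Finset.mem_Ioo.mpr ⟨one_pos, hp'.one_lt⟩) h
  · exact Finset.sum_eq_zero fun j hj ↦ if_neg fun h ↦ hd (hcase j hj h.1 h.2).2.2

lemma coeff_zero_SPow (i : ℕ) : (SPow p (R := R) i).coeff (pair 0 0) = 0 := by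
  classical
  rw [SPow, S, coeff_sum]
  refine Finset.sum_eq_zero fun j hj ↦ ?_
  rw [Finset.mem_Ioo] at hj
  rw [← C_eq_coe_nat, ← pow_mul, ← pow_mul, X_pow_eq_monomial, X_pow_eq_monomial, C_mul_monomial,
    monomial_mul, coeff_monomial, if_neg]
  intro h
  have h0 := congr($h 0)
  simp at h0
  rcases h0 with h0 | h0
  · exact hp.out.ne_zero h0.1
  · omega

/-- The decomposition of a symmetric cocycle. -/
lemma exists_decomp {F : MvPolynomial (Fin 2) R} (hF : IsSC F) :
    ∃ (G : Polynomial R) (N : ℕ) (r : ℕ → R),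
      F = cobdry G + ∑ i ∈ Finset.range N, C (r i) * SPow p i := by
  classical
  have hp' := hp.out
  have hp1 := hp'.one_lt
  set N := F.totalDegree + 1 with hN
  have hvan : ∀ i j, N ≤ i + j → F.coeff (pair i j) = 0 := fun i j h ↦ by
    refine coeff_eq_zero_of_totalDegree_lt (lt_of_lt_of_le (show F.totalDegree < i + j by omega) ?_)
    have : (pair i j).sum (fun _ e ↦ e) = i + j := by
      rw [Finsupp.sum_fintype _ _ (fun _ ↦ rfl), Fin.sum_univ_two, pair_zero, pair_one]
    exact this.ge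
  let g : ℕ → R := fun d ↦ if d = 0 then -F.coeff (pair 0 0)
    else if d = p ^ Nat.log p d then 0
    else Ring.inverse (d.choose (p ^ Nat.log p d) : R) *
      F.coeff (pair (p ^ Nat.log p d) (d - p ^ Nat.log p d))
  let G : Polynomial R := ∑ d ∈ Finset.range N, Polynomial.monomial d (g d)
  have hG : ∀ d, G.coeff d = g d := fun d ↦ by
    simp only [G, Polynomial.finsetSum_coeff, Polynomial.coeff_monomial, Finset.sum_ite_eq',
      Finset.mem_range]
    split_ifs with hd
    · rfl
    · simp only [g]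
      rw [if_neg (by omega)]
      split_ifs with h
      · rfl
      · have := Nat.pow_log_le_self p (x := d) (by omega)
        rw [hvan _ _ (by omega), mul_zero]
  let r : ℕ → R := fun i ↦ F.coeff (pair (p ^ i) (p ^ (i + 1) - p ^ i))
  refine ⟨G, N, r, ?_⟩
  set M := cobdry G + ∑ i ∈ Finset.range N, C (r i) * SPow p i with hM
  have hH : IsSC (F - M) :=
    hF.sub ((isSC_cobdry G).add (IsSC.sum _ _ fun i _ ↦ (isSC_SPow p i).C_mul _))
  rw [← sub_eq_zero]
  set H := F - M with hHdef
  have hrel : ∀ i j k, 0 < i → 0 < j → 0 < k →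
      ((j + k).choose j : R) * H.coeff (pair i (j + k)) =
        ((i + j).choose i : R) * H.coeff (pair (i + j) k) := fun i j k hi hj hk ↦ by
    have := hH.coeff_rel i j k
    rwa [if_neg hi.ne', if_neg hk.ne', add_zero, add_zero] at this
  have htop : ∀ s d, p ^ s < d → d ≤ p ^ (s + 1) → H.coeff (pair (p ^ s) (d - p ^ s)) = 0 := by
    intro s d h1 h2
    have hs : 0 < p ^ s := pow_pos hp'.pos s
    rw [hHdef, hM, coeff_sub, coeff_add, coeff_cobdry, coeff_sum]
    simp only [coeff_C_mul, coeff_SPow p h1 h2, mul_ite, mul_one, mul_zero]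
    rw [if_neg (by omega), if_neg (by omega), sub_zero, sub_zero,
      Nat.add_sub_cancel' h1.le, hG]
    rcases h2.eq_or_lt with rfl | h2
    · have : ((p ^ (s + 1)).choose (p ^ s) : R) = 0 := by
        rw [choose_pow_eq_div p, pow_succ', Nat.mul_div_cancel _ hs, CharP.cast_eq_zero]
      simp only [this, zero_mul, zero_add, Nat.pow_right_injective hp'.two_le |>.eq_iff,
        Nat.add_right_cancel_iff, Finset.sum_ite_eq, Finset.mem_range]
      split_ifs with hs'
      · exact sub_self _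
      · have := Nat.lt_pow_self hp1 (n := s + 1)
        rw [sub_zero]
        exact hvan _ _ (by omega)
    · rw [Finset.sum_eq_zero, add_zero]
      · have hlog : Nat.log p d = s := Nat.log_eq_of_pow_le_of_lt_pow h1.le h2
        simp only [g, hlog]
        rw [if_neg (by omega), if_neg (by omega),
          Ring.mul_inverse_cancel_left _ _ (isUnit_choose_pow p h1.le h2), sub_self]
      · intro i _
        rw [if_neg]
        rintro rfl
        have a := (Nat.pow_lt_pow_iff_right hp1).mp h1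
        have b := (Nat.pow_lt_pow_iff_right hp1).mp h2
        omega
  have h00 : H.coeff (pair 0 0) = 0 := by
    rw [hHdef, hM, coeff_sub, coeff_add, coeff_cobdry, coeff_sum]
    simp [coeff_C_mul, coeff_zero_SPow, hG, g]
  have hbd : ∀ k, H.coeff (pair 0 k) = 0 := fun k ↦ by
    rcases Nat.eq_zero_or_pos k with rfl | hk
    · exact h00
    · have := hH.coeff_rel 0 0 k
      simp only [zero_add, Nat.choose_zero_right, Nat.cast_one, one_mul, if_pos, if_neg hk.ne',
        add_zero] at this
      linear_combination this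
  refine MvPolynomial.ext _ _ fun e ↦ ?_
  rw [eq_pair e, coeff_zero]
  rcases Nat.eq_zero_or_pos (e 0) with h | h
  · rw [h]; exact hbd _
  rcases Nat.eq_zero_or_pos (e 1) with h' | h'
  · rw [h', hH.coeff_symm]; exact hbd _
  exact eq_zero p (c := fun i j ↦ H.coeff (pair i j)) hrel hH.coeff_symm htop h h'

end S

end Groth.GrpschAbsch.Cocycle
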