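import Groth.Agent.GrpschAbsch.FieldCompact
import Mathlib.AlgebraicGeometry.Morphisms.QuasiCompact

/-!
An open and closed countable union of affines through the unit.
-/

universe u

open CategoryTheory CategoryTheory.Limits MonoidalCategory CartesianMonoidalCategory MonObj GrpObj
  AlgebraicGeometry TopologicalSpace

namespace Groth.GrpschAbsch

variable {K : Type u} [Field K] (G : Over (Spec (CommRingCat.of K))) [GrpObj G]

/-- The quotient morphism `(a, b) ↦ a / b`. -/
noncomputable abbrev divMap : G ⊗ G ⟶ G := fst G G * (snd G G)⁻¹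

lemma isOpenMap_divMap : IsOpenMap (divMap G).left := by
  have h : (shearR (ι[G])).hom ≫ fst G G = divMap G := by
    simp [divMap, GrpObj.inv_eq_inv, GrpObj.comp_inv]
  have hf : IsOpenMap (fst G G).left := (pullback.fst G.hom G.hom).isOpenMap
  rw [← h, Over.comp_left]
  exact hf.comp (leftHomeo (shearR (ι[G]))).isOpenMap

/-- The quotients of pairs of points of `W`. -/
def divSet (W : Set G.left) : Set G.left :=
  (divMap G).left '' ((fst G G).left ⁻¹' W ∩ (snd G G).left ⁻¹' W)

lemma isOpen_divSet {W : Set G.left} (hW : IsOpen W) : IsOpen (divSet G W) :=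
  isOpenMap_divMap G _ ((hW.preimage (fst G G).left.continuous).inter (hW.preimage (snd G G).left.continuous))

lemma isCompact_divSet {W : Set G.left} (hWc : IsCompact W) (hW : IsOpen W) : IsCompact (divSet G W) := by
  let V : G.left.Opens := ⟨W, hW⟩
  have : CompactSpace V.toScheme := isCompact_iff_compactSpace.mp hWc
  have : QuasiCompact (V.ι ≫ G.hom) :=
    (quasiCompact_iff_compactSpace _).mpr inferInstance
  have : CompactSpace ↥(pullback (V.ι ≫ G.hom) (V.ι ≫ G.hom)) :=
    QuasiCompact.compactSpace_of_compactSpace (pullback.fst (V.ι ≫ G.hom) (V.ι ≫ G.hom))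
  let m : pullback (V.ι ≫ G.hom) (V.ι ≫ G.hom) ⟶ pullback G.hom G.hom :=
    pullback.map _ _ _ _ V.ι V.ι (𝟙 _) (by simp) (by simp)
  have hr : Set.range m = (fst G G).left ⁻¹' W ∩ (snd G G).left ⁻¹' W := by
    rw [Scheme.Pullback.range_map]
    simp [V, Scheme.Opens.range_ι]
  have hc : IsCompact (Set.range m) := isCompact_range m.continuous
  rw [hr] at hc
  exact hc.image (divMap G).left.continuous

lemma mem_divSet {W : Set G.left} {T : Over (Spec (CommRingCat.of K))} (a b : T ⟶ G) (t : T.left)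
    (ha : a.left t ∈ W) (hb : b.left t ∈ W) : (a * b⁻¹).left t ∈ divSet G W := by
  refine ⟨(lift a b).left t, ⟨?_, ?_⟩, ?_⟩
  · show (fst G G).left ((lift a b).left t) ∈ W
    rwa [← Scheme.Hom.comp_apply, ← Over.comp_left, lift_fst]
  · show (snd G G).left ((lift a b).left t) ∈ W
    rwa [← Scheme.Hom.comp_apply, ← Over.comp_left, lift_snd]
  · rw [← Scheme.Hom.comp_apply, ← Over.comp_left]
    congr 2
    simp [divMap, MonObj.comp_mul, GrpObj.comp_inv]

lemma toUnit_one_apply {T : Over (Spec (CommRingCat.of K))} (t : T.left) :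
    (1 : T ⟶ G).left t = η[G].left (IsLocalRing.closedPoint K) := by
  rw [show (1 : T ⟶ G) = toUnit T ≫ η[G] from rfl, Over.comp_left, Scheme.Hom.comp_apply]
  exact congrArg _ (@Subsingleton.elim _ (inferInstanceAs (Subsingleton ↥(Spec (CommRingCat.of K)))) _ _)

lemma subset_divSet {W : Set G.left} (he : η[G].left (IsLocalRing.closedPoint K) ∈ W) :
    W ⊆ divSet G W := fun x hx ↦ by
  have h := mem_divSet G (W := W) (𝟙 G) 1 x (by simpa using hx) (by rwa [toUnit_one_apply])
  simpa using h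

lemma inv_mem_divSet {W : Set G.left} (he : η[G].left (IsLocalRing.closedPoint K) ∈ W) {x : G.left}
    (hx : x ∈ W) : ι[G].left x ∈ divSet G W := by
  have h := mem_divSet G (W := W) 1 (𝟙 G) x (by rwa [toUnit_one_apply]) (by simpa using hx)
  simpa [GrpObj.inv_eq_inv] using h

/-- The iterated quotient sets starting from an affine neighbourhood of the unit. -/
def divIter (W : Set G.left) : ℕ → Set G.left
  | 0 => W
  | n + 1 => divSet G (divIter W n)

theorem exists_clopen_countable_union_affine :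
    ∃ U : G.left.Opens, IsClosed (U : Set G.left) ∧ η[G].left (IsLocalRing.closedPoint K) ∈ U ∧
      ∃ V : ℕ → G.left.Opens, (∀ n, IsAffineOpen (V n)) ∧ (U : Set G.left) = ⋃ n, (V n : Set G.left) := by
  classical
  obtain ⟨_, ⟨U₀, hU₀, rfl⟩, he, -⟩ := G.left.isBasis_affineOpens.exists_subset_of_mem_open
    (Set.mem_univ (η[G].left (IsLocalRing.closedPoint K))) isOpen_univ
  let Wn := divIter G (U₀ : Set G.left)
  have hW : ∀ n, IsCompact (Wn n) ∧ IsOpen (Wn n) ∧ η[G].left (IsLocalRing.closedPoint K) ∈ Wn n := by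
    intro n
    induction n with
    | zero => exact ⟨hU₀.isCompact, U₀.isOpen, he⟩
    | succ n ih =>
      exact ⟨isCompact_divSet G ih.1 ih.2.1, isOpen_divSet G ih.2.1, subset_divSet G ih.2.2 ih.2.2⟩
  have hmono : Monotone Wn := monotone_nat_of_le_succ fun n ↦ subset_divSet G (hW n).2.2
  have hHo : IsOpen (⋃ n, Wn n) := isOpen_iUnion fun n ↦ (hW n).2.1
  refine ⟨⟨⋃ n, Wn n, hHo⟩, ?_, Set.mem_iUnion.mpr ⟨0, he⟩, ?_⟩
  · refine isClosed_of_closure_subset fun x hx ↦ ?_
    let a : resObj x ⊗ G ⟶ G := fst _ _ ≫ resPt x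
    let s : resObj x ⊗ G ⟶ G := snd _ _
    let q : resObj x ⟶ resObj x ⊗ G := lift (𝟙 _) (resPt x)⁻¹
    have hqc : q ≫ (a * s) = 1 := by simp [q, a, s, MonObj.comp_mul]
    have hqs : q ≫ s = resPt x ≫ ι[G] := by simp [q, s, GrpObj.inv_eq_inv, GrpObj.comp_inv]
    let p₀ : (resObj x ⊗ G).left := q.left default
    have hsx : s.left p₀ = ι[G].left x := by
      rw [← Scheme.Hom.comp_apply, ← Over.comp_left, hqs, Over.comp_left, Scheme.Hom.comp_apply, resPt_apply]
    have hcx : (a * s).left p₀ = η[G].left (IsLocalRing.closedPoint K) := by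
      rw [← Scheme.Hom.comp_apply, ← Over.comp_left, hqc, toUnit_one_apply]
    have hix : ι[G].left x ∈ closure (⋃ n, Wn n) :=
      map_mem_closure ι[G].left.continuous hx fun y hy ↦ by
        obtain ⟨n, hn⟩ := Set.mem_iUnion.mp hy
        exact Set.mem_iUnion.mpr ⟨n + 1, inv_mem_divSet G (hW n).2.2 hn⟩
    have hs : IsOpenMap s.left := (pullback.snd (resObj x).hom G.hom).isOpenMap
    obtain ⟨_, ⟨w, hw1, rfl⟩, hw2⟩ := mem_closure_iff.mp hix _ (hs _ (hHo.preimage (a * s).left.continuous))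
      ⟨p₀, Set.mem_iUnion.mpr ⟨0, hcx.symm ▸ he⟩, hsx⟩
    obtain ⟨m₁, h₁⟩ := Set.mem_iUnion.mp hw1
    obtain ⟨m₂, h₂⟩ := Set.mem_iUnion.mp hw2
    have h := mem_divSet G (a * s) s w (hmono (le_max_left m₁ m₂) h₁) (hmono (le_max_right m₁ m₂) h₂)
    refine Set.mem_iUnion.mpr ⟨max m₁ m₂ + 1, ?_⟩
    rw [mul_inv_cancel_right] at h
    rwa [comp_resPt_apply] at h
  · choose F hFf hF using fun n ↦
      (isCompact_and_isOpen_iff_finite_and_eq_biUnion_affineOpens (X := G.left)).mp ⟨(hW n).1, (hW n).2.1⟩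
    let C : Set G.left.affineOpens := insert ⟨⊥, isAffineOpen_bot _⟩ (⋃ n, F n)
    have hC : C.Countable := (Set.countable_iUnion fun n ↦ (hFf n).countable).insert _
    obtain ⟨f, hf⟩ := hC.exists_eq_range (Set.insert_nonempty _ _)
    refine ⟨fun n ↦ (f n).1, fun n ↦ (f n).2, ?_⟩
    show (⋃ n, Wn n) = _
    refine subset_antisymm (Set.iUnion_subset fun n ↦ ?_) (Set.iUnion_subset fun n ↦ ?_)
    · rw [hF n]
      refine Set.iUnion₂_subset fun V hV ↦ ?_
      obtain ⟨k, rfl⟩ : V ∈ Set.range f := hf ▸ Set.mem_insert_of_mem _ (Set.mem_iUnion.mpr ⟨n, hV⟩)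
      exact Set.subset_iUnion (fun n ↦ ((f n).1 : Set G.left)) k
    · rcases (hf ▸ ⟨n, rfl⟩ : f n ∈ C) with h | h
      · show ((f n).1 : Set G.left) ⊆ _
        rw [h]; simp
      · obtain ⟨m, hm⟩ := Set.mem_iUnion.mp h
        show ((f n).1 : Set G.left) ⊆ _
        refine le_trans ?_ (Set.subset_iUnion Wn m)
        rw [hF m]
        exact Set.subset_biUnion_of_mem (u := fun V : G.left.affineOpens ↦ ((V : G.left.Opens) : Set G.left)) hm

end Groth.GrpschAbsch
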