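import Groth.Agent.GrpschAbsch.IdComp
import Mathlib.AlgebraicGeometry.Limits
import Mathlib.AlgebraicGeometry.AffineScheme

/-!
# Finitely many closed points of a group scheme lie in an affine open
-/

set_option autoImplicit false
set_option backward.isDefEq.respectTransparency false
set_option linter.style.haveILetI false

universe u

open CategoryTheory Limits MonoidalCategory CartesianMonoidalCategory MonObj GrpObj AlgebraicGeometry TopologicalSpace

namespace Groth.GrpschAbsch

variable {k : Type u} [Field k] [IsAlgClosed k]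
  (G : Over (Spec (CommRingCat.of k))) [GrpObj G] [LocallyOfFiniteType G.hom]

/-- The underlying point of a rational point. -/
noncomputable abbrev ptOf (p : 𝟙_ (Over (Spec (CommRingCat.of k))) ⟶ G) : G.left :=
  p.left.base (IsLocalRing.closedPoint k)

omit [GrpObj G] in
theorem exists_ptOf_eq (x : G.left) (hx : IsClosed ({x} : Set G.left)) : ∃ p, ptOf G p = x :=
  ⟨Over.homMk _ ((pointEquivClosedPoint G.hom).symm ⟨x, hx⟩).2,
    congrArg Subtype.val ((pointEquivClosedPoint G.hom).apply_symm_apply ⟨x, hx⟩)⟩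

omit [IsAlgClosed k] [GrpObj G] in
theorem exists_closed_mem {U : Set G.left} (hU : IsOpen U) (hne : U.Nonempty) :
    ∃ x ∈ U, IsClosed ({x} : Set G.left) := by
  haveI := LocallyOfFiniteType.jacobsonSpace G.hom
  obtain ⟨x, hx⟩ := nonempty_inter_closedPoints hne hU.isLocallyClosed
  exact ⟨x, hx.1, hx.2⟩

theorem exists_affine_of_closedPoints (n : ℕ) (g : Fin n → G.left) (hg : ∀ i, IsClosed ({g i} : Set G.left)) :
    ∃ U : G.left.Opens, IsAffineOpen U ∧ ∀ i, g i ∈ U := by
  classical
  let C : G.left → Set G.left := connectedComponent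
  let e : G.left := ptOf G η[G]
  -- an affine open meeting the components of the points
  let comps : Finset (Set G.left) := Finset.univ.image fun i => C (g i)
  have hV : ∀ c : Set G.left, ∃ V : G.left.Opens, IsAffineOpen V ∧ (c ∈ comps → (V : Set G.left) ⊆ c ∧ (V : Set G.left).Nonempty) := by
    intro c
    by_cases hc : c ∈ comps
    · obtain ⟨i, -, rfl⟩ := Finset.mem_image.1 hc
      obtain ⟨V, hV, hiV, hVc⟩ := exists_isAffineOpen_mem_and_subset
        (show g i ∈ (⟨C (g i), isOpen_connectedComponent' G _⟩ : G.left.Opens) from mem_connectedComponent)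
      exact ⟨V, hV, fun _ => ⟨hVc, g i, hiV⟩⟩
    · exact ⟨⊥, isAffineOpen_bot _, fun h => (hc h).elim⟩
  choose V hVaff hVc using hV
  have hdis : (comps : Set (Set G.left)).Pairwise (Function.onFun Disjoint V) := by
    intro c hc c' hc' hne
    obtain ⟨i, -, rfl⟩ := Finset.mem_image.1 hc
    obtain ⟨j, -, rfl⟩ := Finset.mem_image.1 hc'
    rw [Function.onFun, ← Opens.coe_disjoint]
    exact (connectedComponent_disjoint hne).mono (hVc _ hc).1 (hVc _ hc').1
  let U : G.left.Opens := ⨆ c ∈ comps, V c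
  have hU : IsAffineOpen U := IsAffineOpen.biSup_of_disjoint comps.finite_toSet (fun c _ => hVaff c) hdis
  choose p hp using fun i => exists_ptOf_eq G (g i) (hg i)
  -- translating parameters
  let ψ : ∀ i, G ⟶ G := fun i => (𝟙 G)⁻¹ * (toUnit G ≫ p i)
  let ψ' : ∀ i, G ⟶ G := fun i => (toUnit G ≫ p i) * (𝟙 G)⁻¹
  have hψ : ∀ (i : Fin n) (h : 𝟙_ _ ⟶ G), (ψ i).left.base (ptOf G h) = ptOf G (h⁻¹ * p i) := fun i h => by
    have h0 : h ≫ ψ i = h⁻¹ * p i := by
      simp only [ψ, MonObj.comp_mul, GrpObj.comp_inv, Category.comp_id, ← Category.assoc, toUnit_unique (h ≫ toUnit G) (𝟙 _), Category.id_comp]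
    rw [← h0]; rfl
  have hψ' : ∀ (i : Fin n) (h : 𝟙_ _ ⟶ G), (ψ' i).left.base (ptOf G h) = ptOf G (p i * h⁻¹) := fun i h => by
    have h0 : h ≫ ψ' i = p i * h⁻¹ := by
      simp only [ψ', MonObj.comp_mul, GrpObj.comp_inv, Category.comp_id, ← Category.assoc, toUnit_unique (h ≫ toUnit G) (𝟙 _), Category.id_comp]
    rw [← h0]; rfl
  let O : Fin n → G.left.Opens := fun i => (ψ i).left ⁻¹ᵁ U
  have hne : ∀ i, (C e ∩ O i).Nonempty := by
    intro i
    have hci : C (g i) ∈ comps := Finset.mem_image_of_mem _ (Finset.mem_univ i)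
    obtain ⟨t, ht, htc⟩ := exists_closed_mem G (V _).isOpen (hVc _ hci).2
    obtain ⟨q, rfl⟩ := exists_ptOf_eq G t htc
    refine ⟨ptOf G (p i * q⁻¹), ?_, ?_⟩
    · have hsub := (isConnected_connectedComponent (x := g i)).image (ψ' i).left.base
        (ψ' i).left.base.hom.continuous.continuousOn
      have he : e ∈ (ψ' i).left.base '' C (g i) := by
        refine ⟨g i, mem_connectedComponent, ?_⟩
        rw [← hp i, hψ', mul_inv_cancel]
        simp [e, Hom.one_def]
      exact hsub.subset_connectedComponent he ⟨ptOf G q, (hVc _ hci).1 ht, hψ' i q⟩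
    · change (ψ i).left.base _ ∈ U
      rw [hψ, _root_.mul_inv_rev, _root_.inv_inv, inv_mul_cancel_right]
      exact Opens.mem_iSup.2 ⟨_, Opens.mem_iSup.2 ⟨hci, ht⟩⟩
  have hirr : IsIrreducible (C e) := isIrreducible_connectedComponent G e
  have hint : (C e ∩ ⋂ i, (O i : Set G.left)).Nonempty := by
    suffices H : ∀ s : Finset (Fin n), (C e ∩ ⋂ i ∈ s, (O i : Set G.left)).Nonempty by
      simpa using H Finset.univ
    intro s
    induction s using Finset.induction with
    | empty => exact ⟨e, mem_connectedComponent, by simp⟩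
    | insert a s ha ih =>
      obtain ⟨x, hx1, hx2, hx3⟩ := hirr.2 _ _ (O a).isOpen (isOpen_biInter_finset fun i _ => (O i).isOpen) (hne a) ih
      exact ⟨x, hx1, by simp only [Finset.set_biInter_insert]; exact ⟨hx2, hx3⟩⟩
  obtain ⟨x, hx, hxc⟩ := exists_closed_mem G
    ((isOpen_connectedComponent' G e).inter (isOpen_iInter_of_finite fun i => (O i).isOpen)) hint
  obtain ⟨h, rfl⟩ := exists_ptOf_eq G x hxc
  let φ : G ⟶ G := (toUnit G ≫ h⁻¹) * 𝟙 G
  let φ' : G ⟶ G := (toUnit G ≫ h) * 𝟙 G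
  have hφφ' : φ ≫ φ' = 𝟙 G := by
    simp only [φ, φ', MonObj.comp_mul, Category.comp_id, ← Category.assoc, toUnit_unique (_ ≫ toUnit G) (toUnit G)]
    rw [← _root_.mul_assoc, ← MonObj.comp_mul, mul_inv_cancel, MonObj.comp_one, _root_.one_mul]
  have hφ'φ : φ' ≫ φ = 𝟙 G := by
    simp only [φ, φ', MonObj.comp_mul, Category.comp_id, ← Category.assoc, toUnit_unique (_ ≫ toUnit G) (toUnit G)]
    rw [← _root_.mul_assoc, ← MonObj.comp_mul, inv_mul_cancel, MonObj.comp_one, _root_.one_mul]
  have : IsIso φ := ⟨φ', hφφ', hφ'φ⟩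
  have : IsIso φ.left := inferInstanceAs (IsIso ((Over.forget _).map φ))
  refine ⟨φ.left ⁻¹ᵁ U, hU.preimage φ.left, fun i => ?_⟩
  have h1 : φ.left.base (g i) = (ψ i).left.base (ptOf G h) := by
    have h0 : p i ≫ φ = h⁻¹ * p i := by
      simp only [φ, MonObj.comp_mul, Category.comp_id, ← Category.assoc, toUnit_unique (p i ≫ toUnit G) (𝟙 _), Category.id_comp]
    rw [hψ, ← h0, ← hp i]; rfl
  change φ.left.base (g i) ∈ U
  rw [h1]
  exact Set.mem_iInter.1 hx.2 i

end Groth.GrpschAbsch
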