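import Groth.Agent.GrpschAbsch.EtaleFiber
import Groth.Agent.Sga3.HopfFiniteDescent
import Mathlib.AlgebraicGeometry.Group.Affine
import Mathlib.AlgebraicGeometry.Morphisms.FlatRank

/-!
Finite group schemes over a field of order prime to the characteristic are étale.
-/

universe u

open CategoryTheory MonoidalCategory CartesianMonoidalCategory MonObj GrpObj AlgebraicGeometry
  CategoryTheory.Limits

namespace Groth.GrpschAbsch

theorem etale_of_finrank_ne_zero (K : Type u) [Field K] (G : Over (Spec (CommRingCat.of K))) [GrpObj G]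
    [IsFinite G.hom] (y : Spec (CommRingCat.of K)) (h : (G.hom.finrank y : K) ≠ 0) : Etale G.hom := by
  have hA : IsAffine G.left := isAffine_of_isAffineHom G.hom
  obtain ⟨H, ⟨e⟩⟩ := (essImage_hopfSpec (R := CommRingCat.of K) (G := Grp.mk G)).2 hA
  obtain ⟨H⟩ := H
  let X := (Spec (CommRingCat.of H)).asOver (Spec (CommRingCat.of K))
  let φ : X ≅ G := (Grp.forget (Over (Spec (CommRingCat.of K)))).mapIso e
  have : IsIso φ.hom.left := (Over.forget _).map_isIso φ.hom
  have hmap : φ.hom.left ≫ G.hom =
      (Spec.map (CommRingCat.ofHom (algebraMap K H)) : Spec (CommRingCat.of H) ⟶ Spec (CommRingCat.of K)) :=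
    Over.w φ.hom
  have hfin : Module.Finite K H := by
    have h1 : IsFinite (Spec.map (CommRingCat.ofHom (algebraMap K H))) := by
      have h2 : IsFinite (φ.hom.left ≫ G.hom) := inferInstance
      exact hmap ▸ h2
    exact RingHom.finite_algebraMap.1 ((IsFinite.SpecMap_iff _).1 h1)
  have hrank : G.hom.finrank y = Module.finrank K H := by
    have h2 : Scheme.Hom.finrank (φ.hom.left ≫ G.hom) y = Module.rankAtStalk H y := by
      rw [hmap]
      exact Scheme.Hom.finrank_SpecMap_algebraMap K H y
    rw [Scheme.Hom.finrank_comp_left_of_isIso φ.hom.left G.hom,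
      Module.rankAtStalk_eq_finrank_of_free] at h2
    exact h2.trans (Nat.cast_id _)
  have := Groth.Sga3.HopfFin.etale_of_rank_ne_zero K H (by rwa [← hrank])
  have h3 : Etale (φ.hom.left ≫ G.hom) := by
    rw [hmap]
    exact (HasRingHomProperty.Spec_iff (P := @Etale)).mpr (RingHom.etale_algebraMap.mpr this)
  exact (MorphismProperty.cancel_left_of_respectsIso @Etale _ _).mp h3

/-- A flat group scheme of finite presentation with finite fibres of order prime to the residue
characteristic is étale. -/
theorem etale_of_fiber_finrank_ne_zero {S : Scheme.{u}} (G : Over S) [GrpObj G]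
    [LocallyOfFinitePresentation G.hom] [Flat G.hom]
    (hfin : ∀ s : S, IsFinite (pullback.snd G.hom (S.fromSpecResidueField s)))
    (h : ∀ s : S, ((pullback.snd G.hom (S.fromSpecResidueField s)).finrank
      (IsLocalRing.closedPoint (S.residueField s)) : S.residueField s) ≠ 0) : Etale G.hom := by
  refine etale_of_etale_fiber G.hom fun s ↦ ?_
  let : GrpObj (Over.mk G.hom) := ‹GrpObj G›
  let : GrpObj (Over.mk (pullback.snd G.hom (S.fromSpecResidueField s))) := Over.grpObjMkPullbackSnd
  have : IsFinite (Over.mk (pullback.snd G.hom (S.fromSpecResidueField s))).hom := hfin s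
  exact etale_of_finrank_ne_zero (S.residueField s)
    (Over.mk (pullback.snd G.hom (S.fromSpecResidueField s))) _ (h s)

end Groth.GrpschAbsch
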