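import Groth.Agent.GrpschAbsch.GrpEtale
import Mathlib.RingTheory.Unramified.Locus

/-!
Étaleness of endomorphisms near a fixed rational point; power maps near central rational points.
-/

universe u

open CategoryTheory CategoryTheory.Limits MonoidalCategory CartesianMonoidalCategory MonObj GrpObj
  AlgebraicGeometry TopologicalSpace TrivSqZeroExt

namespace Groth.GrpschAbsch

variable {k : Type u} [Field k]

/-- A morphism injective on the tangent vectors at a rational point is unramified near it. -/
theorem exists_formallyUnramified_nhd {X Y : Over (Spec (CommRingCat.of k))} [LocallyOfFiniteType X.hom]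
    (x : 𝟙_ (Over (Spec (CommRingCat.of k))) ⟶ X) (f : X ⟶ Y)
    (h : ∀ z : specOver k (TrivSqZeroExt k k) ⟶ X, base ≫ z = toUnit _ ≫ x →
      z ≫ f = toUnit _ ≫ x ≫ f → z = toUnit _ ≫ x) :
    ∃ W : X.left.Opens, x.left (IsLocalRing.closedPoint k) ∈ W ∧ FormallyUnramified (W.ι ≫ f.left) := by
  have : LocallyOfFiniteType (f.left ≫ Y.hom) := by rw [Over.w]; infer_instance
  have : LocallyOfFiniteType f.left := locallyOfFiniteType_of_comp f.left Y.hom
  let x₀ : Spec (CommRingCat.of k) ⟶ X.left := x.left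
  obtain ⟨_, ⟨V, (hV : IsAffineOpen V), rfl⟩, hyV, -⟩ := Y.left.isBasis_affineOpens.exists_subset_of_mem_open
    (Set.mem_univ (f.left (x₀ (IsLocalRing.closedPoint k)))) isOpen_univ
  obtain ⟨_, ⟨U, (hU : IsAffineOpen U), rfl⟩, hxU, hUV : U ≤ f.left ⁻¹ᵁ V⟩ :=
    X.left.isBasis_affineOpens.exists_subset_of_mem_open hyV (f.left ⁻¹ᵁ V).isOpen
  have hr : Set.range x₀ ⊆ Set.range hU.fromSpec := by
    rw [hU.range_fromSpec]
    rintro _ ⟨s, rfl⟩
    rw [show s = IsLocalRing.closedPoint k from @Subsingleton.elim _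
      (inferInstanceAs (Subsingleton ↥(Spec (CommRingCat.of k)))) _ _]
    exact hxU
  let A := Γ(Y.left, V)
  let B := Γ(X.left, U)
  let φ₀ : A ⟶ B := f.left.appLE V U hUV
  let ιA : CommRingCat.of k ⟶ A := Spec.preimage (hV.fromSpec ≫ Y.hom)
  let : Algebra A B := φ₀.hom.toAlgebra
  let : Algebra k B := (ιA ≫ φ₀).hom.toAlgebra
  have hι : Spec.map (CommRingCat.ofHom (algebraMap k B)) = hU.fromSpec ≫ X.hom := by
    show Spec.map (ιA ≫ φ₀) = _
    rw [Spec.map_comp, show Spec.map ιA = hV.fromSpec ≫ Y.hom from Spec.map_preimage _, ← Category.assoc,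
      hV.SpecMap_appLE_fromSpec f.left hU hUV, Category.assoc, Over.w f]
  let ε₀ : B ⟶ CommRingCat.of k := Spec.preimage (IsOpenImmersion.lift hU.fromSpec x₀ hr)
  have hε₀ : Spec.map ε₀ ≫ hU.fromSpec = x₀ := by
    rw [Spec.map_preimage, IsOpenImmersion.lift_fac]
  have hιε : CommRingCat.ofHom (algebraMap k B) ≫ ε₀ = 𝟙 _ := Spec.map_injective (by
    rw [Spec.map_comp, hι, reassoc_of% hε₀, Spec.map_id]
    exact Over.w x)
  let ε : B →ₐ[k] k := { ε₀.hom with commutes' := fun c ↦ congr($hιε c) }
  have hft : φ₀.hom.FiniteType := f.left.finiteType_appLE hV hU hUV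
  have : Algebra.FiniteType A B := hft
  let q : Ideal B := RingHom.ker ε₀.hom
  have hsurj : Function.Surjective ε₀.hom := fun c ↦ ⟨algebraMap k B c, ε.commutes c⟩
  have : q.IsMaximal := RingHom.ker_isMaximal_of_surjective _ hsurj
  have hΩ : (⊤ : Submodule B Ω[B⁄A]) ≤ q • ⊤ := by
    let W : Submodule k B := (q * q).restrictScalars k ⊔ Submodule.span k (Set.range (algebraMap A B))
    by_cases hW : W = ⊤
    · refine (KaehlerDifferential.span_range_derivation A B).ge.trans (Submodule.span_le.mpr ?_)
      rintro _ ⟨b, rfl⟩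
      obtain ⟨p, hp, a, ha, hb⟩ := Submodule.mem_sup.mp (hW.ge (Submodule.mem_top (x := b)))
      have ha0 : KaehlerDifferential.D A B a = 0 := by
        clear hb
        induction ha using Submodule.span_induction with
        | mem c hc => obtain ⟨c, rfl⟩ := hc; exact Derivation.map_algebraMap _ _
        | zero => exact map_zero _
        | add c d _ _ hc hd => rw [map_add, hc, hd, add_zero]
        | smul r c _ hc =>
          rw [Algebra.smul_def, Derivation.leibniz, hc, smul_zero, zero_add,
            show algebraMap k B r = algebraMap A B (ιA.hom r) from rfl, Derivation.map_algebraMap, smul_zero]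
      rw [SetLike.mem_coe, ← hb, map_add, ha0, add_zero]
      have hp' : p ∈ q * q := hp
      refine Submodule.mul_induction_on (C := fun t ↦ KaehlerDifferential.D A B t ∈ q • (⊤ : Submodule B Ω[B⁄A]))
        hp' (fun m hm n hn ↦ ?_) (fun s t hs ht ↦ by rw [map_add]; exact add_mem hs ht)
      rw [Derivation.leibniz]
      exact add_mem (Submodule.smul_mem_smul hm trivial) (Submodule.smul_mem_smul hn trivial)
    · exfalso
      obtain ⟨b₀, hb₀⟩ : ∃ b, b ∉ W := by
        by_contra! hall; exact hW (eq_top_iff.mpr fun b _ ↦ hall b)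
      obtain ⟨l, hla, hlW⟩ := Submodule.exists_dual_map_eq_bot_of_notMem hb₀ inferInstance
      have hlW' : ∀ w ∈ W, l w = 0 := fun w hw ↦ by
        have : l w ∈ W.map l := ⟨w, hw, rfl⟩
        rw [hlW] at this; exact this
      have hlA : ∀ a, l (algebraMap A B a) = 0 := fun a ↦
        hlW' _ (Submodule.mem_sup_right (Submodule.subset_span ⟨a, rfl⟩))
      have hl1 : l 1 = 0 := by rw [← map_one (algebraMap A B)]; exact hlA 1
      have hmem : ∀ b : B, b - algebraMap k B (ε b) ∈ q := fun b ↦ by
        show ε (b - algebraMap k B (ε b)) = 0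
        simp
      have hleib : ∀ b c : B, l (b * c) = ε b * l c + ε c * l b := fun b c ↦ by
        have h2 := hlW' _ (Submodule.mem_sup_left (Ideal.mul_mem_mul (hmem b) (hmem c)))
        rw [show (b - algebraMap k B (ε b)) * (c - algebraMap k B (ε c)) =
            b * c - ε b • c - ε c • b + (ε b * ε c) • (1 : B) by
          simp only [Algebra.smul_def, map_mul]; ring] at h2
        simp only [map_add, map_sub, map_smul, smul_eq_mul, hl1, mul_zero, add_zero] at h2
        linear_combination h2
      let φ : B →ₐ[k] TrivSqZeroExt k k := AlgHom.ofLinearMap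
        { toFun := fun b ↦ inl (ε b) + inr (l b)
          map_add' := fun b c ↦ by ext <;> simp
          map_smul' := fun r b ↦ by ext <;> simp }
        (by ext <;> simp [hl1]) (fun b c ↦ by ext <;> simp [hleib]; ring)
      let z : specOver k (TrivSqZeroExt k k) ⟶ X := Over.homMk
        (Spec.map (CommRingCat.ofHom φ.toRingHom) ≫ hU.fromSpec) (by
          show (_ ≫ hU.fromSpec) ≫ X.hom = Spec.map _
          rw [Category.assoc, ← hι, ← Spec.map_comp, ← CommRingCat.ofHom_comp]
          exact congrArg (fun r ↦ Spec.map (CommRingCat.ofHom r)) φ.comp_algebraMap)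
      let c₀ := CommRingCat.ofHom ((Algebra.ofId k (TrivSqZeroExt k k)).comp ε).toRingHom
      have hc₀ : (toUnit (specOver k (TrivSqZeroExt k k)) ≫ x).left = Spec.map c₀ ≫ hU.fromSpec := by
        show Spec.map _ ≫ x₀ = _
        rw [← hε₀, ← Spec.map_comp_assoc]
        rfl
      have hz : base ≫ z = toUnit _ ≫ x := by
        refine Over.OverMorphism.ext ?_
        have hk : (toUnit (specOver k k)).left = 𝟙 (Spec (CommRingCat.of k)) := Spec.map_id _
        rw [Over.comp_left, Over.comp_left, hk]
        show Spec.map _ ≫ Spec.map _ ≫ hU.fromSpec = 𝟙 _ ≫ x₀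
        rw [Category.id_comp, ← hε₀, ← Spec.map_comp_assoc, ← CommRingCat.ofHom_comp]
        congr 2
        ext b
        show (fstHom k k k) (φ b) = ε b
        simp [φ]
      have hzf : z ≫ f = toUnit _ ≫ x ≫ f := by
        refine Over.OverMorphism.ext ?_
        rw [← Category.assoc (toUnit (specOver k (TrivSqZeroExt k k))) x f]
        show z.left ≫ f.left = (toUnit (specOver k (TrivSqZeroExt k k)) ≫ x).left ≫ f.left
        rw [hc₀]
        show (Spec.map _ ≫ hU.fromSpec) ≫ f.left = (Spec.map c₀ ≫ hU.fromSpec) ≫ f.left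
        rw [Category.assoc, Category.assoc, ← hV.SpecMap_appLE_fromSpec f.left hU hUV, ← Spec.map_comp_assoc,
          ← Spec.map_comp_assoc]
        congr 2
        refine CommRingCat.hom_ext (RingHom.ext fun a ↦ ?_)
        show φ (algebraMap A B a) = algebraMap k _ (ε (algebraMap A B a))
        simp [φ, hlA, TrivSqZeroExt.algebraMap_eq_inl]
      have hzl := congrArg (fun g ↦ g.left) (h z hz hzf)
      rw [hc₀] at hzl
      have hφ := Spec.map_injective ((cancel_mono hU.fromSpec).mp hzl)
      have := congrArg TrivSqZeroExt.snd (congr($hφ b₀) : φ b₀ = algebraMap k _ (ε b₀))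
      simp [φ, TrivSqZeroExt.algebraMap_eq_inl] at this
      exact hla this
  obtain ⟨r, hr1, hr2⟩ := Submodule.exists_sub_one_mem_and_smul_eq_zero_of_fg_of_le_smul q ⊤
    Module.Finite.fg_top hΩ
  have hrq : r ∉ q := fun hrq ↦ (inferInstance : q.IsMaximal).ne_top
    ((Ideal.eq_top_iff_one _).mpr (by simpa using sub_mem hrq hr1))
  have : Algebra.IsUnramifiedAt A q := by
    show (⟨q, inferInstance⟩ : PrimeSpectrum B) ∈ Algebra.unramifiedLocus A B
    rw [Algebra.unramifiedLocus_eq_compl_support, Set.mem_compl_iff, Module.notMem_support_iff',]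
    intro m
    exact ⟨r, hrq, hr2 m trivial⟩
  obtain ⟨g, hgq, hg⟩ := Algebra.exists_formallyUnramified_of_isUnramifiedAt (R := A) q
  refine ⟨X.left.basicOpen g, ?_, ?_⟩
  · rw [← hU.fromSpec_image_basicOpen]
    refine ⟨(Spec.map ε₀) (IsLocalRing.closedPoint k), ?_, ?_⟩
    · show g ∉ (Ideal.comap ε₀.hom (IsLocalRing.maximalIdeal k))
      rw [IsLocalRing.maximalIdeal_eq_bot]
      exact hgq
    · show hU.fromSpec ((Spec.map ε₀) (IsLocalRing.closedPoint k)) = _
      rw [← Scheme.Hom.comp_apply, hε₀]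
  · have hW : IsAffineOpen (X.left.basicOpen g) := hU.basicOpen g
    have eW : X.left.basicOpen g ≤ f.left ⁻¹ᵁ V := (X.left.basicOpen_le g).trans hUV
    have hloc : (f.left.appLE V (X.left.basicOpen g) eW).hom.FormallyUnramified := by
      have := hU.isLocalization_basicOpen g
      let eg := (IsLocalization.algEquiv (Submonoid.powers g) (Localization.Away g) Γ(X.left, X.left.basicOpen g)).toRingEquiv
      have e1 : (f.left.appLE V (X.left.basicOpen g) eW).hom =
          eg.toRingHom.comp ((algebraMap B (Localization.Away g)).comp φ₀.hom) := by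
        rw [← f.left.appLE_map hUV (homOfLE (X.left.basicOpen_le g)).op, CommRingCat.hom_comp, ← RingHom.comp_assoc]
        congr 1
        ext a
        exact (AlgEquiv.commutes (IsLocalization.algEquiv (Submonoid.powers g) (Localization.Away g)
          Γ(X.left, X.left.basicOpen g)) a).symm
      rw [e1]
      refine RingHom.FormallyUnramified.respectsIso.1 _ eg ?_
      have hcc : ((algebraMap B (Localization.Away g)).comp φ₀.hom) = algebraMap A (Localization.Away g) :=
        (IsScalarTower.algebraMap_eq A B (Localization.Away g)).symm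
      rw [hcc]
      exact RingHom.formallyUnramified_algebraMap.mpr hg
    have hfu : FormallyUnramified (Spec.map (f.left.appLE V (X.left.basicOpen g) eW)) :=
      (HasRingHomProperty.Spec_iff (P := @FormallyUnramified)).mpr hloc
    have e2 : (X.left.basicOpen g).ι ≫ f.left =
        hW.isoSpec.hom ≫ Spec.map (f.left.appLE V (X.left.basicOpen g) eW) ≫ hV.fromSpec := by
      rw [hV.SpecMap_appLE_fromSpec f.left hW eW, hW.isoSpec_hom_fromSpec_assoc]
    rw [e2]
    exact MorphismProperty.comp_mem @FormallyUnramified _ _ inferInstance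
      (MorphismProperty.comp_mem @FormallyUnramified _ _ hfu inferInstance)

/-- An endomorphism injective on the tangent vectors at a fixed rational point is étale near it. -/
theorem exists_etale_nhd_of_fixed {X : Over (Spec (CommRingCat.of k))} [LocallyOfFiniteType X.hom]
    (x : 𝟙_ (Over (Spec (CommRingCat.of k))) ⟶ X) (f : X ⟶ X) (hx : x ≫ f = x)
    (h : ∀ z : specOver k (TrivSqZeroExt k k) ⟶ X, base ≫ z = toUnit _ ≫ x →
      z ≫ f = toUnit _ ≫ x → z = toUnit _ ≫ x) :
    ∃ U : X.left.Opens, x.left (IsLocalRing.closedPoint k) ∈ U ∧ Etale (U.ι ≫ f.left) := by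
  obtain ⟨W, hW, hWu⟩ := exists_formallyUnramified_nhd x f fun z hz hzf ↦ h z hz (by rwa [hx] at hzf)
  have := Groth.AlgGrp1.lfp_left f
  have hflat := flat_stalkMap_of_fixed_of_mem x f W hW hx
  let U : X.left.Opens := ⟨{y | (f.left.stalkMap y).hom.Flat}, Groth.Agent.S0386.result f.left⟩
  refine ⟨W ⊓ U, ⟨hW, hflat⟩, ?_⟩
  have hfl : Flat ((W ⊓ U).ι ≫ f.left) := by
    rw [Flat.iff_flat_stalkMap]
    intro z
    rw [Scheme.Hom.stalkMap_comp]
    exact RingHom.Flat.comp z.2.2 ((Flat.iff_flat_stalkMap _).mp inferInstance z)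
  have hfu : FormallyUnramified ((W ⊓ U).ι ≫ f.left) := by
    rw [← Scheme.homOfLE_ι X.left (inf_le_left : W ⊓ U ≤ W), Category.assoc]
    exact MorphismProperty.comp_mem @FormallyUnramified _ _ inferInstance hWu
  exact Etale.of_formallyUnramified_of_flat _

/-- Translation by a rational point. -/
noncomputable def translateIso {G : Over (Spec (CommRingCat.of k))} [GrpObj G]
    (c : 𝟙_ (Over (Spec (CommRingCat.of k))) ⟶ G) : G ≅ G where
  hom := (toUnit G ≫ c) * 𝟙 G
  inv := (toUnit G ≫ c)⁻¹ * 𝟙 G
  hom_inv_id := by simp [MonObj.comp_mul, GrpObj.comp_inv]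
  inv_hom_id := by simp [MonObj.comp_mul]

lemma comp_translateIso {G T : Over (Spec (CommRingCat.of k))} [GrpObj G]
    (c : 𝟙_ (Over (Spec (CommRingCat.of k))) ⟶ G) (a : T ⟶ G) :
    a ≫ (translateIso c).hom = (toUnit T ≫ c) * a := by
  simp [translateIso, MonObj.comp_mul]

/-- Power maps prime to the characteristic are étale near central rational points. -/
theorem exists_etale_nhd_pow {G : Over (Spec (CommRingCat.of k))} [GrpObj G] [LocallyOfFiniteType G.hom]
    (n : ℕ) (hn : (n : k) ≠ 0) (g : 𝟙_ (Over (Spec (CommRingCat.of k))) ⟶ G)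
    (hg : ∀ (X : Over (Spec (CommRingCat.of k))) (x : X ⟶ G), (toUnit X ≫ g) * x = x * (toUnit X ≫ g)) :
    ∃ U : G.left.Opens, g.left (IsLocalRing.closedPoint k) ∈ U ∧ Etale (U.ι ≫ (𝟙 G ^ n).left) := by
  let τ := translateIso (g * (g ^ n)⁻¹)
  let f := (𝟙 G ^ n) ≫ τ.hom
  have hgn : ∀ {T} (a : T ⟶ G), a ≫ (𝟙 G ^ n) = a ^ n := fun a ↦ by
    rw [MonObj.comp_pow, Category.comp_id]
  have hgf : g ≫ f = g := by
    rw [← Category.assoc, hgn, comp_translateIso]
    rw [toUnit_unique (toUnit (𝟙_ (Over (Spec (CommRingCat.of k))))) (𝟙 _), Category.id_comp,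
      inv_mul_cancel_right]
  obtain ⟨U, hgU, hU⟩ := exists_etale_nhd_of_fixed g f hgf fun z hz hzf ↦ by
    let T := specOver k (TrivSqZeroExt k k)
    let z' : T ⟶ G := (toUnit T ≫ g)⁻¹ * z
    have hz' : base ≫ z' = 1 := by
      simp only [z', MonObj.comp_mul, GrpObj.comp_inv, hz]
      rw [← Category.assoc, toUnit_unique (base ≫ toUnit T) (toUnit _), inv_mul_cancel]
    have hzz : z = (toUnit T ≫ g) * z' := by simp [z']
    have hpow : z ^ n = (toUnit T ≫ g) ^ n * z' ^ n := by
      rw [hzz]; exact Commute.mul_pow (hg T z') n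
    rw [← Category.assoc, hgn, comp_translateIso, hpow, MonObj.comp_mul, GrpObj.comp_inv, MonObj.comp_pow,
      ← _root_.mul_assoc, inv_mul_cancel_right] at hzf
    have h1 : z' ^ n = 1 := mul_left_cancel (hzf.trans (_root_.mul_one _).symm)
    rw [hzz, eq_one_of_zpow_eq_one hz' n (by exact_mod_cast hn) (by rw [zpow_natCast]; exact h1),
      _root_.mul_one]
  refine ⟨U, hgU, ?_⟩
  have e : (U.ι ≫ (𝟙 G ^ n).left) = (U.ι ≫ f.left) ≫ τ.inv.left := by
    simp only [f, Over.comp_left, Category.assoc]
    rw [← Over.comp_left, τ.hom_inv_id, Over.id_left, Category.comp_id]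
  rw [e]
  infer_instance

end Groth.GrpschAbsch
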