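import Groth.Agent.SiteCohomology.HomShDual

/-!
Comparison of internal Hom sheaves along a short exact sequence when one of the three Hom sheaves vanishes.
-/

set_option autoImplicit false
set_option maxHeartbeats 1000000
set_option synthInstance.maxHeartbeats 400000
set_option backward.isDefEq.respectTransparency false
set_option linter.style.haveILetI false

universe u

open CategoryTheory Limits Opposite Groth.SiteCohomology.HomShDual

namespace Groth.GrpschAbsch.HomShSeq

variable {C : Type (u + 1)} [Category.{u} C] {J : GrothendieckTopology C}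
  [HasSheafify J AddCommGrpCat.{u + 1}] [J.WEqualsLocallyBijective AddCommGrpCat.{u + 1}]
  [∀ X : C, HasSheafify (J.over X) AddCommGrpCat.{u + 1}]
  {S : ShortComplex (Sheaf J AddCommGrpCat.{u + 1})}

omit [∀ X : C, HasSheafify (J.over X) AddCommGrpCat.{u + 1}] [HasSheafify J AddCommGrpCat.{u + 1}]
  [J.WEqualsLocallyBijective AddCommGrpCat.{u + 1}] in
theorem sect_eq_zero {F : Sheaf J AddCommGrpCat.{u + 1}} (h : IsZero F) (X : C) (s : F.obj.obj (op X)) : s = 0 :=
  ConcreteCategory.congr_hom (congrArg (fun m : F ⟶ F => m.hom.app (op X)) ((IsZero.iff_id_eq_zero _).1 h)) s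

theorem isIso_of_sect {A B : Sheaf J AddCommGrpCat.{u + 1}} (f : A ⟶ B)
    (h : ∀ X : C, Function.Bijective (f.hom.app (op X))) : IsIso f := by
  haveI : ∀ X, IsIso (f.hom.app X) := fun X => (ConcreteCategory.isIso_iff_bijective _).2 (h (unop X))
  haveI : IsIso ((sheafToPresheaf J AddCommGrpCat.{u + 1}).map f) := NatIso.isIso_of_isIso_app f.hom
  exact isIso_of_reflects_iso f (sheafToPresheaf J AddCommGrpCat.{u + 1})

theorem mono_left (hS : S.ShortExact) (M : Sheaf J AddCommGrpCat.{u + 1})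
    (h : IsZero (HomSh.homSh J S.X₃ M)) : Mono (HomSh.homShMap J S.f (𝟙 M)) := by
  refine Groth.AbSchBiext.mono_of_injective_app _ fun X => (injective_iff_map_eq_zero _).2 fun φ hφ => ?_
  obtain ⟨ψ, hψ⟩ := dual_exact hS M X φ hφ
  rw [sect_eq_zero h X ψ] at hψ
  exact hψ.symm.trans (map_zero ((dual S M).f.hom.app (op X)).hom)

theorem isIso_left (hS : S.ShortExact) (M : Sheaf J AddCommGrpCat.{u + 1})
    (h : IsZero (HomSh.homSh J S.X₁ M)) : IsIso (HomSh.homShMap J S.g (𝟙 M)) :=
  isIso_of_sect _ fun X => ⟨dual_f_injective hS M X, fun φ => dual_exact hS M X φ (sect_eq_zero h X _)⟩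

theorem map_right_apply (Q : Sheaf J AddCommGrpCat.{u + 1}) {A B : Sheaf J AddCommGrpCat.{u + 1}} (m : A ⟶ B) (X : C)
    (φ : Q.over X ⟶ A.over X) :
    ((HomSh.homShMap J (𝟙 Q) m).hom.app (op X) φ : Q.over X ⟶ B.over X) =
      φ ≫ (J.overPullback AddCommGrpCat.{u + 1} X).map m := by
  rw [HomSh.homShMap_app_apply]
  simp

theorem mono_right (hS : S.ShortExact) (Q : Sheaf J AddCommGrpCat.{u + 1})
    (h : IsZero (HomSh.homSh J Q S.X₁)) : Mono (HomSh.homShMap J (𝟙 Q) S.g) := by
  refine Groth.AbSchBiext.mono_of_injective_app _ fun X => (injective_iff_map_eq_zero _).2 fun φ hφ => ?_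
  have he := over_shortExact X hS
  haveI : Mono (S.map (J.overPullback AddCommGrpCat.{u + 1} X)).f := he.mono_f
  rw [map_right_apply] at hφ
  let φ' : Q.over X ⟶ S.X₂.over X := φ
  have hφ' : φ' ≫ (S.map (J.overPullback AddCommGrpCat.{u + 1} X)).g = 0 := hφ
  have hl := he.exact.lift_f φ' hφ'
  rw [show he.exact.lift φ' hφ' = 0 from sect_eq_zero h X _, zero_comp] at hl
  exact hl.symm

theorem isIso_right (hS : S.ShortExact) (Q : Sheaf J AddCommGrpCat.{u + 1})
    (h : IsZero (HomSh.homSh J Q S.X₃)) : IsIso (HomSh.homShMap J (𝟙 Q) S.f) := by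
  refine isIso_of_sect _ fun X => ?_
  have he := over_shortExact X hS
  haveI : Mono (S.map (J.overPullback AddCommGrpCat.{u + 1} X)).f := he.mono_f
  refine ⟨fun φ φ' hφ => ?_, fun φ => ?_⟩
  · rw [map_right_apply, map_right_apply] at hφ
    exact (cancel_mono (S.map (J.overPullback AddCommGrpCat.{u + 1} X)).f).1 hφ
  · let φ' : Q.over X ⟶ S.X₂.over X := φ
    have hφ' : φ' ≫ (S.map (J.overPullback AddCommGrpCat.{u + 1} X)).g = 0 := sect_eq_zero h X _
    exact ⟨he.exact.lift φ' hφ', (map_right_apply _ _ _ _).trans (he.exact.lift_f φ' hφ')⟩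

end Groth.GrpschAbsch.HomShSeq
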