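import Mathlib.Algebra.Lie.Basic
import Mathlib.LinearAlgebra.Determinant
import Mathlib.LinearAlgebra.Matrix.Determinant.Basic
import Mathlib.Data.Fin.VecNotation
import Mathlib.Tactic.FinCases
import Mathlib.Tactic.Abel
import Mathlib.Tactic.Module

/-!
Three dimensional Lie algebras in coordinates.
-/

universe u v w

namespace Groth.GrpschAbsch.Lie3

variable {A : Type u} [CommRing A] {L : Type v} [LieRing L] [LieAlgebra A L]

lemma eq_sum (bs : Module.Basis (Fin 3) A L) (v : L) :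
    v = bs.repr v 0 • bs 0 + bs.repr v 1 • bs 1 + bs.repr v 2 • bs 2 := by
  exact (bs.sum_repr v).symm.trans (Fin.sum_univ_three _)

lemma lie_expand (x y z : L) (a b c a' b' c' : A) :
    ⁅a • x + b • y + c • z, a' • x + b' • y + c' • z⁆ =
      (a * b' - b * a') • ⁅x, y⁆ + (a * c' - c * a') • ⁅x, z⁆ + (b * c' - c * b') • ⁅y, z⁆ := by
  simp only [lie_add, add_lie, lie_smul, smul_lie, lie_self, smul_zero]
  rw [← lie_skew y x, ← lie_skew z x, ← lie_skew z y]
  module

variable {L' : Type w} [LieRing L'] [LieAlgebra A L']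

lemma map_eq_sum (φ : L →ₗ[A] L') (bs' : Module.Basis (Fin 3) A L') (v : L) :
    φ v = bs'.repr (φ v) 0 • bs' 0 + bs'.repr (φ v) 1 • bs' 1 + bs'.repr (φ v) 2 • bs' 2 :=
  eq_sum bs' (φ v)

/-- Coefficients of a combination of basis vectors. -/
lemma repr_comb (bs : Module.Basis (Fin 3) A L) (a b c : A) :
    bs.repr (a • bs 0 + b • bs 1 + c • bs 2) 0 = a ∧
    bs.repr (a • bs 0 + b • bs 1 + c • bs 2) 1 = b ∧
    bs.repr (a • bs 0 + b • bs 1 + c • bs 2) 2 = c := by
  refine ⟨?_, ?_, ?_⟩ <;> simp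

/-- The determinant of the coordinates of an equivalence is a unit. -/
lemma isUnit_det {bs : Module.Basis (Fin 3) A L} {bs' : Module.Basis (Fin 3) A L'}
    (φ : L ≃ₗ[A] L') {a b c d e f g h i : A}
    (h0 : φ (bs 0) = a • bs' 0 + b • bs' 1 + c • bs' 2)
    (h1 : φ (bs 1) = d • bs' 0 + e • bs' 1 + f • bs' 2)
    (h2 : φ (bs 2) = g • bs' 0 + h • bs' 1 + i • bs' 2) :
    IsUnit (a * e * i - a * h * f - d * b * i + d * h * c + g * b * f - g * e * c) := by
  have := LinearEquiv.isUnit_det φ bs bs'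
  rw [Matrix.det_fin_three] at this
  simpa [LinearMap.toMatrix_apply, h0, h1, h2, Finsupp.single_apply] using this

/-- Linear maps preserving the brackets of basis vectors preserve all brackets. -/
lemma map_lie_of_basis (bs : Module.Basis (Fin 3) A L) (φ : L →ₗ[A] L')
    (h01 : φ ⁅bs 0, bs 1⁆ = ⁅φ (bs 0), φ (bs 1)⁆) (h02 : φ ⁅bs 0, bs 2⁆ = ⁅φ (bs 0), φ (bs 2)⁆)
    (h12 : φ ⁅bs 1, bs 2⁆ = ⁅φ (bs 1), φ (bs 2)⁆) (u v : L) : φ ⁅u, v⁆ = ⁅φ u, φ v⁆ := by
  rw [eq_sum bs u, eq_sum bs v, lie_expand, map_add, map_add, map_smul, map_smul, map_smul,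
    h01, h02, h12, map_add, map_add, map_add, map_add, map_smul, map_smul, map_smul, map_smul,
    map_smul, map_smul, lie_expand]

end Groth.GrpschAbsch.Lie3
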