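import Groth.Agent.GrpschAbsch.TorusToAbelianSheaf
import Groth.Agent.GrpschAbsch.H0General
import Groth.Agent.GrpschAbsch.FibreFlat

/-!
Morphisms from a proper flat family with `f_* O = O` to a relatively affine scheme factor through the base; hence the
sheaf of homomorphisms from an abelian scheme to a relatively affine group scheme is zero.
-/

set_option autoImplicit false
set_option linter.style.haveILetI false
set_option synthInstance.maxHeartbeats 200000
set_option maxHeartbeats 1000000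
universe u

open CategoryTheory Limits MonoidalCategory CartesianMonoidalCategory MonObj GrpObj AlgebraicGeometry Opposite

noncomputable section

namespace Groth.GrpschAbsch.ProperToAffine

theorem eq_of_affine {X S Y B : Scheme.{u}} (ξ : X ⟶ S) (h0 : ∀ U : S.Opens, Function.Bijective (ξ.app U).hom)
    (e : S ⟶ X) (he : e ≫ ξ = 𝟙 S) (h : Y ⟶ B) [IsAffineHom h] (u : S ⟶ B) (f : X ⟶ Y) (hf : f ≫ h = ξ ≫ u) :
    f = ξ ≫ e ≫ f := by
  refine Scheme.hom_ext_of_forall _ _ fun x => ?_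
  obtain ⟨_, ⟨V', hV, rfl⟩, hxV, -⟩ :=
    B.isBasis_affineOpens.exists_subset_of_mem_open (Set.mem_univ (u (ξ x))) isOpen_univ
  let V : B.Opens := V'
  haveI : IsAffine (h ⁻¹ᵁ V).toScheme := IsAffineHom.isAffine_preimage V hV
  let W := u ⁻¹ᵁ V
  refine ⟨ξ ⁻¹ᵁ W, hxV, ?_⟩
  have hfV : ∀ y : X, y ∈ ξ ⁻¹ᵁ W → f y ∈ h ⁻¹ᵁ V := fun y hy => by
    show h (f y) ∈ V
    rw [← Scheme.Hom.comp_apply, hf, Scheme.Hom.comp_apply]
    exact hy
  let f' : (ξ ⁻¹ᵁ W).toScheme ⟶ (h ⁻¹ᵁ V).toScheme := IsOpenImmersion.lift (h ⁻¹ᵁ V).ι ((ξ ⁻¹ᵁ W).ι ≫ f) (by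
    rw [Scheme.Opens.range_ι]
    rintro _ ⟨y, rfl⟩
    exact hfV y.1 y.2)
  have hf' : f' ≫ (h ⁻¹ᵁ V).ι = (ξ ⁻¹ᵁ W).ι ≫ f := IsOpenImmersion.lift_fac _ _ _
  let e' : W.toScheme ⟶ (ξ ⁻¹ᵁ W).toScheme := IsOpenImmersion.lift (ξ ⁻¹ᵁ W).ι (W.ι ≫ e) (by
    rw [Scheme.Opens.range_ι]
    rintro _ ⟨y, rfl⟩
    show ξ ((W.ι ≫ e) y) ∈ W
    rw [Scheme.Hom.comp_apply, ← Scheme.Hom.comp_apply e, he]
    exact y.2)
  have he1 : e' ≫ (ξ ⁻¹ᵁ W).ι = W.ι ≫ e := IsOpenImmersion.lift_fac _ _ _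
  have he' : e' ≫ (ξ ∣_ W) = 𝟙 _ := by
    rw [← cancel_mono W.ι, Category.assoc, morphismRestrict_ι, ← Category.assoc, he1, Category.assoc, he,
      Category.comp_id, Category.id_comp]
  have hsurj : Function.Surjective (ξ ∣_ W).appTop.hom := by
    rw [morphismRestrict_appTop]
    exact (ConcreteCategory.bijective_of_isIso (X.presheaf.map _)).2.comp (h0 _).2
  have key : f' = (ξ ∣_ W) ≫ e' ≫ f' := by
    refine ext_of_isAffine (CommRingCat.hom_ext (RingHom.ext fun r => ?_))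
    obtain ⟨a, ha⟩ := hsurj (f'.appTop r)
    have h1 := DFunLike.congr_fun (congrArg (fun φ : W.toScheme ⟶ W.toScheme => φ.appTop.hom) he') a
    simp only [Scheme.Hom.comp_appTop, Scheme.Hom.id_appTop, CommRingCat.hom_comp, CommRingCat.hom_id,
      RingHom.comp_apply, RingHom.id_apply] at h1
    simp only [Scheme.Hom.comp_appTop, CommRingCat.hom_comp, RingHom.comp_apply]
    rw [← ha, h1, ha]
  calc (ξ ⁻¹ᵁ W).ι ≫ f = f' ≫ (h ⁻¹ᵁ V).ι := hf'.symm
    _ = ((ξ ∣_ W) ≫ e' ≫ f') ≫ (h ⁻¹ᵁ V).ι := congrArg (· ≫ (h ⁻¹ᵁ V).ι) key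
    _ = (ξ ∣_ W) ≫ W.ι ≫ e ≫ f := by simp only [Category.assoc, hf', reassoc_of% he1]
    _ = (ξ ⁻¹ᵁ W).ι ≫ ξ ≫ e ≫ f := morphismRestrict_ι_assoc _ _ _

variable {S : Scheme.{u}}

open Groth.AbSchBiext in
/-- The sheaf of homomorphisms from an abelian scheme to a relatively affine group scheme is zero. -/
theorem isZero_homSh (A T : Over S) [GrpObj A] [IsCommMonObj A] [Smooth A.hom] [IsProper A.hom]
    (hA : ∀ s : S, ConnectedSpace ↥(A.hom.fiber s)) [GrpObj T] [IsCommMonObj T] [IsAffineHom T.hom]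
    (K : Precoverage Scheme.{u}) [(QuotSh.J K S).Subcanonical] :
    IsZero (HomSh.homSh (QuotSh.J K S) (CGrpSh.pts K A) (CGrpSh.pts K T)) := by
  refine (IsZero.iff_id_eq_zero _).mpr (Sheaf.hom_ext (NatTrans.ext (funext fun B => AddCommGrpCat.ext fun φ => ?_)))
  refine val_ext (Q := CGrpSh.pts K A) (X := CGrpSh.pts K T) fun U f q => ?_
  let v : ∀ U : Over S, (U ⟶ unop B) → (U ⟶ A) → (U ⟶ T) := fun U f a =>
    (val (φ : (CGrpSh.pts K A).over (unop B) ⟶ (CGrpSh.pts K T).over (unop B)) U f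
      ⟨Additive.ofMul a⟩).down.toMul
  have hmul : ∀ U f a b, v U f (a * b) = v U f a * v U f b := fun U f a b => congrArg (fun z => z.down.toMul)
      (val_add (φ : (CGrpSh.pts K A).over (unop B) ⟶ (CGrpSh.pts K T).over (unop B)) U f
        ⟨Additive.ofMul a⟩ ⟨Additive.ofMul b⟩)
  have hnat : ∀ {U V : Over S} (g : V ⟶ U) f a, g ≫ v U f a = v V (g ≫ f) (g ≫ a) := fun g f a =>
    congrArg (fun z => z.down.toMul)
      (val_map (φ : (CGrpSh.pts K A).over (unop B) ⟶ (CGrpSh.pts K T).over (unop B)) g f ⟨Additive.ofMul a⟩)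
  have hone : ∀ U f, v U f 1 = 1 := fun U f => by
    have := hmul U f 1 1
    rwa [_root_.mul_one, left_eq_mul] at this
  let P := unop B ⊗ A
  let d : P ⟶ T := v P (fst (unop B) A) (snd (unop B) A)
  let ξ : P.left ⟶ (unop B).left := (fst (unop B) A).left
  haveI := Groth.AbSchBiext.geometricallyConnected_of_unit A hA
  haveI := Groth.GrpschAbsch.FibreFlat.geometricallyReduced_of_smooth A.hom
  haveI : IsProper ξ := inferInstanceAs (IsProper (pullback.fst (unop B).hom A.hom))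
  haveI : Flat ξ := inferInstanceAs (Flat (pullback.fst (unop B).hom A.hom))
  haveI : LocallyOfFinitePresentation ξ :=
    inferInstanceAs (LocallyOfFinitePresentation (pullback.fst (unop B).hom A.hom))
  haveI : GeometricallyReduced ξ := inferInstanceAs (GeometricallyReduced (pullback.fst (unop B).hom A.hom))
  haveI : GeometricallyConnected ξ := inferInstanceAs (GeometricallyConnected (pullback.fst (unop B).hom A.hom))
  let e : unop B ⟶ P := lift (𝟙 _) 1
  have hed : e ≫ d = 1 := by rw [hnat, lift_fst, lift_snd, hone]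
  have hd : d = 1 := by
    have h1 := eq_of_affine ξ (fun U => Groth.GrpschAbsch.H0General.app_bijective ξ U) e.left
      (congrArg CommaMorphism.left (lift_fst (𝟙 (unop B)) (1 : unop B ⟶ A))) T.hom (unop B).hom d.left
      (by rw [Over.w d, Over.w (fst (unop B) A)])
    have h2 : d = fst (unop B) A ≫ e ≫ d := Over.OverMorphism.ext h1
    rw [h2, hed, MonObj.comp_one]
  have hfin : v U f q.down.toMul = 1 := by
    have := hnat (lift f q.down.toMul : U ⟶ P) (fst (unop B) A) (snd (unop B) A)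
    rw [lift_fst, lift_snd] at this
    rw [← this]
    show lift f q.down.toMul ≫ d = 1
    rw [hd, MonObj.comp_one]
  exact ULift.ext _ _ (congrArg Additive.ofMul hfin)

end Groth.GrpschAbsch.ProperToAffine
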