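import Groth.Agent.Misc15.ProjPts
import Groth.Agent.Variety2.ProjBasics
import Groth.Agent.AlgGrp1.SmoothReduced
import Groth.Agent.Abvar.Rigidity
import Groth.Agent.S11992
import Mathlib.AlgebraicGeometry.Group.Abelian

set_option autoImplicit false

/-!
Morphisms from the affine line (hence affine spaces) to abelian varieties are constant.
-/

universe u

open CategoryTheory CategoryTheory.Limits AlgebraicGeometry
open MonoidalCategory CartesianMonoidalCategory MonObj GrpObj
open Groth.Misc15 (ProjPts.chart ProjPts.irreducibleSpace_projSpaceOver)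

namespace Groth.GrpschAbsch.RationalToAbelian

variable (K : Type u) [Field K]

/-- The base. -/
noncomputable abbrev base : Scheme.{u} := Spec (CommRingCat.of K)

/-- The projective line over a field. -/
noncomputable def B : Over (base K) := Over.mk (CohB1.ProjSpaceOver.toBase 1 (base K))

theorem isPullback_projSpaceOver {T T' : Scheme.{u}} (n : ℕ) (g : T' ⟶ T) :
    IsPullback
      (pullback.lift (pullback.fst _ _) (CohB1.ProjSpaceOver.toBase n T' ≫ g)
        ((pullback.condition (f := CohB1.ProjSpace.toSpec n (ULift.{u} ℤ))).trans (by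
          show _ = (CohB1.ProjSpaceOver.toBase n T' ≫ g) ≫ _
          exact specULiftZIsTerminal.hom_ext _ _)) : CohB1.ProjSpaceOver n T' ⟶ CohB1.ProjSpaceOver n T)
      (CohB1.ProjSpaceOver.toBase n T') (CohB1.ProjSpaceOver.toBase n T) g := by
  refine IsPullback.of_right ?_ (pullback.lift_snd _ _ _) (IsPullback.of_hasPullback _ _)
  rw [pullback.lift_fst, show g ≫ specULiftZIsTerminal.from T = specULiftZIsTerminal.from T' from
    specULiftZIsTerminal.hom_ext _ _]
  exact IsPullback.of_hasPullback _ _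

theorem smooth_toBase (n : ℕ) : Smooth (CohB1.ProjSpaceOver.toBase n (base K)) := by
  refine IsZariskiLocalAtSource.of_iSup_eq_top (P := @Smooth) (fun i ↦ (ProjPts.chart i K).opensRange)
    (top_le_iff.mp fun x _ ↦ ?_) fun i ↦ ?_
  · obtain ⟨i, hi⟩ := Groth.Misc15.ProjPts.exists_chart_mem K x
    exact TopologicalSpace.Opens.mem_iSup.mpr ⟨i, hi⟩
  rw [← MorphismProperty.cancel_left_of_respectsIso (P := @Smooth) (ProjPts.chart i K).isoOpensRange.hom,
    Scheme.Hom.isoOpensRange_hom_ι_assoc, Groth.Misc15.ProjPts.chart_toBase]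
  exact (HasRingHomProperty.Spec_iff (P := @Smooth)).mpr
    (RingHom.smooth_algebraMap.mpr (⟨inferInstance, inferInstance⟩ : Algebra.Smooth K (MvPolynomial (Fin n) K)))

instance : IsProper (B K).hom := inferInstanceAs (IsProper (CohB1.ProjSpaceOver.toBase 1 (base K)))

instance : Smooth (B K).hom := smooth_toBase K 1

instance : GeometricallyIrreducible (B K).hom := by
  refine ⟨geometrically_iff_of_isClosedUnderIsomorphisms.mpr fun L _ y ↦ ?_⟩
  have := ProjPts.irreducibleSpace_projSpaceOver (n := 1) L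
  exact (isPullback_projSpaceOver 1 y).isoPullback.hom.homeomorph.irreducibleSpace_iff.mp this

theorem geometricallyIntegral_of_smooth {X : Scheme.{u}} (f : X ⟶ base K) [Smooth f] [GeometricallyIrreducible f] :
    GeometricallyIntegral f := by
  have : GeometricallyReduced f := ⟨fun L _ y P p q sq ↦ by
    have : Smooth q := MorphismProperty.of_isPullback (P := @Smooth) sq inferInstance
    exact Groth.AlgGrp1.isReduced_of_smooth q⟩
  exact GeometricallyIntegral.of_geometricallyReduced_of_geometricallyIrreducible f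

instance : GeometricallyIntegral (B K).hom := geometricallyIntegral_of_smooth K (B K).hom

/-- Affine space. -/
noncomputable def Aff (n : ℕ) : Over (base K) :=
  Over.mk (Spec.map (CommRingCat.ofHom (MvPolynomial.C : K →+* MvPolynomial (Fin n) K)))

/-- The affine line. -/
noncomputable abbrev A1 : Over (base K) := Aff K 1

/-- The affine line in the projective line. -/
noncomputable def j : A1 K ⟶ B K :=
  Over.homMk (ProjPts.chart 0 K) (Groth.Misc15.ProjPts.chart_toBase 0 K)

instance : IsOpenImmersion (j K).left :=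
  inferInstanceAs (IsOpenImmersion (ProjPts.chart (0 : Fin 2) K))

variable {K}

/-- A morphism to an abelian variety from a variety with an action of the multiplicative monoid of
the affine line contracting it to a point, carrying this point to the unit, is trivial. -/
theorem eq_one_of_mul (A : Over (base K)) [GrpObj A] [IsProper A.hom] [GeometricallyIntegral A.hom]
    (Y : Over (base K)) [Smooth Y.hom] [IsSeparated Y.hom] [QuasiCompact Y.hom] [GeometricallyIntegral Y.hom]
    (m : A1 K ⊗ Y ⟶ Y) (o e : 𝟙_ (Over (base K)) ⟶ A1 K) (z : 𝟙_ (Over (base K)) ⟶ Y)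
    (hl : lift (toUnit Y ≫ o) (𝟙 _) ≫ m = toUnit _ ≫ z)
    (hr : lift (𝟙 _) (toUnit (A1 K) ≫ z) ≫ m = toUnit _ ≫ z)
    (he : lift (toUnit Y ≫ e) (𝟙 _) ≫ m = 𝟙 _)
    (f : Y ⟶ A) (hf : z ≫ f = η) : f = 1 := by
  let P := B K ⊗ Y
  have : Smooth P.hom := inferInstanceAs (Smooth (pullback.fst (B K).hom Y.hom ≫ (B K).hom))
  have : IsSeparated P.hom := inferInstanceAs (IsSeparated (pullback.fst (B K).hom Y.hom ≫ (B K).hom))
  have : QuasiCompact P.hom := inferInstanceAs (QuasiCompact (pullback.fst (B K).hom Y.hom ≫ (B K).hom))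
  have : GeometricallyIrreducible P.hom :=
    GeometricallyIrreducible.comp (pullback.fst (B K).hom Y.hom) (B K).hom
  have := geometricallyIntegral_of_smooth K P.hom
  have : IsOpenImmersion (j K ⊗ₘ 𝟙 Y).left := by
    show IsOpenImmersion (pullback.map (A1 K).hom Y.hom (B K).hom Y.hom (j K).left (𝟙 Y.left) (𝟙 _)
      ((Category.comp_id _).trans (Over.w (j K)).symm) ((Category.comp_id _).trans (Category.id_comp _).symm))
    infer_instance
  let U := (j K ⊗ₘ 𝟙 Y).left.opensRange
  let c : U.toScheme ⟶ (A1 K ⊗ Y).left := (j K ⊗ₘ 𝟙 Y).left.isoOpensRange.inv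
  have hc : c ≫ (j K ⊗ₘ 𝟙 Y).left = U.ι := Scheme.Hom.isoOpensRange_inv_comp _
  obtain ⟨u⟩ : Nonempty (A1 K ⊗ Y).left := ⟨(lift o z).left (Classical.arbitrary (base K))⟩
  obtain ⟨g, hg, hgU⟩ := Groth.Agent.S11992.result K P.left P.hom A U ⟨_, ⟨u, rfl⟩⟩
    (c ≫ (m ≫ f).left) (by rw [Category.assoc, Over.w (m ≫ f), ← Over.w (j K ⊗ₘ 𝟙 Y), ← Category.assoc, hc])
  let h : B K ⊗ Y ⟶ A := Over.homMk g hg
  have hh : (j K ⊗ₘ 𝟙 Y) ≫ h = m ≫ f := by
    refine Over.OverMorphism.ext ?_
    rw [← cancel_epi c, Over.comp_left, reassoc_of% hc]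
    exact hgU
  let o' := o ≫ j K
  have : LocallyOfFiniteType Y.hom := inferInstance
  have : PreconnectedSpace Y.left := Groth.Abvar.preconnectedSpace_left Y
  have h00 : lift o' z ≫ h = η := by
    rw [show lift o' z = lift o z ≫ (j K ⊗ₘ 𝟙 Y) from
        ((lift_map _ _ _ _).trans (by rw [Category.comp_id])).symm, Category.assoc, hh,
      show lift o z = z ≫ lift (toUnit Y ≫ o) (𝟙 _) by
        rw [comp_lift, Category.comp_id, ← Category.assoc, toUnit_unique (z ≫ toUnit _) (𝟙 _), Category.id_comp],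
      Category.assoc, reassoc_of% hl, ← Category.assoc, ← Category.assoc,
      toUnit_unique (z ≫ toUnit _) (𝟙 _), Category.id_comp, hf]
  have hdec := Groth.Abvar.eq_mul_of_pointed o' z h h00
  have hu : ∀ (X : Over (base K)), toUnit X ≫ z ≫ f = 1 := fun X ↦ by rw [hf, Hom.one_def]
  have h1 : (j K ⊗ₘ 𝟙 Y) ≫ snd (B K) Y ≫ lift (toUnit Y ≫ o') (𝟙 Y) ≫ h = 1 := by
    have : (j K ⊗ₘ 𝟙 Y) ≫ snd (B K) Y ≫ lift (toUnit Y ≫ o') (𝟙 Y) =
        snd (A1 K) Y ≫ lift (toUnit Y ≫ o) (𝟙 _) ≫ (j K ⊗ₘ 𝟙 Y) := by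
      rw [tensorHom_snd_assoc, Category.id_comp, lift_map, Category.id_comp, Category.assoc]
    rw [reassoc_of% this, hh, reassoc_of% hl, hu, MonObj.comp_one]
  have h2 : (j K ⊗ₘ 𝟙 Y) ≫ fst (B K) Y ≫ lift (𝟙 (B K)) (toUnit (B K) ≫ z) ≫ h = 1 := by
    have : (j K ⊗ₘ 𝟙 Y) ≫ fst (B K) Y ≫ lift (𝟙 (B K)) (toUnit (B K) ≫ z) =
        fst (A1 K) Y ≫ lift (𝟙 _) (toUnit (A1 K) ≫ z) ≫ (j K ⊗ₘ 𝟙 Y) := by
      rw [tensorHom_fst_assoc, comp_lift, Category.comp_id, lift_map, Category.id_comp, Category.comp_id,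
        ← Category.assoc, toUnit_unique (j K ≫ toUnit (B K)) (toUnit (A1 K))]
    rw [reassoc_of% this, hh, reassoc_of% hr, hu, MonObj.comp_one]
  have hmf : m ≫ f = 1 := by
    rw [← hh, hdec, MonObj.comp_mul, h1, h2, _root_.mul_one]
  rw [← Category.id_comp f, ← he, Category.assoc, hmf, MonObj.comp_one]

end Groth.GrpschAbsch.RationalToAbelian
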