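import Mathlib.AlgebraicGeometry.Morphisms.Flat
import Mathlib.AlgebraicGeometry.Morphisms.Affine
import Mathlib.AlgebraicGeometry.Fiber
import Mathlib.AlgebraicGeometry.Stalk
import Mathlib.AlgebraicGeometry.Noetherian
import Mathlib.RingTheory.HopkinsLevitzki
import Mathlib.RingTheory.Filtration
import Mathlib.RingTheory.Flat.Basic
import Mathlib.Topology.Sheaves.SheafCondition.UniqueGluing

/-!
The infinitesimal rigidity lemma: over a fibre with only constant functions a flat family has only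
constant functions on all infinitesimal neighbourhoods.
-/

universe u

open CategoryTheory CategoryTheory.Limits AlgebraicGeometry TopologicalSpace Opposite IsLocalRing
open scoped TensorProduct

namespace Groth.GrpschAbsch.Rigid

section Colon

variable {A B : Type u} [CommRing A] [CommRing B] [Algebra A B] [Module.Flat A B]

/-- For a flat algebra colon ideals commute with extension. -/
theorem mem_map_of_mul_mem_map (J : Ideal A) (m : Ideal A) (t : A) (ht : ∀ a, a * t ∈ J ↔ a ∈ m)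
    {c : B} (hc : algebraMap A B t * c ∈ J.map (algebraMap A B)) : c ∈ m.map (algebraMap A B) := by
  let g : A →ₗ[A] A ⧸ J := (LinearMap.id (R := A) (M := A)).smulRight (Ideal.Quotient.mk J t)
  have hex : Function.Exact m.subtype g := fun a ↦ by
    have : g a = Ideal.Quotient.mk J (a * t) := by simp [g, Algebra.smul_def]
    rw [this, Ideal.Quotient.eq_zero_iff_mem, ht]
    exact ⟨fun h ↦ ⟨⟨a, h⟩, rfl⟩, by rintro ⟨a, rfl⟩; exact a.2⟩
  have hz : ∀ x ∈ J.map (algebraMap A B), x ⊗ₜ[A] (1 : A ⧸ J) = 0 := fun x hx ↦ by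
    induction hx using Submodule.span_induction with
    | mem x hx =>
      obtain ⟨j, hj, rfl⟩ := hx
      rw [← _root_.mul_one (algebraMap A B j), ← Algebra.smul_def, TensorProduct.smul_tmul,
        Algebra.smul_def, Ideal.Quotient.algebraMap_eq, Ideal.Quotient.eq_zero_iff_mem.mpr hj, zero_mul,
        TensorProduct.tmul_zero]
    | zero => exact TensorProduct.zero_tmul _ _
    | add x y _ _ hx hy => rw [TensorProduct.add_tmul, hx, hy, add_zero]
    | smul r x _ hx =>
      have : (r • x) ⊗ₜ[A] (1 : A ⧸ J) = r • (x ⊗ₜ[A] (1 : A ⧸ J)) := rfl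
      rw [this, hx, smul_zero]
  have h0 : g.lTensor B (c ⊗ₜ[A] (1 : A)) = 0 := by
    have e : g 1 = t • (1 : A ⧸ J) := by simp [g, Algebra.smul_def]
    rw [LinearMap.lTensor_tmul, e, ← TensorProduct.smul_tmul, Algebra.smul_def]
    exact hz _ hc
  obtain ⟨w, hw⟩ := (Module.Flat.lTensor_exact B hex _).mp h0
  have hwm : ∀ w : B ⊗[A] m, TensorProduct.rid A B (m.subtype.lTensor B w) ∈ m.map (algebraMap A B) := by
    intro w
    induction w with
    | zero => simp
    | add x y hx hy => rw [map_add, map_add]; exact add_mem hx hy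
    | tmul b a =>
      rw [LinearMap.lTensor_tmul, TensorProduct.rid_tmul, Algebra.smul_def]
      exact Ideal.mul_mem_right _ _ (Ideal.mem_map_of_mem _ a.2)
  have := hwm w
  rw [hw] at this
  simpa using this

end Colon

variable {A k : Type u} [CommRing A] [Field k]

/-- The structure map on sections over an open of a scheme over `Spec A`. -/
noncomputable def strMap {X : Scheme.{u}} (f : X ⟶ Spec (CommRingCat.of A)) (U : X.Opens) :
    A →+* Γ(X, U) :=
  (f.appLE ⊤ U le_top).hom.comp (Scheme.ΓSpecIso (CommRingCat.of A)).inv.hom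

lemma res_strMap {X : Scheme.{u}} (f : X ⟶ Spec (CommRingCat.of A)) {U V : X.Opens} (h : V ≤ U) (a : A) :
    X.presheaf.map (homOfLE h).op (strMap f U a) = strMap f V a := by
  show ((f.appLE ⊤ U le_top) ≫ X.presheaf.map (homOfLE h).op).hom _ = _
  rw [Scheme.Hom.appLE_map]
  rfl

lemma app_strMap {X T : Scheme.{u}} {f : X ⟶ Spec (CommRingCat.of A)} {h : T ⟶ Spec (CommRingCat.of A)}
    (p : T ⟶ X) (hp : p ≫ f = h) (U : X.Opens) (a : A) : p.app U (strMap f U a) = strMap h (p ⁻¹ᵁ U) a := by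
  subst hp
  show ((f.appLE ⊤ U le_top) ≫ p.app U).hom _ = _
  rw [Scheme.Hom.app_eq_appLE, Scheme.Hom.appLE_comp_appLE]
  rfl

lemma strMap_comp_specMap {Z : Scheme.{u}} (q : Z ⟶ Spec (CommRingCat.of k)) (ρ : A →+* k) (U : Z.Opens) :
    strMap (q ≫ Spec.map (CommRingCat.ofHom ρ)) U = (strMap q U).comp ρ := by
  have e : (Scheme.ΓSpecIso (CommRingCat.of A)).inv ≫ (Spec.map (CommRingCat.ofHom ρ)).appLE ⊤ ⊤ le_top =
      CommRingCat.ofHom ρ ≫ (Scheme.ΓSpecIso (CommRingCat.of k)).inv := by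
    rw [show (Spec.map (CommRingCat.ofHom ρ)).appLE ⊤ ⊤ le_top = (Spec.map (CommRingCat.ofHom ρ)).appTop from
      Scheme.Hom.appLE_eq_app _]
    exact (Scheme.ΓSpecIso_inv_naturality (CommRingCat.ofHom ρ)).symm
  refine RingHom.ext fun a ↦ ?_
  show ((Scheme.ΓSpecIso (CommRingCat.of A)).inv ≫ (q ≫ Spec.map (CommRingCat.ofHom ρ)).appLE ⊤ U le_top).hom a = _
  rw [← Scheme.Hom.appLE_comp_appLE q (Spec.map (CommRingCat.ofHom ρ)) ⊤ ⊤ U le_top le_top]
  exact congrArg (q.appLE ⊤ U le_top).hom (congr($e a))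

/-- The kernel of restriction to the closed fibre on an affine open. -/
lemma mem_map_ker_of_app_eq_zero {X Z : Scheme.{u}} {f : X ⟶ Spec (CommRingCat.of A)} {i : Z ⟶ X}
    {q : Z ⟶ Spec (CommRingCat.of k)} (ρ : A →+* k) (hρ : Function.Surjective ρ)
    (H : IsPullback i q f (Spec.map (CommRingCat.ofHom ρ))) {U : X.Opens} (hU : IsAffineOpen U)
    {d : Γ(X, U)} (hd : i.app U d = 0) : d ∈ (RingHom.ker ρ).map (strMap f U) := by
  have hUY : i ⁻¹ᵁ U = i ⁻¹ᵁ U ⊓ q ⁻¹ᵁ ⊤ := by simp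
  have hUS : (⊤ : (Spec (CommRingCat.of k)).Opens) ≤ (Spec.map (CommRingCat.ofHom ρ)) ⁻¹ᵁ ⊤ := le_top
  have hP := (isIso_pushoutSection_iff H hUS (le_top : U ≤ f ⁻¹ᵁ ⊤) hUY).mp
    (isIso_pushoutSection_of_isAffineOpen H hUS le_top hUY (isAffineOpen_top _) (isAffineOpen_top _) hU)
  let I := (RingHom.ker ρ).map (strMap f U)
  let j₁ : Γ(X, U) ⟶ CommRingCat.of (Γ(X, U) ⧸ I) := CommRingCat.ofHom (Ideal.Quotient.mk I)
  let g : k →+* Γ(X, U) ⧸ I := RingHom.liftOfSurjective ρ hρ ⟨(Ideal.Quotient.mk I).comp (strMap f U),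
    fun a ha ↦ RingHom.mem_ker.mpr (Ideal.Quotient.eq_zero_iff_mem.mpr (Ideal.mem_map_of_mem _ ha))⟩
  let j₂ : Γ(Spec (CommRingCat.of k), ⊤) ⟶ CommRingCat.of (Γ(X, U) ⧸ I) :=
    (Scheme.ΓSpecIso (CommRingCat.of k)).hom ≫ CommRingCat.ofHom g
  have hw : f.appLE ⊤ U le_top ≫ j₁ = (Spec.map (CommRingCat.ofHom ρ)).appLE ⊤ ⊤ hUS ≫ j₂ := by
    rw [← cancel_epi (Scheme.ΓSpecIso (CommRingCat.of A)).inv,
      show (Spec.map (CommRingCat.ofHom ρ)).appLE ⊤ ⊤ hUS = (Spec.map (CommRingCat.ofHom ρ)).appTop from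
        Scheme.Hom.appLE_eq_app _, ← Scheme.ΓSpecIso_inv_naturality_assoc, Iso.inv_hom_id_assoc]
    refine CommRingCat.hom_ext (RingHom.ext fun a ↦ ?_)
    exact (RingHom.liftOfSurjective_comp_apply ρ hρ ⟨(Ideal.Quotient.mk I).comp (strMap f U),
      fun a ha ↦ RingHom.mem_ker.mpr (Ideal.Quotient.eq_zero_iff_mem.mpr (Ideal.mem_map_of_mem _ ha))⟩ a).symm
  have h1 := congr($(hP.inl_desc j₁ j₂ hw) d)
  rw [CommRingCat.comp_apply] at h1
  have hd' : (i.appLE U (i ⁻¹ᵁ U) le_rfl) d = 0 := by rw [Scheme.Hom.appLE_eq_app]; exact hd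
  rw [hd', map_zero] at h1
  exact Ideal.Quotient.eq_zero_iff_mem.mp h1.symm

section Artinian

variable [IsLocalRing A] [IsArtinianRing A] (ρ : A →+* k)
variable {X Z : Scheme.{u}} {f : X ⟶ Spec (CommRingCat.of A)} [Flat f] {i : Z ⟶ X}
  {q : Z ⟶ Spec (CommRingCat.of k)}

/-- A flat scheme over an Artinian local ring whose closed fibre has only constant functions has only
constant functions. -/
theorem strMap_surjective (hρ : Function.Surjective ρ)
    (H : IsPullback i q f (Spec.map (CommRingCat.ofHom ρ)))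
    (hZ : Function.Surjective (strMap q ⊤)) :
    Function.Surjective (strMap f ⊤) := by
  classical
  intro a
  let aff := {U : X.Opens // IsAffineOpen U}
  let m : Ideal A := RingHom.ker ρ
  have : m.IsMaximal := RingHom.ker_isMaximal_of_surjective ρ hρ
  have hm : m = maximalIdeal A := IsLocalRing.eq_maximalIdeal inferInstance
  let res : ∀ U : aff, Γ(X, ⊤) → Γ(X, U.1) := fun U ↦ X.presheaf.map (homOfLE le_top).op
  let Q : Ideal A → Prop := fun J ↦ ∃ l : A, ∀ U : aff, res U a - strMap f U.1 l ∈ J.map (strMap f U.1)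
  obtain ⟨J, hJ, hmin⟩ := wellFounded_lt.has_min {J : Ideal A | Q J}
    ⟨⊤, 0, fun U ↦ by rw [Ideal.map_top]; trivial⟩
  by_cases hbot : J = ⊥
  · obtain ⟨l, hl⟩ := hJ
    refine ⟨l, TopCat.Sheaf.eq_of_locally_eq' X.sheaf (fun U : aff ↦ U.1) ⊤ (fun U ↦ homOfLE le_top)
      ?_ _ _ fun U ↦ ?_⟩
    · intro x _
      obtain ⟨_, ⟨U, hU, rfl⟩, hx, -⟩ := X.isBasis_affineOpens.exists_subset_of_mem_open (Set.mem_univ x) isOpen_univ
      exact Opens.mem_iSup.mpr ⟨⟨U, hU⟩, hx⟩
    · have := hl U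
      rw [hbot, Ideal.map_bot, Ideal.mem_bot, sub_eq_zero] at this
      exact (res_strMap f le_top l).trans this.symm
  exfalso
  obtain ⟨J', hJ'lt, hJ'max⟩ := wellFounded_gt.has_min {I : Ideal A | I < J} ⟨⊥, bot_lt_iff_ne_bot.mpr hbot⟩
  obtain ⟨t, htJ, htJ'⟩ := Set.exists_of_ssubset hJ'lt
  have hsup : J' ⊔ Ideal.span {t} = J := by
    refine eq_of_le_of_not_lt (sup_le hJ'lt.le (Ideal.span_le.mpr (Set.singleton_subset_iff.mpr htJ)))
      fun hlt ↦ hJ'max _ hlt ?_
    exact lt_of_le_of_ne le_sup_left fun h ↦ htJ' (h ▸ Ideal.mem_sup_right (Ideal.mem_span_singleton_self t))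
  have hmt : ∀ μ ∈ m, μ * t ∈ J' := by
    intro μ hμ
    by_contra hcon
    have hle : J' ⊔ Ideal.span {μ * t} ≤ J := sup_le hJ'lt.le
      (Ideal.span_le.mpr (Set.singleton_subset_iff.mpr (J.mul_mem_left _ htJ)))
    have heq : J' ⊔ Ideal.span {μ * t} = J := by
      refine eq_of_le_of_not_lt hle fun hlt ↦ hJ'max _ hlt ?_
      exact lt_of_le_of_ne le_sup_left fun h ↦ hcon (h ▸ Ideal.mem_sup_right (Ideal.mem_span_singleton_self _))
    obtain ⟨j, hj, x, hx, hjx⟩ := Submodule.mem_sup.mp (heq.ge htJ)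
    obtain ⟨r, rfl⟩ := Ideal.mem_span_singleton'.mp hx
    have hu : IsUnit (1 - r * μ) := IsLocalRing.isUnit_one_sub_self_of_mem_nonunits _
      ((IsLocalRing.mem_maximalIdeal _).mp (hm ▸ m.mul_mem_left r hμ))
    refine htJ' ((Ideal.unit_mul_mem_iff_mem J' hu).mp ?_)
    rw [show (1 - r * μ) * t = j by linear_combination -hjx]
    exact hj
  have hcol : ∀ b, b * t ∈ J' ↔ b ∈ m := fun b ↦ ⟨fun h ↦ by
    by_contra hb
    have : IsUnit b := IsLocalRing.notMem_maximalIdeal.mp (hm ▸ hb)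
    exact htJ' ((Ideal.unit_mul_mem_iff_mem J' this).mp h), hmt b⟩
  obtain ⟨l, hl⟩ := hJ
  have hdec : ∀ U : aff, ∃ c : Γ(X, U.1),
      res U a - strMap f U.1 l - strMap f U.1 t * c ∈ J'.map (strMap f U.1) := by
    intro U
    have h := hl U
    rw [← hsup, Ideal.map_sup, Ideal.map_span, Set.image_singleton] at h
    obtain ⟨j, hj, x, hx, hjx⟩ := Submodule.mem_sup.mp h
    obtain ⟨c, rfl⟩ := Ideal.mem_span_singleton'.mp hx
    exact ⟨c, by rw [← hjx, mul_comm (strMap f U.1 t), add_sub_cancel_right]; exact hj⟩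
  choose c hc using hdec
  have hflat : ∀ U : aff, (strMap f U.1).Flat := fun U ↦ by
    refine RingHom.Flat.comp (RingHom.Flat.of_bijective ?_) (f.flat_appLE (isAffineOpen_top _) U.2 le_top)
    exact (Scheme.ΓSpecIso (CommRingCat.of A)).symm.commRingCatIsoToRingEquiv.bijective
  have hclaim : ∀ (U : aff) (d : Γ(X, U.1)), strMap f U.1 t * d ∈ J'.map (strMap f U.1) →
      d ∈ m.map (strMap f U.1) := by
    intro U d hd
    let := (strMap f U.1).toAlgebra
    have : Module.Flat A Γ(X, U.1) := hflat U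
    exact mem_map_of_mul_mem_map (B := Γ(X, U.1)) J' m t hcol hd
  have hkill : ∀ (U : X.Opens), ∀ d ∈ m.map (strMap f U), i.app U d = 0 := by
    intro U d hd
    induction hd using Submodule.span_induction with
    | mem d hd =>
      obtain ⟨μ, hμ, rfl⟩ := hd
      rw [app_strMap i H.w U μ, strMap_comp_specMap, RingHom.comp_apply, show ρ μ = 0 from hμ, map_zero]
    | zero => exact map_zero _
    | add d e _ _ hd he => rw [map_add, hd, he, add_zero]
    | smul r d _ hd => rw [smul_eq_mul, map_mul, hd, mul_zero]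
  let sec : ∀ U : aff, Γ(Z, i ⁻¹ᵁ U.1) := fun U ↦ i.app U.1 (c U)
  have hnat : ∀ {U V : X.Opens} (h : V ≤ U) (d : Γ(X, U)),
      Z.presheaf.map (homOfLE (i.preimage_mono h)).op (i.app U d) = i.app V (X.presheaf.map (homOfLE h).op d) :=
    fun {U V} h d ↦ congr($((i.naturality (homOfLE h).op).symm) d)
  have hrestr : ∀ (U W : aff) (h : W.1 ≤ U.1),
      Z.presheaf.map (homOfLE (i.preimage_mono h)).op (sec U) = sec W := by
    intro U W h
    rw [hnat h, ← sub_eq_zero, ← map_sub]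
    refine hkill _ _ (hclaim W _ ?_)
    have h1 := Ideal.mem_map_of_mem (X.presheaf.map (homOfLE h).op).hom (hc U)
    rw [Ideal.map_map, show (X.presheaf.map (homOfLE h).op).hom.comp (strMap f U.1) = strMap f W.1 from
      RingHom.ext fun x ↦ res_strMap f h x, map_sub, map_sub, map_mul, res_strMap, res_strMap,
      show (X.presheaf.map (homOfLE h).op).hom (res U a) = res W a from
        congr($((X.presheaf.map_comp (homOfLE (le_top : U.1 ≤ ⊤)).op (homOfLE h).op).symm) a)] at h1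
    have h2 := sub_mem (hc W) h1
    convert h2 using 1
    ring
  have hcov : (⊤ : Z.Opens) ≤ ⨆ U : aff, i ⁻¹ᵁ U.1 := fun z _ ↦ by
    obtain ⟨_, ⟨U, hU, rfl⟩, hx, -⟩ := X.isBasis_affineOpens.exists_subset_of_mem_open (Set.mem_univ (i z)) isOpen_univ
    exact Opens.mem_iSup.mpr ⟨⟨U, hU⟩, hx⟩
  obtain ⟨s, hs, -⟩ := TopCat.Sheaf.existsUnique_gluing' Z.sheaf (fun U : aff ↦ i ⁻¹ᵁ U.1) ⊤
    (fun U ↦ homOfLE le_top) hcov sec (fun U V ↦ by
      let ι' := {W : aff // W.1 ≤ U.1 ⊓ V.1}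
      refine TopCat.Sheaf.eq_of_locally_eq' Z.sheaf (fun W : ι' ↦ i ⁻¹ᵁ W.1.1) _
        (fun W ↦ homOfLE (le_inf (i.preimage_mono (W.2.trans inf_le_left)) (i.preimage_mono (W.2.trans inf_le_right))))
        ?_ _ _ fun W ↦ ?_
      · intro z hz
        obtain ⟨_, ⟨W, hW, rfl⟩, hx, hle⟩ := X.isBasis_affineOpens.exists_subset_of_mem_open
          (show i z ∈ U.1 ⊓ V.1 from hz) (U.1 ⊓ V.1).isOpen
        exact Opens.mem_iSup.mpr ⟨⟨⟨W, hW⟩, hle⟩, hx⟩
      · rw [← ConcreteCategory.comp_apply, ← ConcreteCategory.comp_apply, ← Functor.map_comp, ← Functor.map_comp]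
        exact (hrestr U W.1 (W.2.trans inf_le_left)).trans (hrestr V W.1 (W.2.trans inf_le_right)).symm)
  obtain ⟨μ, rfl⟩ := hZ s
  obtain ⟨μ, rfl⟩ := hρ μ
  refine hmin J' ⟨l + t * μ, fun U ↦ ?_⟩ hJ'lt
  have hmem : c U - strMap f U.1 μ ∈ m.map (strMap f U.1) := by
    refine mem_map_ker_of_app_eq_zero ρ hρ H U.2 ?_
    rw [map_sub, sub_eq_zero, app_strMap i H.w U.1 μ, strMap_comp_specMap]
    exact (hs U).symm.trans (res_strMap q le_top (ρ μ))
  have hJm : ∀ x ∈ m.map (strMap f U.1), strMap f U.1 t * x ∈ J'.map (strMap f U.1) := fun x hx ↦ by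
    induction hx using Submodule.span_induction with
    | mem x hx =>
      obtain ⟨b, hb, rfl⟩ := hx
      rw [← map_mul, mul_comm]
      exact Ideal.mem_map_of_mem _ (hmt b hb)
    | zero => simp
    | add x y _ _ hx hy => rw [mul_add]; exact add_mem hx hy
    | smul r x _ hx => rw [smul_eq_mul, mul_left_comm]; exact Ideal.mul_mem_left _ _ hx
  have h2 := add_mem (hc U) (hJm _ hmem)
  convert h2 using 1
  rw [map_add, map_mul]
  ring

/-- A morphism collapsing a flat scheme over an Artinian local ring to a point is constant. -/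
theorem comp_eq_of_collapse (hρ : Function.Surjective ρ)
    (H : IsPullback i q f (Spec.map (CommRingCat.ofHom ρ))) (hZ : Function.Surjective (strMap q ⊤))
    {Y T : Scheme.{u}} (π : X ⟶ Y) (hπ : (Set.range π).Subsingleton) (p p' : T ⟶ X)
    (h : p ≫ f = p' ≫ f) : p ≫ π = p' ≫ π := by
  rcases isEmpty_or_nonempty X with hX | ⟨⟨x₀⟩⟩
  · have : IsEmpty T := Function.isEmpty (fun t ↦ p t)
    exact (isInitialOfIsEmpty (X := T)).hom_ext _ _
  obtain ⟨_, ⟨V, (hV : IsAffineOpen V), rfl⟩, hxV, -⟩ :=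
    Y.isBasis_affineOpens.exists_subset_of_mem_open (Set.mem_univ (π x₀)) isOpen_univ
  let W : Y.Opens := V
  have hr : Set.range π ⊆ Set.range W.ι := by
    rw [Scheme.Opens.range_ι]
    rintro _ ⟨x, rfl⟩
    rw [hπ ⟨x, rfl⟩ ⟨x₀, rfl⟩]
    exact hxV
  have : IsAffine W.toScheme := hV
  rw [← IsOpenImmersion.lift_fac W.ι π hr, ← Category.assoc, ← Category.assoc]
  refine congrArg (· ≫ W.ι) (ext_of_isAffine ?_)
  refine CommRingCat.hom_ext (RingHom.ext fun b ↦ ?_)
  obtain ⟨a, ha⟩ := strMap_surjective ρ hρ H hZ ((IsOpenImmersion.lift W.ι π hr).appTop b)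
  rw [Scheme.Hom.comp_appTop, Scheme.Hom.comp_appTop]
  show p.appTop ((IsOpenImmersion.lift W.ι π hr).appTop b) = p'.appTop ((IsOpenImmersion.lift W.ι π hr).appTop b)
  rw [← ha]
  exact (app_strMap p (h := p ≫ f) rfl ⊤ a).trans (app_strMap p' h.symm ⊤ a).symm

end Artinian

/-- Two maps which agree on all infinitesimal neighbourhoods of a fibre through a point agree near it. -/
theorem exists_nhd_eq {P Y S : Scheme.{u}} [IsLocallyNoetherian P] (h : P ⟶ S) (u v : P ⟶ Y) (p : P)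
    (H : ∀ n : ℕ,
      Spec.map (CommRingCat.ofHom (Ideal.Quotient.mk
        (((maximalIdeal (S.presheaf.stalk (h p))).map (h.stalkMap p).hom) ^ n))) ≫ P.fromSpecStalk p ≫ u =
      Spec.map (CommRingCat.ofHom (Ideal.Quotient.mk
        (((maximalIdeal (S.presheaf.stalk (h p))).map (h.stalkMap p).hom) ^ n))) ≫ P.fromSpecStalk p ≫ v) :
    ∃ O : P.Opens, p ∈ O ∧ O.ι ≫ u = O.ι ≫ v := by
  let I := (maximalIdeal (S.presheaf.stalk (h p))).map (h.stalkMap p).hom
  have hI : I ≤ maximalIdeal (P.presheaf.stalk p) :=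
    Ideal.map_le_iff_le_comap.mpr (IsLocalRing.maximalIdeal_comap (h.stalkMap p).hom).ge
  have hI1 : I ≠ ⊤ := ne_top_of_le_ne_top (maximalIdeal.isMaximal _).ne_top hI
  have huv : u p = v p := by
    let R := P.presheaf.stalk p ⧸ I ^ 1
    have : Nontrivial R := Ideal.Quotient.nontrivial_iff.mpr (by simpa using hI1)
    have : IsLocalRing R := IsLocalRing.of_surjective' _ Ideal.Quotient.mk_surjective
    have h1 := congrArg (fun φ : Spec (CommRingCat.of R) ⟶ Y ↦ φ (closedPoint R)) (H 1)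
    simp only [Scheme.Hom.comp_apply] at h1
    have e : Spec.map (CommRingCat.ofHom (Ideal.Quotient.mk (I ^ 1))) (closedPoint R) =
        closedPoint (P.presheaf.stalk p) := by
      have : IsLocalHom (CommRingCat.ofHom (Ideal.Quotient.mk (I ^ 1))).hom :=
        IsLocalHom.of_surjective _ Ideal.Quotient.mk_surjective
      exact Spec_closedPoint
    rw [e, Scheme.fromSpecStalk_closedPoint] at h1
    exact h1
  obtain ⟨_, ⟨V, (hV : IsAffineOpen V), rfl⟩, hpV, -⟩ :=
    Y.isBasis_affineOpens.exists_subset_of_mem_open (Set.mem_univ (u p)) isOpen_univ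
  obtain ⟨_, ⟨W, (hW : IsAffineOpen W), rfl⟩, hpW, hle⟩ := P.isBasis_affineOpens.exists_subset_of_mem_open
    (show p ∈ u ⁻¹ᵁ V ⊓ v ⁻¹ᵁ V from ⟨hpV, show v p ∈ V from huv ▸ hpV⟩) (u ⁻¹ᵁ V ⊓ v ⁻¹ᵁ V).isOpen
  have eu : W ≤ u ⁻¹ᵁ V := fun _ hz ↦ (hle hz).1
  have ev : W ≤ v ⁻¹ᵁ V := fun _ hz ↦ (hle hz).2
  have hfac : P.fromSpecStalk p = Spec.map (P.presheaf.germ W p hpW) ≫ hW.fromSpec :=
    (hW.fromSpecStalk_eq_fromSpecStalk hpW).symm
  let R := P.presheaf.stalk p
  let α := u.appLE V W eu ≫ P.presheaf.germ W p hpW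
  let β := v.appLE V W ev ≫ P.presheaf.germ W p hpW
  have hαβ : α = β := by
    refine CommRingCat.hom_ext (RingHom.ext fun b ↦ ?_)
    have : IsNoetherianRing (P.presheaf.stalk p) := inferInstance
    have hk : α b - β b ∈ ⨅ n, I ^ n := by
      refine (Submodule.mem_iInf _).mpr fun n ↦ ?_
      have h1 := H n
      rw [hfac, Category.assoc, Category.assoc, ← hV.SpecMap_appLE_fromSpec u hW eu,
        ← hV.SpecMap_appLE_fromSpec v hW ev, ← Spec.map_comp_assoc, ← Spec.map_comp_assoc,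
        ← Spec.map_comp_assoc, ← Spec.map_comp_assoc, cancel_mono] at h1
      exact Ideal.Quotient.eq.mp (congr($(Spec.map_injective h1) b))
    rwa [Ideal.iInf_pow_eq_bot_of_isLocalRing I hI1, Ideal.mem_bot, sub_eq_zero] at hk
  let D : Set Γ(P, W) := Set.range fun b ↦ u.appLE V W eu b - v.appLE V W ev b
  have : IsNoetherianRing Γ(P, W) := IsLocallyNoetherian.component_noetherian ⟨W, hW⟩
  let := P.presheaf.algebra_section_stalk (⟨p, hpW⟩ : W)
  have := hW.isLocalization_stalk ⟨p, hpW⟩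
  let q : Ideal Γ(P, W) := (hW.primeIdealOf ⟨p, hpW⟩).asIdeal
  obtain ⟨g, hg, hgD⟩ : ∃ g ∉ q, ∀ d ∈ Ideal.span D, g * d = 0 := by
    obtain ⟨F, hF⟩ := (IsNoetherian.noetherian (Ideal.span D) : (Ideal.span D).FG)
    have hgerm : ∀ d ∈ Ideal.span D, P.presheaf.germ W p hpW d = 0 := fun d hd ↦ by
      induction hd using Submodule.span_induction with
      | mem d hd =>
        obtain ⟨b, rfl⟩ := hd
        rw [map_sub, sub_eq_zero]
        exact congr($hαβ b)
      | zero => exact map_zero _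
      | add x y _ _ hx hy => rw [map_add, hx, hy, add_zero]
      | smul r x _ hx => rw [smul_eq_mul, map_mul, hx, mul_zero]
    have hex : ∀ d : F, ∃ g : q.primeCompl, (g : Γ(P, W)) * d = 0 := fun d ↦
      (IsLocalization.map_eq_zero_iff q.primeCompl (P.presheaf.stalk p) _).mp
        (hgerm d (hF ▸ Submodule.subset_span d.2))
    choose g hg using hex
    refine ⟨((∏ d, g d : q.primeCompl) : Γ(P, W)), (∏ d, g d : q.primeCompl).2, fun d hd ↦ ?_⟩
    rw [← hF] at hd
    induction hd using Submodule.span_induction with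
    | mem d hd =>
      obtain ⟨c, hc⟩ := Finset.dvd_prod_of_mem g (Finset.mem_univ (⟨d, hd⟩ : F))
      rw [hc, Submonoid.coe_mul, mul_right_comm, hg, zero_mul]
    | zero => exact mul_zero _
    | add x y _ _ hx hy => rw [mul_add, hx, hy, add_zero]
    | smul r x _ hx => rw [smul_eq_mul, mul_left_comm, hx, mul_zero]
  refine ⟨P.basicOpen g, ?_, ?_⟩
  · rw [← hW.fromSpec_image_basicOpen]
    exact ⟨hW.primeIdealOf ⟨p, hpW⟩, hg, hW.fromSpec_primeIdealOf _⟩
  · have hB := hW.basicOpen g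
    have hres : ∀ b, P.presheaf.map (homOfLE (P.basicOpen_le g)).op (u.appLE V W eu b) =
        P.presheaf.map (homOfLE (P.basicOpen_le g)).op (v.appLE V W ev b) := fun b ↦ by
      have := hW.isLocalization_basicOpen g
      have hu : IsUnit (P.presheaf.map (homOfLE (P.basicOpen_le g)).op g) := by
        exact IsLocalization.Away.algebraMap_isUnit g
      rw [← sub_eq_zero, ← map_sub, ← hu.mul_right_eq_zero, ← map_mul, hgD _ (Ideal.subset_span ⟨b, rfl⟩),
        map_zero]
    have e : ∀ (w : P ⟶ Y) (ew : W ≤ w ⁻¹ᵁ V), (P.basicOpen g).ι ≫ w = hB.isoSpec.hom ≫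
        Spec.map (w.appLE V W ew ≫ P.presheaf.map (homOfLE (P.basicOpen_le g)).op) ≫ hV.fromSpec := by
      intro w ew
      rw [Scheme.Hom.appLE_map, hV.SpecMap_appLE_fromSpec w hB ((P.basicOpen_le g).trans ew),
        hB.isoSpec_hom_fromSpec_assoc]
    rw [e u eu, e v ev]
    congr 3
    exact CommRingCat.hom_ext (RingHom.ext hres)

/-- Maps into a flat family agree after composing with a morphism collapsing a fibre with only
constant functions, near that fibre. -/
theorem exists_nhd_comp_eq {P X S Y : Scheme.{u}} [IsLocallyNoetherian P] [IsLocallyNoetherian S]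
    (f : X ⟶ S) [Flat f] (π : X ⟶ Y) (h : P ⟶ S) (u v : P ⟶ X) (hu : u ≫ f = h) (hv : v ≫ f = h)
    (p : P) (hconst : Function.Surjective ((Scheme.ΓSpecIso (S.residueField (h p))).inv ≫
      (f.fiberToSpecResidueField (h p)).appTop).hom)
    (hπ : (π '' (f ⁻¹' {h p})).Subsingleton) :
    ∃ O : P.Opens, p ∈ O ∧ O.ι ≫ u ≫ π = O.ι ≫ v ≫ π := by
  refine exists_nhd_eq h (u ≫ π) (v ≫ π) p fun n ↦ ?_
  let s := h p
  let m := maximalIdeal (S.presheaf.stalk s)
  let J := (m.map (h.stalkMap p).hom) ^ n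
  rcases Nat.eq_zero_or_pos n with rfl | hn
  · have : Subsingleton (P.presheaf.stalk p ⧸ J) := Ideal.Quotient.subsingleton_iff.mpr ((pow_zero (m.map (h.stalkMap p).hom)).trans Ideal.one_eq_top)
    have : IsEmpty ↥(Spec (CommRingCat.of (P.presheaf.stalk p ⧸ J))) :=
      inferInstanceAs (IsEmpty (PrimeSpectrum _))
    exact (isInitialOfIsEmpty (X := Spec (CommRingCat.of (P.presheaf.stalk p ⧸ J)))).hom_ext _ _
  let A : Type u := S.presheaf.stalk s ⧸ m ^ n
  have hne : m ^ n ≠ ⊤ := ne_top_of_le_ne_top (maximalIdeal.isMaximal _).ne_top (Ideal.pow_le_self hn.ne')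
  have : Nontrivial A := Ideal.Quotient.nontrivial_iff.mpr hne
  have : IsLocalRing A := IsLocalRing.of_surjective' _ Ideal.Quotient.mk_surjective
  have hmA : maximalIdeal A = m.map (Ideal.Quotient.mk (m ^ n)) := (eq_maximalIdeal
    ((Ideal.map_eq_top_or_isMaximal_of_surjective (Ideal.Quotient.mk (m ^ n)) Ideal.Quotient.mk_surjective
      (maximalIdeal.isMaximal (S.presheaf.stalk s))).resolve_left fun h ↦ by
      have := Ideal.comap_map_of_surjective (Ideal.Quotient.mk (m ^ n)) Ideal.Quotient.mk_surjective m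
      rw [h, Ideal.comap_top, ← RingHom.ker_eq_comap_bot, Ideal.mk_ker, sup_eq_left.mpr (Ideal.pow_le_self hn.ne')] at this
      exact (maximalIdeal.isMaximal _).ne_top this.symm)).symm
  have : IsArtinianRing A := (isArtinianRing_iff_isNilpotent_maximalIdeal A).mpr
    ⟨n, by rw [hmA, ← Ideal.map_pow]; exact Ideal.map_quotient_self _⟩
  let ρ : A →+* S.residueField s :=
    Ideal.Quotient.lift (m ^ n) (S.residue s).hom fun a ha ↦
      IsLocalRing.residue_eq_zero_iff a |>.mpr (Ideal.pow_le_self hn.ne' ha)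
  have hρ : Function.Surjective ρ := fun c ↦ by
    obtain ⟨a, rfl⟩ := IsLocalRing.residue_surjective c
    exact ⟨Ideal.Quotient.mk _ a, rfl⟩
  let t : Spec (CommRingCat.of A) ⟶ S :=
    Spec.map (CommRingCat.ofHom (Ideal.Quotient.mk (m ^ n))) ≫ S.fromSpecStalk s
  have ht : Spec.map (CommRingCat.ofHom ρ) ≫ t = S.fromSpecResidueField s := by
    rw [← Spec.map_comp_assoc]
    rfl
  let ρc : Spec (S.residueField s) ⟶ Spec (CommRingCat.of A) := Spec.map (CommRingCat.ofHom ρ)
  have ht : ρc ≫ t = S.fromSpecResidueField s := ht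
  let i₀ : f.fiber s ⟶ pullback f t := pullback.lift (f.fiberι s) (f.fiberToSpecResidueField s ≫ ρc)
    (by rw [Category.assoc, ht]; exact pullback.condition)
  have H₀ : IsPullback i₀ (f.fiberToSpecResidueField s) (pullback.snd f t) ρc := by
    refine IsPullback.of_right ?_ (pullback.lift_snd _ _ _) (IsPullback.of_hasPullback f t)
    rw [pullback.lift_fst, ht]
    exact IsPullback.of_hasPullback f (S.fromSpecResidueField s)
  let φ : A →+* P.presheaf.stalk p ⧸ J := Ideal.quotientMap J (h.stalkMap p).hom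
    (Ideal.map_le_iff_le_comap.mp (Ideal.map_pow _ m n).le)
  let T := Spec (CommRingCat.of (P.presheaf.stalk p ⧸ J))
  let j : T ⟶ P := Spec.map (CommRingCat.ofHom (Ideal.Quotient.mk J)) ≫ P.fromSpecStalk p
  have hj : j ≫ h = Spec.map (CommRingCat.ofHom φ) ≫ t := by
    rw [Category.assoc, ← Scheme.SpecMap_stalkMap_fromSpecStalk, ← Spec.map_comp_assoc,
      ← Spec.map_comp_assoc]
    rfl
  let pu : T ⟶ pullback f t := pullback.lift (j ≫ u) (Spec.map (CommRingCat.ofHom φ))
    (by rw [Category.assoc, hu, hj])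
  let pv : T ⟶ pullback f t := pullback.lift (j ≫ v) (Spec.map (CommRingCat.ofHom φ))
    (by rw [Category.assoc, hv, hj])
  have hr : (Set.range (pullback.fst f t ≫ π)).Subsingleton := by
    refine hπ.anti ?_
    rintro _ ⟨z, rfl⟩
    refine ⟨pullback.fst f t z, ?_, (Scheme.Hom.comp_apply _ _ _).symm⟩
    show f (pullback.fst f t z) = s
    rw [← Scheme.Hom.comp_apply, pullback.condition, Scheme.Hom.comp_apply]
    have : Subsingleton ↥(Spec (CommRingCat.of A)) := inferInstanceAs (Subsingleton (PrimeSpectrum A))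
    rw [Subsingleton.elim (pullback.snd f t z) (closedPoint A), Scheme.Hom.comp_apply]
    have : IsLocalHom (CommRingCat.ofHom (Ideal.Quotient.mk (m ^ n))).hom :=
      IsLocalHom.of_surjective _ Ideal.Quotient.mk_surjective
    rw [show Spec.map (CommRingCat.ofHom (Ideal.Quotient.mk (m ^ n))) (closedPoint A) =
      closedPoint (S.presheaf.stalk s) from Spec_closedPoint, Scheme.fromSpecStalk_closedPoint]
  have hZ : Function.Surjective (strMap (A := S.residueField s) (f.fiberToSpecResidueField s) ⊤) := by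
    intro c
    obtain ⟨a, ha⟩ := hconst c
    refine ⟨a, ?_⟩
    rw [← ha]
    show ((f.fiberToSpecResidueField s).appLE ⊤ ((f.fiberToSpecResidueField s) ⁻¹ᵁ ⊤) le_rfl).hom _ = _
    rw [Scheme.Hom.appLE_eq_app]
    rfl
  have key := comp_eq_of_collapse (A := A) (k := S.residueField s) ρ hρ H₀ hZ (pullback.fst f t ≫ π) hr pu pv
    (by rw [pullback.lift_snd, pullback.lift_snd])
  rw [pullback.lift_fst_assoc, pullback.lift_fst_assoc] at key
  simpa [j] using key

end Groth.GrpschAbsch.Rigid
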