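import Groth.Agent.GrpschAbsch.RigidityGlobal
import Mathlib.AlgebraicGeometry.Noetherian
import Groth.Agent.HensPair.SectionsBaseChange

set_option autoImplicit false

/-!
Rigidity over a connected locally Noetherian base, assuming only constant functions on the fibres.
-/

universe u

open CategoryTheory CategoryTheory.Limits AlgebraicGeometry TopologicalSpace

namespace Groth.GrpschAbsch.Rigid

variable {X Y S : Scheme.{u}}

/-- In a locally Noetherian scheme an open set stable under specialization is closed. -/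
theorem isClosed_of_isOpen_of_stableUnderSpecialization [IsLocallyNoetherian S] {U : Set S}
    (hU : IsOpen U) (hs : StableUnderSpecialization U) : IsClosed U := by
  refine isOpen_compl_iff.mp (isOpen_iff_forall_mem_open.mpr fun x hx ↦ ?_)
  obtain ⟨_, ⟨V', hV, rfl⟩, hxV, -⟩ := S.isBasis_affineOpens.exists_subset_of_mem_open (Set.mem_univ x) isOpen_univ
  let V : S.Opens := V'
  have : IsAffine V.toScheme := hV
  have : IsLocallyNoetherian V.toScheme := isLocallyNoetherian_of_isOpenImmersion V.ι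
  have : IsNoetherian V.toScheme := {}
  let UV : Set V.toScheme := V.ι ⁻¹' U
  let 𝒞 : Set (Set V.toScheme) := {C ∈ irreducibleComponents V.toScheme | (C ∩ UV).Nonempty}
  have hfin : 𝒞.Finite := (NoetherianSpace.finite_irreducibleComponents (α := V.toScheme)).subset (fun _ h ↦ h.1)
  have hUV : UV = ⋃₀ 𝒞 := by
    refine subset_antisymm (fun y hy ↦ ⟨irreducibleComponent y,
      ⟨irreducibleComponent_mem_irreducibleComponents y, y, mem_irreducibleComponent, hy⟩, mem_irreducibleComponent⟩) ?_
    rintro y ⟨C, ⟨hC, hne⟩, hyC⟩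
    have hgen := hC.1.isGenericPoint_genericPoint_closure
    rw [(isClosed_of_mem_irreducibleComponents _ hC).closure_eq] at hgen
    have hη : hC.1.genericPoint ∈ UV := (hgen.mem_open_set_iff (hU.preimage V.ι.continuous)).mpr hne
    exact hs ((hgen.specializes hyC).map V.ι.continuous) hη
  have hcl : IsClosed UV := by
    rw [hUV, Set.sUnion_eq_biUnion]
    exact hfin.isClosed_biUnion fun C hC ↦ isClosed_of_mem_irreducibleComponents _ hC.1
  refine ⟨V.ι '' UVᶜ, ?_, V.ι.isOpenEmbedding.isOpenMap _ hcl.isOpen_compl, ⟨x, hxV⟩, hx, rfl⟩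
  rintro _ ⟨y, hy, rfl⟩
  exact hy

/-- Constant fibre functions ascend along field extensions. -/
theorem constFibre_baseChange {X' S' : Scheme.{u}} {p : X' ⟶ X} {f' : X' ⟶ S'} {f : X ⟶ S}
    {q : S' ⟶ S} (H : IsPullback p f' f q) [QuasiCompact f] [QuasiSeparated f] (y : S')
    (hc : ConstFibre f (q y)) : ConstFibre f' y := by
  let : Algebra (S.residueField (q y)) (S'.residueField y) := (q.residueFieldMap y).hom.toAlgebra
  let k : Spec (CommRingCat.of (S'.residueField y)) ⟶ Spec (CommRingCat.of (S.residueField (q y))) :=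
    Spec.map (CommRingCat.ofHom (algebraMap (S.residueField (q y)) (S'.residueField y)))
  have hk : k ≫ S.fromSpecResidueField (q y) = S'.fromSpecResidueField y ≫ q :=
    q.SpecMap_residueFieldMap_fromSpecResidueField y
  have sq₀ : IsPullback (f.fiberι (q y)) (f.fiberToSpecResidueField (q y)) f
      (S.fromSpecResidueField (q y)) := IsPullback.of_hasPullback _ _
  have big : IsPullback (f'.fiberι y ≫ p) (f'.fiberToSpecResidueField y) f
      (k ≫ S.fromSpecResidueField (q y)) := by
    rw [hk]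
    exact (IsPullback.of_hasPullback f' (S'.fromSpecResidueField y)).paste_horiz H
  let l : f'.fiber y ⟶ f.fiber (q y) := sq₀.lift (f'.fiberι y ≫ p) (f'.fiberToSpecResidueField y ≫ k)
    (by rw [big.w, Category.assoc])
  have hl : IsPullback l (f'.fiberToSpecResidueField y) (f.fiberToSpecResidueField (q y)) k :=
    IsPullback.of_right (by rw [sq₀.lift_fst]; exact big) (sq₀.lift_snd _ _ _) sq₀
  have : CompactSpace ↥(f.fiber (q y)) :=
    QuasiCompact.compactSpace_of_compactSpace (pullback.snd f (S.fromSpecResidueField (q y)))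
  have : QuasiSeparated (f.fiberToSpecResidueField (q y)) :=
    MorphismProperty.pullback_snd f (S.fromSpecResidueField (q y)) ‹QuasiSeparated f›
  have : QuasiSeparatedSpace ↥(f.fiber (q y)) :=
    quasiSeparatedSpace_of_quasiSeparated (f.fiberToSpecResidueField (q y))
  have hP := Groth.HensPair.isPushout_appTop (B := (S.residueField (q y) : Type u))
    (C := (S'.residueField y : Type u)) hl
  have htop := CommRingCat.closure_range_union_range_eq_top_of_isPushout hP
  suffices h : Function.Surjective (f'.fiberToSpecResidueField y).appTop.hom from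
    h.comp (ConcreteCategory.bijective_of_isIso (Scheme.ΓSpecIso (S'.residueField y)).inv).2
  rw [← RingHom.range_eq_top, ← top_le_iff, ← htop, Subring.closure_le]
  rintro x (⟨a, rfl⟩ | ⟨b, rfl⟩)
  · obtain ⟨c, rfl⟩ := hc a
    refine ⟨k.appTop ((Scheme.ΓSpecIso (S.residueField (q y))).inv c), ?_⟩
    exact congr(($hP.w).hom ((Scheme.ΓSpecIso (S.residueField (q y))).inv c)).symm
  · exact ⟨b, rfl⟩

variable [IsLocallyNoetherian S] (f : X ⟶ S) [Flat f] (π : X ⟶ Y)

/-- Rigidity over a connected base: proper case. -/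
theorem exists_desc_of_connected [IsProper f] [Surjective f] [ConnectedSpace S] (v : Y ⟶ S) [IsSeparated v]
    (hv : π ≫ v = f) (hc : ∀ s, ConstFibre f s) {s : S} (hs : s ∈ collapseSet f π) :
    ∃ σ : S ⟶ Y, f ≫ σ = π := by
  have h := (IsClopen.eq_univ ⟨isClosed_collapseSet f π v hv hc, isOpen_collapseSet f π hc⟩ ⟨s, hs⟩)
  exact exists_desc_of_collapse f π (fun t ↦ h ▸ Set.mem_univ t) hc

/-- Rigidity over a connected base: closed map with a section. -/
theorem exists_desc_of_connected_section [IsLocallyNoetherian X] [ConnectedSpace S] (v : Y ⟶ S) [IsSeparated v]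
    (hv : π ≫ v = f) (hc : ∀ s, ConstFibre f s) (hcl : IsClosedMap f) (e : S ⟶ X) (he : e ≫ f = 𝟙 S)
    {s : S} (hs : s ∈ collapseSet f π) : ∃ σ : S ⟶ Y, f ≫ σ = π := by
  let q : X ⟶ pullback v v := pullback.lift π (f ≫ e ≫ π)
    (by rw [Category.assoc, Category.assoc, hv, he, Category.comp_id])
  let E : Set X := Set.range (pullback.fst q (pullback.diagonal v))
  have hEc : IsClosed E := (pullback.fst q (pullback.diagonal v)).isClosedMap.isClosed_range
  have hpt : ∀ z ∈ E, π z = π (e (f z)) := by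
    rintro _ ⟨w, rfl⟩
    have h1 := congrArg (· ≫ pullback.fst v v) (pullback.condition (f := q) (g := pullback.diagonal v))
    have h2 := congrArg (· ≫ pullback.snd v v) (pullback.condition (f := q) (g := pullback.diagonal v))
    simp only [q, Category.assoc, pullback.lift_fst, pullback.lift_snd, pullback.diagonal_fst,
      pullback.diagonal_snd, Category.comp_id] at h1 h2
    have h3 := congrArg (fun φ : pullback q (pullback.diagonal v) ⟶ Y ↦ φ w) (h1.trans h2.symm)
    simp only [Scheme.Hom.comp_apply] at h3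
    exact h3
  have hO : ∀ U ⊆ collapseSet f π, ∃ O : X.Opens, f ⁻¹' U ⊆ O ∧ O.ι ≫ π = O.ι ≫ f ≫ e ≫ π := by
    intro U hU
    refine exists_open_eq _ _ _ fun z hz ↦ ?_
    obtain ⟨O, hzO, h⟩ := exists_nhd_comp_eq f π f (𝟙 X) (f ≫ e) (Category.id_comp f)
      (by rw [Category.assoc, he, Category.comp_id]) z (hc _) (hU hz)
    exact ⟨O, hzO, by simpa using h⟩
  have hsub : ∀ (O : X.Opens), O.ι ≫ π = O.ι ≫ f ≫ e ≫ π → (O : Set X) ⊆ E := by
    intro O h z hz
    refine ⟨(pullback.lift O.ι (O.ι ≫ π) ?_ : O.toScheme ⟶ _) ⟨z, hz⟩, ?_⟩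
    · apply pullback.hom_ext
      · simp only [q, Category.assoc, pullback.lift_fst, pullback.diagonal_fst, Category.comp_id]
      · simp only [q, Category.assoc, pullback.lift_snd, pullback.diagonal_snd, Category.comp_id, h]
    · rw [← Scheme.Hom.comp_apply, pullback.lift_fst]
      rfl
  have hmem : ∀ t, f ⁻¹' {t} ⊆ E → t ∈ collapseSet f π := by
    rintro t ht _ ⟨x₁, hx₁, rfl⟩ _ ⟨x₂, hx₂, rfl⟩
    rw [hpt _ (ht hx₁), hpt _ (ht hx₂), show f x₁ = t from hx₁, show f x₂ = t from hx₂]
  have hmem' : ∀ t ∈ collapseSet f π, f ⁻¹' {t} ⊆ E := fun t ht ↦ by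
    obtain ⟨O, hO, h⟩ := hO {t} (Set.singleton_subset_iff.mpr ht)
    exact hO.trans (hsub O h)
  have hopen : IsOpen (collapseSet f π) := by
    refine isOpen_iff_forall_mem_open.mpr fun t ht ↦ ?_
    obtain ⟨O, hO, h⟩ := hO {t} (Set.singleton_subset_iff.mpr ht)
    refine ⟨(f '' (O : Set X)ᶜ)ᶜ, fun t' ht' ↦ hmem t' fun z hz ↦ hsub O h ?_,
      (hcl _ O.isOpen.isClosed_compl).isOpen_compl, fun ⟨z, hz, hzt⟩ ↦ hz (hO hzt)⟩
    by_contra hzO
    exact ht' ⟨z, hzO, hz⟩
  have hspec : StableUnderSpecialization (collapseSet f π) := by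
    intro t' t h ht'
    refine hmem t fun z hz ↦ by_contra fun hzE ↦ ?_
    obtain ⟨z', hz', hz't⟩ := (Flat.generalizingMap f) (show t' ⤳ f z by rw [show f z = t from hz]; exact h)
    exact (hz'.mem_open hEc.isOpen_compl hzE) (hmem' t' ht' hz't)
  have huniv := IsClopen.eq_univ ⟨isClosed_of_isOpen_of_stableUnderSpecialization hopen hspec, hopen⟩ ⟨s, hs⟩
  obtain ⟨O, hO, h⟩ := hO Set.univ (fun t _ ↦ huniv ▸ Set.mem_univ t)
  have : O = ⊤ := top_le_iff.mp fun z _ ↦ hO trivial
  subst this
  have : IsIso (Scheme.Opens.ι (⊤ : X.Opens)) := by rw [← Scheme.topIso_hom]; infer_instance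
  exact ⟨e ≫ π, ((cancel_epi (Scheme.Opens.ι (⊤ : X.Opens))).mp h).symm⟩

end Groth.GrpschAbsch.Rigid
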