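import Mathlib.RingTheory.Smooth.Local
import Mathlib.RingTheory.Smooth.Locus
import Mathlib.RingTheory.Kaehler.TensorProduct
import Mathlib.RingTheory.LocalRing.ResidueField.Ideal
import Mathlib.RingTheory.Etale.Basic

/-!
A closed subscheme of a smooth scheme is smooth along a section if its conormal sequence along the
section is split exact.
-/

universe u

open TensorProduct IsLocalRing KaehlerDifferential

namespace Groth.GrpschAbsch

variable {R A : Type u} [CommRing R] [CommRing A] [Algebra R A]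

/-- The derivation into `J/IJ` extending the projection of `J`. -/
lemma exists_derivation_extending (ε : A →ₐ[R] R) (J : Ideal A) (hJI : J ≤ RingHom.ker ε)
    (h2 : J ⊓ RingHom.ker ε ^ 2 = RingHom.ker ε * J)
    (h3 : Module.Projective R (↥(RingHom.ker ε) ⧸
      Submodule.comap (RingHom.ker ε).subtype (J ⊔ RingHom.ker ε ^ 2))) :
    ∃ δ : Derivation R A (J ⧸ (RingHom.ker ε • ⊤ : Submodule A J)),
      ∀ j : J, δ j = Submodule.Quotient.mk j := by
  set I := RingHom.ker ε with hI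
  let N := Submodule.comap I.subtype (J ⊔ I ^ 2)
  let p : I →ₗ[R] (I ⧸ N) := N.mkQ.restrictScalars R
  obtain ⟨σ, hσ⟩ := Module.projective_lifting_property p LinearMap.id N.mkQ_surjective
  have hσ' : ∀ x : I, (x : A) - (σ (p x) : A) ∈ J ⊔ I ^ 2 := fun x ↦ by
    have : p (σ (p x)) = p x := LinearMap.congr_fun hσ (p x)
    exact (Submodule.Quotient.eq N).mp this.symm
  let M := J ⧸ (I • ⊤ : Submodule A J)
  have hwd : ∀ (j j' : J), (j : A) - j' ∈ I ^ 2 → (Submodule.Quotient.mk j : M) = Submodule.Quotient.mk j' := by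
    intro j j' h
    rw [Submodule.Quotient.eq]
    have hmem : ((j - j' : J) : A) ∈ I * J := h2 ▸ ⟨(j - j').2, h⟩
    rw [Submodule.mem_smul_top_iff]
    exact hmem
  -- choose the `J`-component
  choose jc hq q hq2 hsum using fun x : I ↦ Submodule.mem_sup.mp (hσ' x)
  have hjq : ∀ x, q x ∈ I ^ 2 ∧ jc x + q x = (x : A) - σ (p x) := fun x ↦ ⟨hq2 x, hsum x⟩
  let τ : I → M := fun x ↦ Submodule.Quotient.mk ⟨jc x, (hq x)⟩
  have hτ : ∀ (x : I) (j : J), (x : A) - σ (p x) - j ∈ I ^ 2 → τ x = Submodule.Quotient.mk j :=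
    fun x j h ↦ hwd _ _ (by
      obtain ⟨h4, h5⟩ := hjq x
      have : (jc x : A) - j = ((x : A) - σ (p x) - j) - q x := by rw [← h5]; ring
      rw [this]
      exact sub_mem h h4)
  have hτadd : ∀ x y, τ (x + y) = τ x + τ y := fun x y ↦ by
    refine hτ _ (⟨jc x, hq x⟩ + ⟨jc y, hq y⟩) ?_
    obtain ⟨h4, h5⟩ := hjq x
    obtain ⟨h6, h7⟩ := hjq y
    have : ((x + y : I) : A) - σ (p (x + y)) - ((⟨jc x, hq x⟩ + ⟨jc y, hq y⟩ : J) : A) = q x + q y := by
      simp only [map_add, Submodule.coe_add]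
      linear_combination -h5 - h7
    rw [this]
    exact add_mem h4 h6
  have hτsmul : ∀ (r : R) x, τ (r • x) = r • τ x := fun r x ↦ by
    refine hτ _ (r • ⟨jc x, hq x⟩) ?_
    obtain ⟨h4, h5⟩ := hjq x
    have : ((r • x : I) : A) - σ (p (r • x)) - ((r • ⟨jc x, hq x⟩ : J) : A) = r • q x := by
      simp only [map_smul, SetLike.val_smul_of_tower]
      rw [← smul_sub, ← smul_sub, ← h5]
      congr 1
      ring
    rw [this]
    exact Submodule.smul_of_tower_mem _ r h4
  have hτsq : ∀ x : I, (x : A) ∈ I ^ 2 → τ x = 0 := fun x hx ↦ by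
    have hpx : p x = 0 := (Submodule.Quotient.mk_eq_zero N).mpr (Submodule.mem_sup_right hx)
    rw [← Submodule.Quotient.mk_zero]
    exact hτ x 0 (by simpa [hpx] using hx)
  have hres : ∀ (j : J), τ ⟨j, hJI j.2⟩ = Submodule.Quotient.mk j := fun j ↦ by
    have hpx : p ⟨j, hJI j.2⟩ = 0 := (Submodule.Quotient.mk_eq_zero N).mpr (Submodule.mem_sup_left j.2)
    exact hτ _ j (by simp [hpx])
  have hmemI : ∀ a : A, a - algebraMap R A (ε a) ∈ I := fun a ↦ by
    simp [I, RingHom.mem_ker]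
  let δl : A →ₗ[R] M :=
    { toFun := fun a ↦ τ ⟨_, hmemI a⟩
      map_add' := fun a b ↦ by
        rw [← hτadd]; congr 1; ext; simp; ring
      map_smul' := fun r a ↦ by
        rw [RingHom.id_apply, ← hτsmul]; congr 1; ext; simp [Algebra.smul_def]; ring }
  have hact : ∀ (a : A) (m : M), a • m = ε a • m := fun a m ↦ by
    obtain ⟨j, rfl⟩ := Submodule.mkQ_surjective _ m
    rw [← algebraMap_smul A (ε a), ← sub_eq_zero, ← sub_smul, Submodule.mkQ_apply,
      ← Submodule.Quotient.mk_smul, Submodule.Quotient.mk_eq_zero]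
    exact Submodule.smul_mem_smul (hmemI a) trivial
  refine ⟨Derivation.mk' δl fun a b ↦ ?_, fun j ↦ ?_⟩
  · rw [hact a, hact b]
    show τ _ = ε a • τ _ + ε b • τ _
    rw [← hτsmul, ← hτsmul, ← hτadd, ← sub_eq_zero, sub_eq_add_neg, ← neg_one_smul R, ← hτsmul,
      ← hτadd]
    refine hτsq _ ?_
    have : ((⟨_, hmemI (a * b)⟩ + (-1 : R) • (ε a • ⟨_, hmemI b⟩ + ε b • ⟨_, hmemI a⟩) : I) : A) =
        (a - algebraMap R A (ε a)) * (b - algebraMap R A (ε b)) := by
      simp [Algebra.smul_def]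
      ring
    rw [this, sq]
    exact Ideal.mul_mem_mul (hmemI a) (hmemI b)
  · rw [← hres j]
    show τ _ = τ _
    congr 1
    ext
    have : ε (j : A) = 0 := hJI j.2
    simp [this]

/-- Smoothness along a section with split conormal sequence. -/
theorem isSmoothAt_quotient_of_section [Algebra.Smooth R A] (ε : A →ₐ[R] R) (J : Ideal A)
    (hJI : J ≤ RingHom.ker ε) (h1 : J.FG)
    (h2 : J ⊓ RingHom.ker ε ^ 2 = RingHom.ker ε * J)
    (h3 : Module.Projective R (↥(RingHom.ker ε) ⧸
      Submodule.comap (RingHom.ker ε).subtype (J ⊔ RingHom.ker ε ^ 2)))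
    (P : Ideal (A ⧸ J)) [P.IsPrime] (hP : (RingHom.ker ε).map (Ideal.Quotient.mk J) ≤ P) :
    Algebra.IsSmoothAt R P := by
  set I := RingHom.ker ε
  obtain ⟨δ, hδ⟩ := exists_derivation_extending ε J hJI h2 h3
  let Q := P.comap (Ideal.Quotient.mk J)
  have hQ : Q.IsPrime := inferInstance
  let Aq := Localization.AtPrime Q
  let Sp := Localization.AtPrime P
  let φ : Aq →+* Sp := Localization.localRingHom Q P (Ideal.Quotient.mk J) rfl
  let _ : Algebra Aq Sp := φ.toAlgebra
  have hφA : ∀ a : A, φ (algebraMap A Aq a) = algebraMap (A ⧸ J) Sp (Ideal.Quotient.mk J a) :=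
    fun a ↦ Localization.localRingHom_to_map _ _ _ _ a
  have : IsScalarTower R Aq Sp := IsScalarTower.of_algebraMap_eq fun r ↦ by
    rw [IsScalarTower.algebraMap_apply R A Aq]
    show _ = φ _
    rw [hφA, IsScalarTower.algebraMap_apply R (A ⧸ J) Sp]
    rfl
  have hsurj : Function.Surjective (algebraMap Aq Sp) :=
    (RingHom.surjectiveOnStalks_of_surjective Ideal.Quotient.mk_surjective).localRingHom_surjective Q P rfl
  have : Algebra.FormallyEtale A Aq := Algebra.FormallyEtale.of_isLocalization Q.primeCompl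
  have : Algebra.FormallySmooth R Aq := Algebra.FormallySmooth.comp R A Aq
  have hbc := KaehlerDifferential.isBaseChange_of_formallyEtale R A Aq
  have : Module.Finite Aq Ω[Aq⁄R] := Module.Finite.equiv hbc.equiv
  have : Module.Projective Aq Ω[Aq⁄R] := inferInstance
  have : Module.Free Aq Ω[Aq⁄R] := Module.free_of_flat_of_isLocalRing
  have hker : ∀ y : Aq, algebraMap Aq Sp y = 0 ↔ ∃ s ∉ Q, ∃ j ∈ J, algebraMap A Aq s * y = algebraMap A Aq j := by
    intro y
    constructor
    · intro hy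
      obtain ⟨a, s, rfl⟩ := IsLocalization.exists_mk'_eq Q.primeCompl y
      have : algebraMap (A ⧸ J) Sp (Ideal.Quotient.mk J a) = 0 := by
        rw [← hφA, ← IsLocalization.mk'_spec Aq a s, map_mul]
        exact mul_eq_zero_of_left hy _
      obtain ⟨t, ht⟩ := (IsLocalization.map_eq_zero_iff P.primeCompl Sp _).mp this
      obtain ⟨t', ht'⟩ := Ideal.Quotient.mk_surjective (t : A ⧸ J)
      refine ⟨(s : A) * t', fun h ↦ ?_, t' * a, ?_, ?_⟩
      · rcases hQ.mem_or_mem h with h | h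
        · exact s.2 h
        · exact t.2 (ht' ▸ h)
      · rw [← Ideal.Quotient.eq_zero_iff_mem, map_mul, ht', ht]
      · rw [map_mul, map_mul, mul_right_comm, mul_comm (algebraMap A Aq (s : A)) _,
          IsLocalization.mk'_spec, mul_comm]
    · rintro ⟨s, hs, j, hj, h⟩
      have := congrArg (algebraMap Aq Sp) h
      rw [map_mul] at this
      rw [show algebraMap Aq Sp (algebraMap A Aq j) = 0 from (hφA j).trans (by
        rw [Ideal.Quotient.eq_zero_iff_mem.mpr hj, map_zero])] at this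
      have hu : IsUnit (algebraMap Aq Sp (algebraMap A Aq s)) :=
        (IsLocalization.map_units Aq (⟨s, hs⟩ : Q.primeCompl)).map _
      exact hu.mul_right_eq_zero.mp this
  have hkerJ : ∀ j ∈ J, algebraMap A Aq j ∈ RingHom.ker (algebraMap Aq Sp) := fun j hj ↦
    (hker _).mpr ⟨1, fun h ↦ hQ.one_notMem h, j, hj, by simp⟩
  have hfg : (RingHom.ker (algebraMap Aq Sp)).FG := by
    have : RingHom.ker (algebraMap Aq Sp) = J.map (algebraMap A Aq) := by
      refine le_antisymm (fun y hy ↦ ?_) (Ideal.map_le_iff_le_comap.mpr hkerJ)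
      obtain ⟨s, hs, j, hj, h⟩ := (hker y).mp hy
      exact (Ideal.unit_mul_mem_iff_mem _ (IsLocalization.map_units Aq (⟨s, hs⟩ : Q.primeCompl))).mp
        (h ▸ Ideal.mem_map_of_mem _ hj)
    rw [this]
    exact h1.map _
  show Algebra.FormallySmooth R Sp
  rw [Algebra.FormallySmooth.iff_injective_cotangentComplexBaseChange_residueField Aq hsurj hfg]
  let K := ResidueField Sp
  let M := J ⧸ (I • ⊤ : Submodule A J)
  -- `K` as an `A`-algebra
  let _ : Algebra A K := ((algebraMap Aq K).comp (algebraMap A Aq)).toAlgebra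
  have : IsScalarTower A Aq K := IsScalarTower.of_algebraMap_eq fun _ ↦ rfl
  have hKI : ∀ i ∈ I, algebraMap A K i = 0 := fun i hi ↦ by
    show algebraMap Aq K (algebraMap A Aq i) = 0
    rw [IsScalarTower.algebraMap_apply Aq Sp K]
    show residue Sp (φ (algebraMap A Aq i)) = 0
    rw [hφA, residue_eq_zero_iff]
    exact (IsLocalization.AtPrime.to_map_mem_maximal_iff Sp P _).mpr (hP (Ideal.mem_map_of_mem _ hi))
  -- the retraction
  let : Module A (K ⊗[Aq] RingHom.ker (algebraMap Aq Sp)) :=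
    Module.compHom _ (algebraMap A Aq)
  have : IsScalarTower A Aq (K ⊗[Aq] RingHom.ker (algebraMap Aq Sp)) :=
    IsScalarTower.of_algebraMap_smul fun _ _ ↦ rfl
  let gJ : J →ₗ[A] (K ⊗[Aq] RingHom.ker (algebraMap Aq Sp)) :=
    { toFun := fun j ↦ 1 ⊗ₜ ⟨algebraMap A Aq j, hkerJ j j.2⟩
      map_add' := fun a b ↦ by rw [← TensorProduct.tmul_add]; congr 1; ext; simp
      map_smul' := fun a j ↦ by
        rw [RingHom.id_apply, ← algebraMap_smul Aq a ((1 : K) ⊗ₜ[Aq] _), ← TensorProduct.tmul_smul]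
        congr 1; ext; simp [Algebra.smul_def] }
  let g : M →ₗ[A] (K ⊗[Aq] RingHom.ker (algebraMap Aq Sp)) := Submodule.liftQ _ gJ (by
    rw [Submodule.smul_le]
    intro i hi j _
    rw [LinearMap.mem_ker, map_smul, ← algebraMap_smul Aq i, ← algebraMap_smul K (algebraMap A Aq i),
      ← IsScalarTower.algebraMap_apply A Aq K, hKI i hi, zero_smul])
  let ρ : Ω[Aq⁄R] →ₗ[Aq] (K ⊗[Aq] RingHom.ker (algebraMap Aq Sp)) := hbc.lift ((g ∘ₗ δ.liftKaehlerDifferential))
  let ψ : K ⊗[Aq] Ω[Aq⁄R] →ₗ[K] (K ⊗[Aq] RingHom.ker (algebraMap Aq Sp)) := ρ.liftBaseChange K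
  refine Function.LeftInverse.injective (g := ψ) ?_
  suffices h : ∀ y, ψ (cotangentComplexBaseChange R Sp Aq K ((1 : K) ⊗ₜ y)) = (1 : K) ⊗ₜ y by
    intro z
    induction z using TensorProduct.induction_on with
    | zero => simp
    | add a b ha hb => rw [map_add, map_add, ha, hb]
    | tmul c y =>
      rw [show c ⊗ₜ[Aq] y = c • ((1 : K) ⊗ₜ[Aq] y) by rw [TensorProduct.smul_tmul', smul_eq_mul, mul_one],
        map_smul, map_smul, h]
  intro y
  obtain ⟨s, hs, j, hj, hy⟩ := (hker y).mp y.2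
  have hu : IsUnit (algebraMap A K s) :=
    (IsLocalization.map_units Aq (⟨s, hs⟩ : Q.primeCompl)).map (algebraMap Aq K)
  have hy' : algebraMap A Aq s • y = ⟨algebraMap A Aq j, hkerJ j hj⟩ := Subtype.ext hy
  have hj' : ψ (cotangentComplexBaseChange R Sp Aq K ((1 : K) ⊗ₜ ⟨algebraMap A Aq j, hkerJ j hj⟩)) =
      (1 : K) ⊗ₜ ⟨algebraMap A Aq j, hkerJ j hj⟩ := by
    rw [cotangentComplexBaseChange_tmul, map_smul, kerToTensor_apply, LinearMap.liftBaseChange_tmul,
      one_smul, one_smul]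
    show ρ (D R Aq (algebraMap A Aq j)) = _
    rw [← KaehlerDifferential.map_D R R A Aq]
    show hbc.lift _ (KaehlerDifferential.map R R A Aq (D R A j)) = _
    rw [hbc.lift_eq]
    show g (δ.liftKaehlerDifferential (D R A j)) = _
    rw [Derivation.liftKaehlerDifferential_comp_D, hδ ⟨j, hj⟩]
    rfl
  rw [← hy', TensorProduct.tmul_smul, ← IsScalarTower.algebraMap_smul K (algebraMap A Aq s),
    map_smul, map_smul] at hj'
  exact hu.smul_left_cancel.mp hj'

end Groth.GrpschAbsch
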