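import Groth.Agent.GrpschAbsch.Cartier
import Mathlib.AlgebraicGeometry.Morphisms.FormallyUnramified
import Mathlib.AlgebraicGeometry.Morphisms.OpenImmersion

/-!
Tangent vectors at a rational point of a group scheme over a field: the `n`-th power acts on them by `n`;
a rational point without tangent vectors is open; unramifiedness of homomorphisms.
-/

universe u

open CategoryTheory CategoryTheory.Limits MonoidalCategory CartesianMonoidalCategory MonObj GrpObj
  AlgebraicGeometry TopologicalSpace TrivSqZeroExt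

namespace Groth.GrpschAbsch

variable (k : Type u) [Field k]

instance subsingleton_spec_tsze (M : Type u) [AddCommGroup M] [Module k M] [Module kᵐᵒᵖ M] [IsCentralScalar k M] :
    Subsingleton ↥(Spec (CommRingCat.of (TrivSqZeroExt k M))) := by
  refine ⟨fun p q ↦ ?_⟩
  have h : ∀ r : PrimeSpectrum (TrivSqZeroExt k M), ∀ a : TrivSqZeroExt k M, a ∈ r.asIdeal ↔ a.fst = 0 := by
    intro r a
    refine ⟨fun ha ↦ ?_, fun ha ↦ ?_⟩
    · by_contra hne
      exact r.2.ne_top (Ideal.eq_top_of_isUnit_mem _ ha (isUnit_iff_isUnit_fst.mpr (Ne.isUnit hne)))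
    · refine r.2.mem_of_pow_mem 2 ?_
      have : a ^ 2 = 0 := by
        obtain ⟨m, rfl⟩ : ∃ m, a = inr m := ⟨a.snd, by ext <;> simp [ha]⟩
        rw [pow_two, inr_mul_inr]
      rw [this]; exact zero_mem _
  exact PrimeSpectrum.ext (Ideal.ext fun a ↦ (h p a).trans (h q a).symm)

variable {k}

/-- A morphism from a one point spectrum is determined by its restrictions along a jointly injective
pair of algebra maps. -/
lemma eq_of_comp_specMap_eq {X : Scheme.{u}} {R R₁ R₂ : CommRingCat.{u}} [Subsingleton ↥(Spec R)]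
    [Nonempty ↥(Spec R₁)] (p₁ : R ⟶ R₁) (p₂ : R ⟶ R₂)
    (hp : ∀ a b : R, p₁ a = p₁ b → p₂ a = p₂ b → a = b) (z w : Spec R ⟶ X)
    (h₁ : Spec.map p₁ ≫ z = Spec.map p₁ ≫ w) (h₂ : Spec.map p₂ ≫ z = Spec.map p₂ ≫ w) : z = w := by
  obtain ⟨t₁⟩ := ‹Nonempty ↥(Spec R₁)›
  let t := Spec.map p₁ t₁
  obtain ⟨_, ⟨U, hU, rfl⟩, hxU, -⟩ := X.isBasis_affineOpens.exists_subset_of_mem_open
    (Set.mem_univ (z t)) isOpen_univ
  have hw : w t = z t := by
    rw [← Scheme.Hom.comp_apply, ← Scheme.Hom.comp_apply, h₁]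
  have hr : ∀ f : Spec R ⟶ X, f t = z t → Set.range f ⊆ Set.range hU.fromSpec := by
    intro f hf
    rw [hU.range_fromSpec]
    rintro _ ⟨s, rfl⟩
    rw [Subsingleton.elim s t, hf]
    exact hxU
  have hz' := IsOpenImmersion.lift_fac hU.fromSpec z (hr z rfl)
  have hw' := IsOpenImmersion.lift_fac hU.fromSpec w (hr w hw)
  rw [← hz', ← hw', ← Spec.map_preimage (IsOpenImmersion.lift hU.fromSpec z (hr z rfl)),
    ← Spec.map_preimage (IsOpenImmersion.lift hU.fromSpec w (hr w hw))]
  rw [← hz', ← hw', ← Category.assoc, ← Category.assoc, cancel_mono,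
    ← Spec.map_preimage (IsOpenImmersion.lift hU.fromSpec z (hr z rfl)),
    ← Spec.map_preimage (IsOpenImmersion.lift hU.fromSpec w (hr w hw)), ← Spec.map_comp, ← Spec.map_comp,
    Spec.map_inj] at h₁ h₂
  congr 2
  ext a
  exact hp _ _ (congr($h₁ a)) (congr($h₂ a))

/-- Scalar multiplication on tangent vectors. -/
noncomputable def scale (c : k) : specOver k (TrivSqZeroExt k k) ⟶ specOver k (TrivSqZeroExt k k) :=
  specOverMap (TrivSqZeroExt.map (c • LinearMap.id : k →ₗ[k] k))

/-- The base point of a tangent vector. -/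
noncomputable def base : specOver k k ⟶ specOver k (TrivSqZeroExt k k) :=
  specOverMap (TrivSqZeroExt.fstHom k k k)

variable {G : Over (Spec (CommRingCat.of k))} [GrpObj G]

lemma specOverMap_congr {R R' : Type u} [CommRing R] [CommRing R'] [Algebra k R] [Algebra k R']
    {f g : R →ₐ[k] R'} (h : ∀ x, f x = g x) : specOverMap f = specOverMap g := by
  rw [AlgHom.ext h]

lemma scale_add_comp {z : specOver k (TrivSqZeroExt k k) ⟶ G} (hz : base ≫ z = 1) (a b : k) :
    scale (a + b) ≫ z = (scale a ≫ z) * (scale b ≫ z) := by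
  let T₂ := specOver k (TrivSqZeroExt k (k × k))
  let δ : T₂ ⟶ specOver k (TrivSqZeroExt k k) :=
    specOverMap (TrivSqZeroExt.map (LinearMap.inl k k k + LinearMap.inr k k k))
  let i₁ : T₂ ⟶ specOver k (TrivSqZeroExt k k) := specOverMap (TrivSqZeroExt.map (LinearMap.inl k k k))
  let i₂ : T₂ ⟶ specOver k (TrivSqZeroExt k k) := specOverMap (TrivSqZeroExt.map (LinearMap.inr k k k))
  let q₁ : specOver k (TrivSqZeroExt k k) ⟶ T₂ := specOverMap (TrivSqZeroExt.map (LinearMap.fst k k k))
  let q₂ : specOver k (TrivSqZeroExt k k) ⟶ T₂ := specOverMap (TrivSqZeroExt.map (LinearMap.snd k k k))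
  let s : specOver k (TrivSqZeroExt k k) ⟶ T₂ :=
    specOverMap (TrivSqZeroExt.map (a • LinearMap.fst k k k + b • LinearMap.snd k k k))
  let r : specOver k (TrivSqZeroExt k k) ⟶ specOver k k := specOverMap (Algebra.ofId k _)
  have h0 : (r ≫ base) ≫ z = 1 := by rw [Category.assoc, hz, MonObj.comp_one]
  have key : δ ≫ z = (i₁ ≫ z) * (i₂ ≫ z) := by
    refine Over.OverMorphism.ext (eq_of_comp_specMap_eq
      (CommRingCat.ofHom (TrivSqZeroExt.map (LinearMap.fst k k k)).toRingHom)
      (CommRingCat.ofHom (TrivSqZeroExt.map (LinearMap.snd k k k)).toRingHom)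
      (fun x y h1 h2 ↦ ?_) _ _ ?_ ?_)
    · have e₁ : (TrivSqZeroExt.map (LinearMap.fst k k k)) x = (TrivSqZeroExt.map (LinearMap.fst k k k)) y := h1
      have e₂ : (TrivSqZeroExt.map (LinearMap.snd k k k)) x = (TrivSqZeroExt.map (LinearMap.snd k k k)) y := h2
      refine TrivSqZeroExt.ext ?_ (Prod.ext ?_ ?_)
      · simpa using congrArg TrivSqZeroExt.fst e₁
      · simpa using congrArg TrivSqZeroExt.snd e₁
      · simpa using congrArg TrivSqZeroExt.snd e₂
    · show (q₁ ≫ δ ≫ z).left = (q₁ ≫ ((i₁ ≫ z) * (i₂ ≫ z))).left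
      have e₁ : q₁ ≫ δ = 𝟙 _ := by
        simp only [q₁, δ, specOverMap_comp]
        refine Eq.trans (specOverMap_congr (g := AlgHom.id k _) fun x ↦ ?_) (Over.OverMorphism.ext (Spec.map_id _))
        ext <;> simp
      have e₂ : q₁ ≫ i₁ = 𝟙 _ := by
        simp only [q₁, i₁, specOverMap_comp]
        refine Eq.trans (specOverMap_congr (g := AlgHom.id k _) fun x ↦ ?_) (Over.OverMorphism.ext (Spec.map_id _))
        ext <;> simp
      have e₃ : q₁ ≫ i₂ = r ≫ base := by
        simp only [q₁, i₂, r, base, specOverMap_comp]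
        refine specOverMap_congr fun x ↦ ?_
        ext <;> simp [TrivSqZeroExt.algebraMap_eq_inl]
      rw [MonObj.comp_mul, reassoc_of% e₁, reassoc_of% e₂, reassoc_of% e₃, ← Category.assoc, h0, _root_.mul_one]
    · show (q₂ ≫ δ ≫ z).left = (q₂ ≫ ((i₁ ≫ z) * (i₂ ≫ z))).left
      have e₁ : q₂ ≫ δ = 𝟙 _ := by
        simp only [q₂, δ, specOverMap_comp]
        refine Eq.trans (specOverMap_congr (g := AlgHom.id k _) fun x ↦ ?_) (Over.OverMorphism.ext (Spec.map_id _))
        ext <;> simp
      have e₂ : q₂ ≫ i₂ = 𝟙 _ := by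
        simp only [q₂, i₂, specOverMap_comp]
        refine Eq.trans (specOverMap_congr (g := AlgHom.id k _) fun x ↦ ?_) (Over.OverMorphism.ext (Spec.map_id _))
        ext <;> simp
      have e₃ : q₂ ≫ i₁ = r ≫ base := by
        simp only [q₂, i₁, r, base, specOverMap_comp]
        refine specOverMap_congr fun x ↦ ?_
        ext <;> simp [TrivSqZeroExt.algebraMap_eq_inl]
      rw [MonObj.comp_mul, reassoc_of% e₁, reassoc_of% e₂, reassoc_of% e₃, ← Category.assoc, h0, _root_.one_mul]
  have f₀ : s ≫ δ = scale (a + b) := by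
    simp only [s, δ, scale, specOverMap_comp]
    refine specOverMap_congr fun x ↦ ?_
    ext <;> simp [add_mul]
  have f₁ : s ≫ i₁ = scale a := by
    simp only [s, i₁, scale, specOverMap_comp]
    refine specOverMap_congr fun x ↦ ?_
    ext <;> simp
  have f₂ : s ≫ i₂ = scale b := by
    simp only [s, i₂, scale, specOverMap_comp]
    refine specOverMap_congr fun x ↦ ?_
    ext <;> simp
  rw [← f₀, Category.assoc, key, MonObj.comp_mul, reassoc_of% f₁, reassoc_of% f₂]

omit [GrpObj G] in
lemma scale_one_comp (z : specOver k (TrivSqZeroExt k k) ⟶ G) : scale 1 ≫ z = z := by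
  have : scale (1 : k) = 𝟙 _ := by
    refine Eq.trans (specOverMap_congr (g := AlgHom.id k _) fun x ↦ ?_) (Over.OverMorphism.ext (Spec.map_id _))
    ext <;> simp
  rw [this, Category.id_comp]

/-- The power maps act on tangent vectors at the unit by scalars. -/
theorem scale_intCast_comp {z : specOver k (TrivSqZeroExt k k) ⟶ G} (hz : base ≫ z = 1) (n : ℤ) :
    scale (n : k) ≫ z = z ^ n := by
  let F : Multiplicative k →* (specOver k (TrivSqZeroExt k k) ⟶ G) :=
    MonoidHom.mk' (fun c ↦ scale c.toAdd ≫ z) fun a b ↦ scale_add_comp hz _ _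
  have h : F (Multiplicative.ofAdd ((n : k))) = F (Multiplicative.ofAdd 1) ^ n := by
    rw [← map_zpow, ← ofAdd_zsmul]; simp
  simpa [F, scale_one_comp] using h

/-- A tangent vector killed by an invertible integer is trivial. -/
theorem eq_one_of_zpow_eq_one {z : specOver k (TrivSqZeroExt k k) ⟶ G} (hz : base ≫ z = 1) (n : ℤ)
    (hn : (n : k) ≠ 0) (h : z ^ n = 1) : z = 1 := by
  have e : scale (n : k)⁻¹ ≫ scale (n : k) = scale 1 := by
    simp only [scale, specOverMap_comp]
    refine specOverMap_congr fun x ↦ ?_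
    ext <;> simp [hn]
  rw [← scale_one_comp z, ← e, Category.assoc, scale_intCast_comp hz, h, MonObj.comp_one]

/-- A rational point without tangent vectors is open. -/
theorem isOpenImmersion_of_tangent_trivial {X : Over (Spec (CommRingCat.of k))}
    [LocallyOfFiniteType X.hom] (x : 𝟙_ (Over (Spec (CommRingCat.of k))) ⟶ X)
    (h : ∀ z : specOver k (TrivSqZeroExt k k) ⟶ X, base ≫ z = toUnit _ ≫ x → z = toUnit _ ≫ x) :
    IsOpenImmersion x.left := by
  have : Subsingleton ↥(𝟙_ (Over (Spec (CommRingCat.of k)))).left :=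
    inferInstanceAs (Subsingleton ↥(Spec (CommRingCat.of k)))
  obtain ⟨_, ⟨U, (hU : IsAffineOpen U), rfl⟩, hxU, -⟩ := X.left.isBasis_affineOpens.exists_subset_of_mem_open
    (Set.mem_univ (x.left (IsLocalRing.closedPoint k))) isOpen_univ
  let x₀ : Spec (CommRingCat.of k) ⟶ X.left := x.left
  have hr : Set.range x₀ ⊆ Set.range hU.fromSpec := by
    rw [hU.range_fromSpec]
    rintro _ ⟨s, rfl⟩
    rw [Subsingleton.elim s (IsLocalRing.closedPoint k)]
    exact hxU
  let A := Γ(X.left, U)
  let ι₀ : CommRingCat.of k ⟶ A := Spec.preimage (hU.fromSpec ≫ X.hom)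
  let : Algebra k A := ι₀.hom.toAlgebra
  have hι : Spec.map (CommRingCat.ofHom (algebraMap k A)) = hU.fromSpec ≫ X.hom := Spec.map_preimage _
  let ε₀ : A ⟶ CommRingCat.of k := Spec.preimage (IsOpenImmersion.lift hU.fromSpec x₀ hr)
  have hε₀ : Spec.map ε₀ ≫ hU.fromSpec = x₀ := by
    rw [Spec.map_preimage, IsOpenImmersion.lift_fac]
  have hιε : ι₀ ≫ ε₀ = 𝟙 _ := Spec.map_injective (by
    rw [Spec.map_comp, show Spec.map ι₀ = hU.fromSpec ≫ X.hom from Spec.map_preimage _, reassoc_of% hε₀,
      Spec.map_id]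
    exact Over.w x)
  let ε : A →ₐ[k] k := { ε₀.hom with commutes' := fun c ↦ congr($hιε c) }
  have : Algebra.FiniteType k A := by
    have : LocallyOfFiniteType (Spec.map (CommRingCat.ofHom (algebraMap k A))) := by
      rw [hι]; infer_instance
    exact (HasRingHomProperty.Spec_iff (P := @LocallyOfFiniteType)).mp this
  have : IsNoetherianRing A := Algebra.FiniteType.isNoetherianRing k A
  have hsurj : Function.Surjective ε₀.hom := fun c ↦ ⟨algebraMap k A c, ε.commutes c⟩
  suffices hm : IsIdempotentElem (RingHom.ker ε₀.hom) by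
    have : IsOpenImmersion (Spec.map ε₀) := (isOpenImmersion_SpecMap_iff_of_surjective ε₀ hsurj).mpr
      ((Ideal.isIdempotentElem_iff_of_fg _ (IsNoetherian.noetherian _)).mp hm)
    show IsOpenImmersion x₀
    rw [← hε₀]; infer_instance
  refine le_antisymm Ideal.mul_le_left fun a ha ↦ ?_
  let m : Ideal A := RingHom.ker ε₀.hom
  let W : Submodule k A := (m * m).restrictScalars k ⊔ k ∙ (1 : A)
  by_contra hna
  have hW : a ∉ W := fun hmem ↦ by
    obtain ⟨p, hp, q, hq, hpq⟩ := Submodule.mem_sup.mp hmem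
    obtain ⟨c, rfl⟩ := Submodule.mem_span_singleton.mp hq
    have hp' : p ∈ m := Ideal.mul_le_left hp
    have : ε a = 0 := ha
    rw [← hpq, map_add, map_smul, map_one, show ε p = 0 from hp'] at this
    simp at this
    rw [this, zero_smul, add_zero] at hpq
    exact hna (hpq ▸ hp)
  obtain ⟨l, hla, hlW⟩ := Submodule.exists_dual_map_eq_bot_of_notMem hW inferInstance
  have hlW' : ∀ w ∈ W, l w = 0 := fun w hw ↦ by
    have : l w ∈ W.map l := ⟨w, hw, rfl⟩
    rw [hlW] at this; exact this
  have hl1 : l 1 = 0 := hlW' 1 (Submodule.mem_sup_right (Submodule.mem_span_singleton_self _))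
  have hleib : ∀ b c : A, l (b * c) = ε b * l c + ε c * l b := fun b c ↦ by
    have hmem : ∀ b : A, b - algebraMap k A (ε b) ∈ m := fun b ↦ by
      show ε (b - algebraMap k A (ε b)) = 0
      simp
    have h2 := hlW' _ (Submodule.mem_sup_left (Ideal.mul_mem_mul (hmem b) (hmem c)))
    rw [show (b - algebraMap k A (ε b)) * (c - algebraMap k A (ε c)) =
        b * c - ε b • c - ε c • b + (ε b * ε c) • (1 : A) by
      simp only [Algebra.smul_def, map_mul]; ring] at h2
    simp only [map_add, map_sub, map_smul, smul_eq_mul, hl1, mul_zero, add_zero] at h2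
    linear_combination h2
  let φ : A →ₐ[k] TrivSqZeroExt k k := AlgHom.ofLinearMap
    { toFun := fun b ↦ inl (ε b) + inr (l b)
      map_add' := fun b c ↦ by ext <;> simp
      map_smul' := fun r b ↦ by ext <;> simp }
    (by ext <;> simp [hl1]) (fun b c ↦ by ext <;> simp [hleib]; ring)
  let z : specOver k (TrivSqZeroExt k k) ⟶ X := Over.homMk
    (Spec.map (CommRingCat.ofHom φ.toRingHom) ≫ hU.fromSpec) (by
      show (_ ≫ hU.fromSpec) ≫ X.hom = Spec.map _
      rw [Category.assoc, ← hι, ← Spec.map_comp, ← CommRingCat.ofHom_comp]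
      exact congrArg (fun r ↦ Spec.map (CommRingCat.ofHom r)) φ.comp_algebraMap)
  have hk : (toUnit (specOver k k)).left = 𝟙 (Spec (CommRingCat.of k)) := by
    show Spec.map (CommRingCat.ofHom (algebraMap k k)) = _
    exact Spec.map_id _
  have hz : base ≫ z = toUnit _ ≫ x := by
    refine Over.OverMorphism.ext ?_
    rw [Over.comp_left, Over.comp_left, hk]
    show Spec.map _ ≫ Spec.map _ ≫ hU.fromSpec = 𝟙 _ ≫ x₀
    rw [Category.id_comp, ← hε₀, ← Spec.map_comp_assoc, ← CommRingCat.ofHom_comp]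
    congr 2
    ext b
    show (fstHom k k k) (φ b) = ε b
    simp [φ]
  have hzl := congrArg (fun g ↦ g.left) (h z hz)
  have e2 : (toUnit (specOver k (TrivSqZeroExt k k)) ≫ x).left =
      Spec.map (CommRingCat.ofHom ((Algebra.ofId k (TrivSqZeroExt k k)).comp ε).toRingHom) ≫ hU.fromSpec := by
    show Spec.map _ ≫ x₀ = _
    rw [← hε₀, ← Spec.map_comp_assoc]
    rfl
  rw [e2] at hzl
  have hφ := Spec.map_injective ((cancel_mono hU.fromSpec).mp hzl)
  have := congrArg TrivSqZeroExt.snd (congr($hφ a) : φ a = algebraMap k _ (ε a))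
  simp [φ, TrivSqZeroExt.algebraMap_eq_inl] at this
  exact hla this

/-- A homomorphism whose kernel has no tangent vectors at the unit is unramified. -/
theorem formallyUnramified_of_tangent {G H : Over (Spec (CommRingCat.of k))} [GrpObj G] [GrpObj H]
    [LocallyOfFiniteType G.hom] (f : G ⟶ H) [IsMonHom f]
    (h : ∀ z : specOver k (TrivSqZeroExt k k) ⟶ G, base ≫ z = 1 → z ≫ f = 1 → z = 1) :
    FormallyUnramified f.left := by
  let e₁ : Spec (CommRingCat.of k) ⟶ H.left := η[H].left
  have he₁ : e₁ ≫ H.hom = 𝟙 _ := Over.w η[H]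
  have : LocallyOfFiniteType (e₁ ≫ H.hom) := by rw [he₁]; infer_instance
  have : LocallyOfFiniteType e₁ := locallyOfFiniteType_of_comp e₁ H.hom
  let N : Over (Spec (CommRingCat.of k)) := Over.mk (pullback.fst f.left e₁ ≫ G.hom)
  have : LocallyOfFiniteType N.hom :=
    inferInstanceAs (LocallyOfFiniteType (pullback.fst f.left e₁ ≫ G.hom))
  let i : N ⟶ G := Over.homMk (pullback.fst f.left e₁) rfl
  have hN : N.hom = pullback.snd f.left e₁ := by
    show pullback.fst f.left e₁ ≫ G.hom = _
    rw [← Over.w f, pullback.condition_assoc, he₁, Category.comp_id]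
  have hif : i ≫ f = toUnit N ≫ η[H] := by
    refine Over.OverMorphism.ext ?_
    show pullback.fst f.left e₁ ≫ f.left = N.hom ≫ e₁
    rw [hN, pullback.condition]
  have hef : η[G].left ≫ f.left = e₁ := congr(($(IsMonHom.one_hom f)).left)
  let n : 𝟙_ (Over (Spec (CommRingCat.of k))) ⟶ N := Over.homMk
    (pullback.lift η[G].left (𝟙 (Spec (CommRingCat.of k))) (hef.trans (Category.id_comp _).symm)) (by
      show _ ≫ pullback.fst f.left e₁ ≫ G.hom = _
      rw [pullback.lift_fst_assoc]
      exact Over.w η[G])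
  have hni : n ≫ i = η[G] := Over.OverMorphism.ext (pullback.lift_fst _ _ _)
  have hi : Mono i := by
    have : Mono e₁ := by
      refine ⟨fun a b hab ↦ ?_⟩
      have := congrArg (· ≫ H.hom) hab
      simpa [Category.assoc, he₁] using this
    have : Mono i.left := inferInstanceAs (Mono (pullback.fst f.left e₁))
    exact Over.mono_of_mono_left i
  have hn : IsOpenImmersion n.left := isOpenImmersion_of_tangent_trivial n fun z hz ↦ by
    rw [← cancel_mono i, Category.assoc, hni]
    refine h (z ≫ i) ?_ ?_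
    · rw [reassoc_of% hz, hni]; rfl
    · rw [Category.assoc, hif, ← Category.assoc]; exact congrArg (· ≫ η[H]) (toUnit_unique _ _)
  let P : Over (Spec (CommRingCat.of k)) := Over.mk (pullback.fst f.left f.left ≫ G.hom)
  let a : P ⟶ G := Over.homMk (pullback.fst f.left f.left) rfl
  let b : P ⟶ G := Over.homMk (pullback.snd f.left f.left) (by
    show pullback.snd f.left f.left ≫ G.hom = pullback.fst f.left f.left ≫ G.hom
    rw [← Over.w f, pullback.condition_assoc])
  have hab : a ≫ f = b ≫ f := Over.OverMorphism.ext pullback.condition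
  have hd : (a / b) ≫ f = 1 := by rw [GrpObj.div_comp, hab, _root_.div_self']
  let d : P ⟶ N := Over.homMk (pullback.lift (a / b).left P.hom (congr(($hd).left))) (by
    show _ ≫ pullback.fst f.left e₁ ≫ G.hom = _
    rw [pullback.lift_fst_assoc]
    exact Over.w (a / b))
  have hdi : d ≫ i = a / b := Over.OverMorphism.ext (pullback.lift_fst _ _ _)
  let Δ : G ⟶ P := Over.homMk (pullback.diagonal f.left) (by
    show _ ≫ pullback.fst f.left f.left ≫ G.hom = _
    rw [pullback.diagonal_fst_assoc])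
  have ha : Δ ≫ a = 𝟙 G := Over.OverMorphism.ext (pullback.diagonal_fst _)
  have hb : Δ ≫ b = 𝟙 G := Over.OverMorphism.ext (pullback.diagonal_snd _)
  have hsq : IsPullback (toUnit G) Δ n d := by
    refine ⟨⟨?_⟩, ⟨PullbackCone.IsLimit.mk _ (fun s ↦ s.snd ≫ a) (fun s ↦ toUnit_unique _ _)
      (fun s ↦ ?_) (fun s m _ hm ↦ ?_)⟩⟩
    · rw [← cancel_mono i, Category.assoc, Category.assoc, hni, hdi, GrpObj.comp_div, ha, hb,
        _root_.div_self']
      rfl
    · have h1 := congrArg (· ≫ i) s.condition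
      simp only [Category.assoc, hni, hdi, GrpObj.comp_div] at h1
      have h2 : s.snd ≫ a = s.snd ≫ b := by
        rw [← div_eq_one, ← h1]
        exact congrArg (· ≫ η[G]) (toUnit_unique _ _)
      refine Over.OverMorphism.ext (pullback.hom_ext ?_ ?_)
      · show ((s.snd ≫ a).left ≫ pullback.diagonal f.left) ≫ _ = _
        rw [Category.assoc, pullback.diagonal_fst, Category.comp_id]
        rfl
      · show ((s.snd ≫ a).left ≫ pullback.diagonal f.left) ≫ _ = _
        rw [Category.assoc, pullback.diagonal_snd, Category.comp_id, h2]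
        rfl
    · rw [← hm, Category.assoc, ha, Category.comp_id]
  have : IsOpenImmersion (pullback.diagonal f.left) :=
    MorphismProperty.of_isPullback (P := @IsOpenImmersion) (hsq.map (Over.forget _)) hn
  infer_instance

end Groth.GrpschAbsch
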