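import Groth.Agent.GrpschAbsch.AffLine
import Groth.Agent.AlgGrp1.Geom
import Groth.Agent.AbSchBiext.Bilinear
import Groth.Agent.AlgGrp2.DiagBaseChange
import Groth.Agent.Reductive.TrivialLocus
import Groth.Agent.Reductive.TorusMT
import Groth.Agent.Reductive2.FieldPts

/-!
A homomorphism from a torus to an abelian scheme is trivial.
-/

set_option autoImplicit false
set_option linter.style.haveILetI false
universe u

open CategoryTheory CategoryTheory.Limits MonoidalCategory CartesianMonoidalCategory MonObj GrpObj AlgebraicGeometry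
open Groth.GrpschAbsch.RationalToAbelian

noncomputable section

namespace Groth.GrpschAbsch.TorusToAbelian

variable (K : Type u) [Field K] (r : ℕ)

/-- The coordinates of the split torus in affine space. -/
def toLaurent : MvPolynomial (Fin r) K →+* MonoidAlgebra K (Multiplicative (Fin r → ℤ)) :=
  MvPolynomial.eval₂Hom MonoidAlgebra.singleOneRingHom
    fun i => MonoidAlgebra.single (Multiplicative.ofAdd (Pi.single i 1)) 1

theorem toLaurent_monomial (d : Fin r →₀ ℕ) (c : K) :
    toLaurent K r (MvPolynomial.monomial d c) =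
      MonoidAlgebra.single (Multiplicative.ofAdd fun i => (d i : ℤ)) c := by
  induction d using Finsupp.induction generalizing c with
  | zero =>
    show toLaurent K r (MvPolynomial.C c) = _
    rw [toLaurent, MvPolynomial.eval₂Hom_C]
    rfl
  | single_add i n d _ _ ih =>
    rw [show MvPolynomial.monomial (Finsupp.single i n + d) c =
        MvPolynomial.X i ^ n * MvPolynomial.monomial d c by
      rw [MvPolynomial.X_pow_eq_monomial, MvPolynomial.monomial_mul, _root_.one_mul]]
    rw [_root_.map_mul, map_pow, ih]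
    rw [toLaurent, MvPolynomial.eval₂Hom_X', MonoidAlgebra.single_pow, one_pow, MonoidAlgebra.single_mul_single,
      _root_.one_mul, ← ofAdd_nsmul, ← ofAdd_add]
    congr 2
    funext j
    rcases eq_or_ne j i with rfl | h <;> simp [*]

theorem injective_toLaurent : Function.Injective (toLaurent K r) := by
  rw [injective_iff_map_eq_zero]
  intro p hp
  ext d
  have h : (toLaurent K r p).coeff (Multiplicative.ofAdd fun i => (d i : ℤ)) = MvPolynomial.coeff d p := by
    clear hp
    induction p using MvPolynomial.induction_on' with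
    | monomial e c =>
      classical
      rw [toLaurent_monomial, MonoidAlgebra.coeff_single, Finsupp.single_apply, MvPolynomial.coeff_monomial]
      have : (Multiplicative.ofAdd fun i => (e i : ℤ)) = Multiplicative.ofAdd (fun i => (d i : ℤ)) ↔ e = d :=
        ⟨fun h => Finsupp.ext fun i => by exact_mod_cast congrFun (Multiplicative.ofAdd.injective h) i,
          fun h => by rw [h]⟩
      simp only [this]
    | add a b ha hb => rw [map_add, MvPolynomial.coeff_add, ← ha, ← hb]; rfl
  rw [← h, hp, MvPolynomial.coeff_zero]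
  rfl

theorem isLocalization_toLaurent :
    @IsLocalization _ _ (Submonoid.powers (∏ i : Fin r, (MvPolynomial.X i : MvPolynomial (Fin r) K))) _ _
      (toLaurent K r).toAlgebra := by
  let := (toLaurent K r).toAlgebra
  have hpx : ∀ n : ℕ, toLaurent K r ((∏ i : Fin r, MvPolynomial.X i) ^ n) =
      MonoidAlgebra.single (Multiplicative.ofAdd fun _ : Fin r => (n : ℤ)) 1 := by
    intro n
    rw [show (∏ i : Fin r, (MvPolynomial.X i : MvPolynomial (Fin r) K)) =
      MvPolynomial.monomial (Finsupp.equivFunOnFinite.symm fun _ => 1) 1 by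
        rw [MvPolynomial.monomial_eq, _root_.map_one, _root_.one_mul, Finsupp.prod_fintype _ _ fun i => pow_zero _]
        simp, MvPolynomial.monomial_pow, one_pow, toLaurent_monomial]
    congr 2
    funext i
    simp
  refine ⟨?_, ?_, ?_⟩
  · rintro ⟨_, n, rfl⟩
    show IsUnit (toLaurent K r (_ ^ n))
    rw [hpx]
    refine IsUnit.of_mul_eq_one (MonoidAlgebra.single (Multiplicative.ofAdd fun _ : Fin r => (n : ℤ))⁻¹ 1) ?_
    rw [MonoidAlgebra.single_mul_single, _root_.mul_inv_cancel, _root_.one_mul]
    rfl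
  · suffices h : ∀ z, ∃ (n : ℕ) (p : MvPolynomial (Fin r) K),
        z * toLaurent K r ((∏ i : Fin r, MvPolynomial.X i) ^ n) = toLaurent K r p by
      intro z
      obtain ⟨n, p, hp⟩ := h z
      exact ⟨⟨p, ⟨_, n, rfl⟩⟩, hp⟩
    intro z
    induction z using MonoidAlgebra.induction_on with
    | of m =>
      obtain ⟨N, hN⟩ : ∃ N : ℕ, ∀ i, 0 ≤ m.toAdd i + N := by
        refine ⟨∑ i, (m.toAdd i).natAbs, fun i => ?_⟩
        have := Finset.single_le_sum (f := fun i => (m.toAdd i).natAbs) (fun _ _ => Nat.zero_le _) (Finset.mem_univ i)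
        omega
      refine ⟨N, MvPolynomial.monomial (Finsupp.equivFunOnFinite.symm fun i => (m.toAdd i + N).toNat) 1, ?_⟩
      rw [hpx, MonoidAlgebra.of_apply, MonoidAlgebra.single_mul_single, _root_.one_mul, toLaurent_monomial]
      congr 1
      apply Multiplicative.toAdd.injective
      funext i
      simp
      exact hN i
    | add a b ha hb =>
      obtain ⟨n, p, hp⟩ := ha
      obtain ⟨n', p', hp'⟩ := hb
      refine ⟨n + n', p * (∏ i : Fin r, MvPolynomial.X i) ^ n' + p' * (∏ i : Fin r, MvPolynomial.X i) ^ n, ?_⟩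
      rw [map_add, _root_.map_mul _ p, _root_.map_mul _ p', ← hp, ← hp', pow_add, _root_.map_mul]
      ring
    | smul c a ha =>
      obtain ⟨n, p, hp⟩ := ha
      refine ⟨n, MvPolynomial.C c * p, ?_⟩
      rw [_root_.map_mul, ← hp, show toLaurent K r (MvPolynomial.C c) = algebraMap K _ c from
        MvPolynomial.eval₂Hom_C _ _ c, ← Algebra.smul_def, smul_mul_assoc]
  · intro x y h
    exact ⟨1, by rw [OneMemClass.coe_one, _root_.one_mul, _root_.one_mul]; exact injective_toLaurent K r h⟩

variable {K} {r}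

/-- A morphism from a split torus to an abelian variety is constant. -/
theorem diag_const (A : Over (Spec (CommRingCat.of K))) [GrpObj A] [IsProper A.hom] [GeometricallyIntegral A.hom]
    (φ : Red.diag K (Fin r → ℤ) ⟶ A) : ∃ c : 𝟙_ _ ⟶ A, φ = toUnit _ ≫ c := by
  let := (toLaurent K r).toAlgebra
  have := isLocalization_toLaurent K r
  let j : Red.diag K (Fin r → ℤ) ⟶ Aff K r := Over.homMk (Spec.map (CommRingCat.ofHom (toLaurent K r))) (by
    show Spec.map _ ≫ Spec.map _ = Spec.map _
    rw [← Spec.map_comp, ← CommRingCat.ofHom_comp]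
    exact congrArg (fun h => Spec.map (CommRingCat.ofHom h)) (RingHom.ext fun c => MvPolynomial.eval₂Hom_C _ _ c))
  have : IsOpenImmersion j.left :=
    IsOpenImmersion.of_isLocalization (∏ i : Fin r, (MvPolynomial.X i : MvPolynomial (Fin r) K))
  let U := j.left.opensRange
  have hU : (U : Set (Aff K r).left).Nonempty := by
    obtain ⟨x⟩ : Nonempty (Red.diag K (Fin r → ℤ)).left :=
      inferInstanceAs (Nonempty ↥(Spec (CommRingCat.of (MonoidAlgebra K (Multiplicative (Fin r → ℤ))))))
    exact ⟨_, x, rfl⟩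
  obtain ⟨g, hg, hgU⟩ := Groth.Agent.S11992.result K (Aff K r).left (Aff K r).hom A U hU
    (j.left.isoOpensRange.inv ≫ φ.left)
    (by rw [Category.assoc, Over.w φ, ← Over.w j, ← Category.assoc, Scheme.Hom.isoOpensRange_inv_comp])
  let h : Aff K r ⟶ A := Over.homMk g hg
  have hh : j ≫ h = φ := by
    refine Over.OverMorphism.ext ?_
    show j.left ≫ g = φ.left
    rw [← Scheme.Hom.isoOpensRange_hom_ι j.left, Category.assoc, hgU, Iso.hom_inv_id_assoc]
  refine ⟨zeroPt K r ≫ h, ?_⟩
  rw [← hh]
  conv_lhs => rw [aff_const A h]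
  rw [← Category.assoc, toUnit_unique (j ≫ toUnit _) (toUnit _)]

variable {S : Scheme.{u}}

/-- A homomorphism from a torus to an abelian scheme is trivial. -/
theorem eq_one (T A : Over S) [GrpObj T] (hT : Red.IsTorus T) [GrpObj A] [Smooth A.hom] [IsProper A.hom]
    (hA : ∀ s : S, ConnectedSpace ↥(A.hom.fiber s)) (u : T ⟶ A) [IsMonHom u] : u = 1 := by
  open Groth.Reductive.FreeDiag in
  obtain ⟨U, -, hU, htriv⟩ := exists_clopen_trivLocus' (u := u) (Groth.Reductive.FreeDiag.isMultTypeFT_of_isTorus hT)
    (Or.inr inferInstance)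
  haveI := Groth.AbSchBiext.geometricallyConnected_of_unit A hA
  obtain ⟨S', f, _, hf, -, hloc⟩ := hT
  have hmem : ∀ s : S, s ∈ U := by
    intro s
    rw [hU, Groth.Reductive.FreeDiag.pullback_map_eq_one_iff]
    obtain ⟨s', hs'⟩ := hf.surj s
    obtain ⟨V, hV, r, ⟨e⟩⟩ := hloc s'
    let k0 := (V : Scheme.{u}).residueField ⟨s', hV⟩
    let L := AlgebraicClosure k0
    let p : Spec (CommRingCat.of L) ⟶ (V : Scheme.{u}) :=
      Spec.map (CommRingCat.ofHom (algebraMap k0 L)) ≫ (V : Scheme.{u}).fromSpecResidueField ⟨s', hV⟩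
    let q := p ≫ V.ι ≫ f
    have hq : q.base (IsLocalRing.closedPoint L) = s := by
      have h1 : p.base (IsLocalRing.closedPoint L) = ⟨s', hV⟩ := by
        show ((V : Scheme.{u}).fromSpecResidueField ⟨s', hV⟩).base _ = _
        exact Scheme.fromSpecResidueField_apply _ _
      show f.base (V.ι.base (p.base _)) = s
      rw [h1]
      exact hs'
    let e' : Red.DS (V : Scheme.{u}) (Fin r → ℤ) ≅ Red.bc (V.ι ≫ f) T := (Grp.forget _).mapIso e.symm
    haveI : IsMonHom e'.hom := inferInstanceAs (IsMonHom e.inv.hom.hom)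
    obtain ⟨i, hi⟩ := Groth.Reductive.FreeDiag.exists_trivialisation_comp T p (V.ι ≫ f) e'
    haveI := hi
    let A' := Red.bc q A
    haveI : IsProper A'.hom := inferInstanceAs (IsProper (pullback.snd A.hom q))
    haveI : Smooth A'.hom := inferInstanceAs (Smooth (pullback.snd A.hom q))
    haveI : GeometricallyConnected A'.hom := inferInstanceAs (GeometricallyConnected (pullback.snd A.hom q))
    haveI : ConnectedSpace A'.left := GeometricallyConnected.connectedSpace_of_subsingleton A'.hom
    haveI : GeometricallyIntegral A'.hom := Groth.AlgGrp1.geometricallyIntegral_of_smooth A'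
    let φ : Red.DS (Spec (CommRingCat.of L)) (Fin r → ℤ) ⟶ A' := i.hom ≫ (Over.pullback q).map u
    obtain ⟨c, hc⟩ := diag_const A' ((Groth.AlgGrp2.diagIsoDS L (Fin r → ℤ)).hom ≫ φ)
    have hφ : φ = toUnit _ ≫ c := by
      rw [← cancel_epi (Groth.AlgGrp2.diagIsoDS L (Fin r → ℤ)).hom, hc, ← Category.assoc,
        toUnit_unique (_ ≫ toUnit _) (toUnit _)]
    have hc1 : c = η[A'] := by
      have h1 : η[Red.DS (Spec (CommRingCat.of L)) (Fin r → ℤ)] ≫ φ = η[A'] := by
        rw [← Category.assoc, IsMonHom.one_hom i.hom, IsMonHom.one_hom]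
      rw [hφ, ← Category.assoc, toUnit_unique (_ ≫ toUnit _) (𝟙 _), Category.id_comp] at h1
      exact h1
    have hu : (Over.pullback q).map u = 1 := by
      rw [← cancel_epi i.hom, show i.hom ≫ (Over.pullback q).map u = φ from rfl, hφ, hc1, MonObj.comp_one,
        Hom.one_def]
    have h2 := (Groth.Reductive.FreeDiag.trivOn_fieldPoint_iff (u := u) L q).mp
      ((Groth.Reductive.FreeDiag.pullback_map_eq_one_iff q).mp hu)
    rwa [hq] at h2
  have hlift : (𝟙 S : S ⟶ S) = IsOpenImmersion.lift U.ι (𝟙 S) (by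
      rw [Scheme.Opens.range_ι]; exact fun s _ => hmem s) ≫ U.ι := (IsOpenImmersion.lift_fac _ _ _).symm
  let a : Over.mk (𝟙 S) ⟶ Over.mk U.ι := Over.homMk (IsOpenImmersion.lift U.ι (𝟙 S) (by
      rw [Scheme.Opens.range_ι]; exact fun s _ => hmem s)) hlift.symm
  have h := (htriv.of_hom a) T (Over.homMk T.hom (Category.comp_id _)) (𝟙 T)
  rwa [Category.id_comp] at h

end Groth.GrpschAbsch.TorusToAbelian
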