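import Mathlib.RingTheory.WittVector.Frobenius
import Mathlib.RingTheory.WittVector.Verschiebung
import Mathlib.RingTheory.WittVector.Identities
import Mathlib.RingTheory.WittVector.Teichmuller
import Mathlib.RingTheory.WittVector.Truncated
import Groth.Prelude.Def_WittGrp
import Groth.Agent.GrpschAbsch.Cocycle
import Mathlib.FieldTheory.Perfect
import Mathlib.RingTheory.Polynomial.Basic
import Mathlib.Algebra.MvPolynomial.Funext

/-!
The operators `∑_j V^j ∑_i [c_{ji}] F^i` on Witt vectors, full and truncated.
-/

universe u v

namespace Groth.GrpschAbsch.WittOp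

open WittVector

variable (p : ℕ) [hp : Fact p.Prime] {k : Type u} [CommRing k] {R : Type v} [CommRing R]

/-- `∑_i [c_i] F^i`. -/
noncomputable def lin (ι : k →+* R) : List k → WittVector p R → WittVector p R
  | [], _ => 0
  | c :: l, X => teichmuller p (ι c) * X + lin ι l (frobenius X)

/-- `∑_j V^j ∘ (∑_i [c_{ji}] F^i)`. -/
noncomputable def op (ι : k →+* R) : List (List k) → WittVector p R → WittVector p R
  | [], _ => 0
  | l :: L, X => lin p ι l X + verschiebung (op ι L X)

lemma lin_add (ι : k →+* R) (l : List k) (X Y : WittVector p R) :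
    lin p ι l (X + Y) = lin p ι l X + lin p ι l Y := by
  induction l generalizing X Y with
  | nil => simp [lin]
  | cons c l ih => simp only [lin, map_add, ih]; ring

lemma op_add (ι : k →+* R) (L : List (List k)) (X Y : WittVector p R) :
    op p ι L (X + Y) = op p ι L X + op p ι L Y := by
  induction L generalizing X Y with
  | nil => simp [op]
  | cons l L ih => simp only [op, lin_add, ih, map_add]; ring

/-- Frobenius of a Teichmüller representative. -/
lemma frobenius_teichmuller [CharP R p] (r : R) :
    frobenius (teichmuller p r) = teichmuller p (r ^ p) := by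
  ext n
  rw [coeff_frobenius_charP]
  cases n with
  | zero => rw [teichmuller_coeff_zero, teichmuller_coeff_zero]
  | succ n =>
    rw [teichmuller_coeff_pos p _ _ n.succ_pos, teichmuller_coeff_pos p _ _ n.succ_pos,
      zero_pow hp.out.ne_zero]

lemma map_frobenius_charP {R' : Type v} [CommRing R'] [CharP R p] [CharP R' p] (f : R →+* R')
    (X : WittVector p R) : WittVector.map f (frobenius X) = frobenius (WittVector.map f X) := by
  ext n
  simp [coeff_frobenius_charP]

lemma map_lin {R' : Type v} [CommRing R'] [CharP R p] [CharP R' p] (f : R →+* R') (ι : k →+* R)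
    (l : List k) (X : WittVector p R) :
    WittVector.map f (lin p ι l X) = lin p (f.comp ι) l (WittVector.map f X) := by
  induction l generalizing X with
  | nil => simp [lin]
  | cons c l ih =>
    simp only [lin, map_add, map_mul, map_teichmuller, ih, map_frobenius_charP, RingHom.comp_apply]

lemma map_op {R' : Type v} [CommRing R'] [CharP R p] [CharP R' p] (f : R →+* R') (ι : k →+* R)
    (L : List (List k)) (X : WittVector p R) :
    WittVector.map f (op p ι L X) = op p (f.comp ι) L (WittVector.map f X) := by
  induction L generalizing X with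
  | nil => simp [op]
  | cons l L ih => simp only [op, map_add, map_lin, map_verschiebung, ih]

lemma truncate_frobenius [CharP R p] {n : ℕ} {X Y : WittVector p R}
    (h : truncate n X = truncate n Y) : truncate n (frobenius X) = truncate n (frobenius Y) := by
  ext i
  have := congrArg (TruncatedWittVector.coeff i) h
  simp only [coeff_truncate] at this
  simp [coeff_frobenius_charP, this]

lemma truncate_verschiebung {n : ℕ} {X Y : WittVector p R}
    (h : truncate n X = truncate n Y) :
    truncate n (verschiebung X) = truncate n (verschiebung Y) := by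
  ext ⟨i, hi⟩
  rw [coeff_truncate, coeff_truncate]
  cases i with
  | zero => rw [verschiebung_coeff_zero, verschiebung_coeff_zero]
  | succ i =>
    have := congrArg (TruncatedWittVector.coeff ⟨i, by omega⟩) h
    simp only [coeff_truncate] at this
    rw [verschiebung_coeff_succ, verschiebung_coeff_succ]
    exact this

lemma truncate_lin [CharP R p] (ι : k →+* R) {n : ℕ} (l : List k) {X Y : WittVector p R}
    (h : truncate n X = truncate n Y) : truncate n (lin p ι l X) = truncate n (lin p ι l Y) := by
  induction l generalizing X Y with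
  | nil => rfl
  | cons c l ih => simp only [lin, map_add, map_mul, h, ih (truncate_frobenius p h)]

lemma truncate_op [CharP R p] (ι : k →+* R) {n : ℕ} (L : List (List k)) {X Y : WittVector p R}
    (h : truncate n X = truncate n Y) : truncate n (op p ι L X) = truncate n (op p ι L Y) := by
  induction L generalizing X Y with
  | nil => rfl
  | cons l L ih => simp only [op, map_add, truncate_lin p ι l h, truncate_verschiebung p (ih h)]

/-- Apply `c ↦ c ^ q` to all the coefficients. -/
def powList (q : ℕ) (L : List (List k)) : List (List k) := L.map (List.map (· ^ q))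

lemma lin_verschiebung [CharP R p] (ι : k →+* R) (l : List k) (X : WittVector p R) :
    lin p ι l (verschiebung X) = verschiebung (lin p ι (l.map (· ^ p)) X) := by
  induction l generalizing X with
  | nil => simp [lin]
  | cons c l ih =>
    have h1 : frobenius (verschiebung X) = verschiebung (frobenius X) :=
      (verschiebung_frobenius_comm X).symm
    simp only [lin, List.map_cons, h1, ih, map_add]
    rw [map_pow ι, ← frobenius_teichmuller, mul_comm (teichmuller p (ι c)),
      ← verschiebung_mul_frobenius, mul_comm X]

lemma op_verschiebung [CharP R p] (ι : k →+* R) (L : List (List k)) (X : WittVector p R) :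
    op p ι L (verschiebung X) = verschiebung (op p ι (powList p L) X) := by
  induction L generalizing X with
  | nil => simp [op, powList]
  | cons l L ih =>
    have e : powList p (l :: L) = l.map (· ^ p) :: powList p L := rfl
    simp only [op, e, lin_verschiebung, map_add, ih]

lemma powList_one (L : List (List k)) : powList 1 L = L := by
  simp [powList]

lemma powList_powList (q q' : ℕ) (L : List (List k)) :
    powList q (powList q' L) = powList (q' * q) L := by
  simp [powList, List.map_map, Function.comp_def, ← pow_mul]

lemma op_verschiebung_iterate [CharP R p] (ι : k →+* R) (L : List (List k)) (d : ℕ)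
    (X : WittVector p R) :
    op p ι L (verschiebung^[d] X) = verschiebung^[d] (op p ι (powList (p ^ d) L) X) := by
  induction d generalizing L with
  | zero => simp [powList_one]
  | succ d ih =>
    rw [Function.iterate_succ_apply', op_verschiebung, ih, powList_powList, ← pow_succ',
      Function.iterate_succ_apply']

lemma lin_frobenius [CharP R p] (ι : k →+* R) (l : List k) (X : WittVector p R) :
    lin p ι (l.map (· ^ p)) (frobenius X) = frobenius (lin p ι l X) := by
  induction l generalizing X with
  | nil => simp [lin]
  | cons c l ih => simp only [lin, List.map_cons, ih, map_add, map_mul, map_pow, frobenius_teichmuller]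

lemma op_frobenius [CharP R p] (ι : k →+* R) (L : List (List k)) (X : WittVector p R) :
    op p ι (powList p L) (frobenius X) = frobenius (op p ι L X) := by
  induction L generalizing X with
  | nil => simp [op, powList]
  | cons l L ih =>
    have h1 : ∀ Y : WittVector p R, frobenius (verschiebung Y) = verschiebung (frobenius Y) :=
      fun Y ↦ (verschiebung_frobenius_comm Y).symm
    have e : powList p (l :: L) = l.map (· ^ p) :: powList p L := rfl
    simp only [op, e, lin_frobenius, map_add, ih, h1]

/-- The value of `lin` on the zeroth component. -/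
def evalList : List R → R → R
  | [], _ => 0
  | c :: l, a => c * a + evalList l (a ^ p)

lemma lin_coeff_zero [CharP R p] (ι : k →+* R) (l : List k) (X : WittVector p R) :
    (lin p ι l X).coeff 0 = evalList p (l.map ι) (X.coeff 0) := by
  induction l generalizing X with
  | nil => simp [lin, evalList]
  | cons c l ih =>
    simp only [lin, List.map_cons, evalList, WittVector.add_coeff_zero, WittVector.mul_coeff_zero,
      ih, teichmuller_coeff_zero, coeff_frobenius_charP]

lemma evalList_ofFn {N : ℕ} (f : Fin N → R) (a : R) :
    evalList p (List.ofFn f) a = ∑ i, f i * a ^ p ^ (i : ℕ) := by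
  induction N generalizing a with
  | zero => simp [evalList]
  | succ N ih =>
    rw [List.ofFn_succ, evalList, ih, Fin.sum_univ_succ]
    simp [← pow_mul, ← pow_succ']

/-- The truncated operator. -/
noncomputable def opT (ι : k →+* R) (n : ℕ) (L : List (List k))
    (x : TruncatedWittVector p n R) : TruncatedWittVector p n R :=
  truncate n (op p ι L x.out)

lemma truncate_out {n : ℕ} (x : TruncatedWittVector p n R) : truncate n x.out = x := by
  ext i; rw [coeff_truncate]; simp [TruncatedWittVector.out]

variable [CharP R p]

lemma opT_truncate (ι : k →+* R) (n : ℕ) (L : List (List k)) (X : WittVector p R) :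
    opT p ι n L (truncate n X) = truncate n (op p ι L X) :=
  truncate_op p ι L (truncate_out p _)

lemma opT_add (ι : k →+* R) (n : ℕ) (L : List (List k)) (x y : TruncatedWittVector p n R) :
    opT p ι n L (x + y) = opT p ι n L x + opT p ι n L y := by
  conv_lhs => rw [← truncate_out p x, ← truncate_out p y, ← map_add]
  rw [opT_truncate, op_add, map_add]
  rfl

lemma truncMap_opT {R' : Type v} [CommRing R'] [CharP R' p] (f : R →+* R') (ι : k →+* R) (n : ℕ)
    (L : List (List k)) (x : TruncatedWittVector p n R) :
    WittGrp.truncMap p n f (opT p ι n L x) = opT p (f.comp ι) n L (WittGrp.truncMap p n f x) := by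
  obtain ⟨X, rfl⟩ := WittVector.truncate_surjective p n R x
  rw [opT_truncate, WittGrp.truncMap_truncate, WittGrp.truncMap_truncate, opT_truncate, map_op]

lemma opT_cons_nil (ι : k →+* R) (n : ℕ) (l : List k) (X : WittVector p R) :
    opT p ι n [l] (truncate n X) = truncate n (lin p ι l X) := by
  simp [opT_truncate, op]

lemma opT_truncateLE (ι : k →+* R) {n m : ℕ} (h : n ≤ m) (L : List (List k))
    (x : TruncatedWittVector p m R) :
    TruncatedWittVector.truncate h (opT p ι m L x) = opT p ι n L (TruncatedWittVector.truncate h x) := by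
  obtain ⟨X, rfl⟩ := WittVector.truncate_surjective p m R x
  rw [opT_truncate, TruncatedWittVector.truncate_wittVector_truncate,
    TruncatedWittVector.truncate_wittVector_truncate, opT_truncate]

lemma opT_shift (ι : k →+* R) {n m : ℕ} (h : n ≤ m) (L : List (List k))
    (x : TruncatedWittVector p n R) :
    opT p ι m L (WittGrp.shift p h x) =
      WittGrp.shift p h (opT p ι n (powList (p ^ (m - n)) L) x) := by
  obtain ⟨X, rfl⟩ := WittVector.truncate_surjective p n R x
  rw [WittGrp.shift_truncate, opT_truncate, opT_truncate, WittGrp.shift_truncate,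
    op_verschiebung_iterate]

lemma opT_frob (ι : k →+* R) (n : ℕ) (L : List (List k)) (hR : (p : R) = 0)
    (x : TruncatedWittVector p n R) :
    opT p ι n (powList p L) (WittGrp.frob p n hR x) = WittGrp.frob p n hR (opT p ι n L x) := by
  obtain ⟨X, rfl⟩ := WittVector.truncate_surjective p n R x
  rw [WittGrp.frob_truncate, opT_truncate, opT_truncate, WittGrp.frob_truncate, op_frobenius]

lemma coeff_nsmul {n : ℕ} (x : TruncatedWittVector p n R) (i : Fin n) :
    (p • x).coeff i = if h : (i : ℕ) = 0 then 0 else x.coeff ⟨(i : ℕ) - 1, by omega⟩ ^ p := by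
  obtain ⟨X, rfl⟩ := WittVector.truncate_surjective p n R x
  rw [← map_nsmul, nsmul_eq_mul, mul_comm, coeff_truncate]
  split_ifs with h
  · rw [h]; exact WittVector.mul_charP_coeff_zero X
  · obtain ⟨j, hj⟩ : ∃ j, (i : ℕ) = j + 1 := ⟨(i : ℕ) - 1, by omega⟩
    rw [coeff_truncate]
    show _ = X.coeff ((i : ℕ) - 1) ^ p
    rw [hj, Nat.add_sub_cancel]
    exact WittVector.mul_charP_coeff_succ X j

/-- The first `j` components vanish. -/
def Zeros {n : ℕ} (j : ℕ) (x : TruncatedWittVector p n R) : Prop :=
  ∀ i : Fin n, (i : ℕ) < j → x.coeff i = 0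

omit [CharP R p] in
lemma coeff_add_zero {n : ℕ} (x y : TruncatedWittVector p n R) (h : 0 < n) :
    (x + y).coeff ⟨0, h⟩ = x.coeff ⟨0, h⟩ + y.coeff ⟨0, h⟩ := by
  obtain ⟨X, rfl⟩ := WittVector.truncate_surjective p n R x
  obtain ⟨Y, rfl⟩ := WittVector.truncate_surjective p n R y
  simp only [← map_add, coeff_truncate]
  exact WittVector.add_coeff_zero X Y

/-- Additive maps between truncated Witt vectors over a perfect ring shift the zeros. -/
lemma zeros_of_additive [PerfectRing R p] {a b : ℕ}
    (h : TruncatedWittVector p a R →+ TruncatedWittVector p b R) (e : ℕ)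
    (he : ∀ x, Zeros p e (h x)) (j : ℕ) {x : TruncatedWittVector p a R} (hx : Zeros p j x) :
    Zeros p (j + e) (h x) := by
  induction j generalizing x with
  | zero => simpa using he x
  | succ j ih =>
    let z : TruncatedWittVector p a R := TruncatedWittVector.mk p fun i ↦
      if hi : (i : ℕ) + 1 < a then (frobeniusEquiv R p).symm (x.coeff ⟨(i : ℕ) + 1, hi⟩) else 0
    have hz : Zeros p j z := fun i hi ↦ by
      simp only [z, TruncatedWittVector.coeff_mk]
      split_ifs with h'
      · rw [hx ⟨(i : ℕ) + 1, h'⟩ (by simp; omega), map_zero]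
      · rfl
    have hxz : p • z = x := by
      ext ⟨i, hi⟩
      rw [coeff_nsmul]
      split_ifs with h'
      · exact (hx _ (by simp_all)).symm
      · simp only [z, TruncatedWittVector.coeff_mk]
        rw [dif_pos (show i - 1 + 1 < a by simp at h'; omega)]
        rw [frobeniusEquiv_symm_pow_p]
        congr 1
        ext; simp at h' ⊢; omega
    intro i hi
    rw [← hxz, map_nsmul, coeff_nsmul]
    split_ifs with h'
    · rfl
    · rw [ih hz _ (by simp; omega), zero_pow hp.out.ne_zero]

end Groth.GrpschAbsch.WittOp

namespace Groth.GrpschAbsch.WittOp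

open Groth.GrpschAbsch.Char Groth.GrpschAbsch.Cocycle

/-- Additive polynomial functions over an infinite field. -/
lemma exists_evalList_of_additive (p : ℕ) [hp : Fact p.Prime] {k : Type u} [Field k] [Infinite k]
    [CharP k p] (P : Polynomial k) (h : ∀ a b : k, P.eval (a + b) = P.eval a + P.eval b) :
    ∃ l : List k, ∀ a, P.eval a = evalList p l a := by
  have key : cobdry P = 0 := MvPolynomial.funext fun x ↦ by
    have e : ∀ q : MvPolynomial (Fin 2) k,
        MvPolynomial.eval x (Polynomial.aeval q P) = P.eval (MvPolynomial.eval x q) := fun q ↦ by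
      rw [← MvPolynomial.aeval_eq_eval, ← Polynomial.aeval_algHom_apply,
        Polynomial.coe_aeval_eq_eval]
    simp [cobdry, e, h]
  have hc : ∀ i j, ((i + j).choose i : k) * P.coeff (i + j) -
      (if j = 0 then P.coeff i else 0) - (if i = 0 then P.coeff j else 0) = 0 := fun i j ↦ by
    rw [← coeff_cobdry, key]; rfl
  have hz : ∀ n, (∀ s, n ≠ p ^ s) → P.coeff n = 0 := fun n hn ↦ by
    rcases Nat.eq_zero_or_pos n with rfl | hpos
    · have := hc 0 0
      simp at this
      exact this
    · have hle := Nat.pow_log_le_self p hpos.ne'
      have hlt : n < p ^ (Nat.log p n + 1) := Nat.lt_pow_succ_log_self hp.out.one_lt n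
      have hne := hn (Nat.log p n)
      have := hc (p ^ Nat.log p n) (n - p ^ Nat.log p n)
      rw [Nat.add_sub_cancel' hle, if_neg (by omega), if_neg (pow_pos hp.out.pos _).ne', sub_zero,
        sub_zero] at this
      exact (isUnit_choose_pow p hle hlt).mul_right_eq_zero.mp this
  refine ⟨List.ofFn fun i : Fin (P.natDegree + 1) ↦ P.coeff (p ^ (i : ℕ)), fun a ↦ ?_⟩
  rw [evalList_ofFn, Fin.sum_univ_eq_sum_range (fun i ↦ P.coeff (p ^ i) * a ^ p ^ i),
    Polynomial.eval_eq_sum_range]
  have hinj : Function.Injective (p ^ · : ℕ → ℕ) := Nat.pow_right_injective hp.out.two_le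
  rw [← Finset.sum_image (f := fun n ↦ P.coeff n * a ^ n) (g := fun i ↦ p ^ i)
    fun i _ j _ hij ↦ hinj hij]
  refine Eq.trans (Finset.sum_subset_zero_on_sdiff (s₁ := Finset.range (P.natDegree + 1) ∩
    Finset.image (fun i ↦ p ^ i) (Finset.range (P.natDegree + 1)))
    Finset.inter_subset_left (fun n hn ↦ ?_) fun _ _ ↦ rfl).symm
    (Finset.sum_subset_zero_on_sdiff Finset.inter_subset_right (fun n hn ↦ ?_) fun _ _ ↦ rfl)
  · rw [Finset.mem_sdiff, Finset.mem_inter, not_and] at hn
    rw [hz n fun s hs ↦ hn.2 hn.1 (Finset.mem_image.mpr ⟨s, Finset.mem_range.mpr ?_, hs.symm⟩),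
      zero_mul]
    have := Nat.lt_pow_self hp.out.one_lt (n := s)
    have := Finset.mem_range.mp hn.1
    omega
  · rw [Finset.mem_sdiff, Finset.mem_inter, not_and] at hn
    have : ¬ n < P.natDegree + 1 := fun h' ↦ hn.2 (Finset.mem_range.mpr h') hn.1
    rw [Polynomial.coeff_eq_zero_of_natDegree_lt (by omega), zero_mul]

end Groth.GrpschAbsch.WittOp
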